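import Mathlib
import Cfsg.Prelude.Def_Characters
import Cfsg.Agent.CharLib.Orth

set_option autoImplicit false

namespace Cfsg.Agent.Lib.Helper10

open Cfsg Cfsg.Agent.CharLib
open scoped ComplexConjugate

universe u

variable {X : Type u} [Group X] [Fintype X]

/-- an irreducible character up to sign -/
def IsSignedIrr (X : Type u) [Group X] (α : X → ℂ) : Prop := IsIrrCharacter X α ∨ IsIrrCharacter X (-α)

omit [Fintype X] in
theorem IsSignedIrr.exists_eq {α : X → ℂ} (h : IsSignedIrr X α) :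
    ∃ (s : ℂ) (χ : X → ℂ), (s = 1 ∨ s = -1) ∧ IsIrrCharacter X χ ∧ α = s • χ := by
  rcases h with h | h
  · exact ⟨1, α, Or.inl rfl, h, by simp⟩
  · exact ⟨-1, -α, Or.inr rfl, h, by simp⟩

theorem IsSignedIrr.norm {α : X → ℂ} (h : IsSignedIrr X α) : classInner α α = 1 := by
  rcases h with h | h
  · exact classInner_irr_self h
  · have := classInner_irr_self h
    rwa [classInner_neg_left, classInner_neg_right, neg_neg] at this

theorem IsSignedIrr.apply_one_ne_zero {α : X → ℂ} (h : IsSignedIrr X α) : α 1 ≠ 0 := by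
  rcases h with h | h
  · exact irr_apply_one_ne_zero ⟨α, h⟩
  · have := irr_apply_one_ne_zero ⟨-α, h⟩
    simpa using this

theorem IsSignedIrr.cases {α γ : X → ℂ} (hα : IsSignedIrr X α) (hγ : IsSignedIrr X γ) :
    classInner α γ = 0 ∨ ∃ s : ℂ, (s = 1 ∨ s = -1) ∧ α = s • γ := by
  obtain ⟨s, χ, hs, hχ, rfl⟩ := hα.exists_eq
  obtain ⟨t, ψ, ht, hψ, rfl⟩ := hγ.exists_eq
  by_cases h : χ = ψ
  · right
    subst h
    refine ⟨s * t, ?_, ?_⟩
    · rcases hs with rfl | rfl <;> rcases ht with rfl | rfl <;> simp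
    · rw [smul_smul]
      have : s * t * t = s := by
        rcases ht with rfl | rfl <;> ring
      rw [this]
  · left
    rw [classInner_smul_left, classInner_smul_right, classInner_irr_ne hχ hψ h]
    simp

omit [Fintype X] in
theorem IsSignedIrr.neg {α : X → ℂ} (h : IsSignedIrr X α) : IsSignedIrr X (-α) := by
  rcases h with h | h
  · right; rwa [neg_neg]
  · left; exact h

theorem classInner_eq_zero_symm {α β : X → ℂ} (h : classInner α β = 0) : classInner β α = 0 := by
  rw [← classInner_conj_symm, h, map_zero]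

/-- first step of the orthogonality lemma -/
theorem signed_orth_aux {α β γ δ : X → ℂ} (hα : IsSignedIrr X α) (hβ : IsSignedIrr X β) (hγ : IsSignedIrr X γ)
    (hδ : IsSignedIrr X δ) (u' v' u v : ℝ) (hu' : u' ≠ 0) (hv' : v' ≠ 0) (hu : u ≠ 0) (hv : v ≠ 0)
    (hab : classInner α β = 0) (hcd : classInner γ δ = 0)
    (hmix : classInner ((u' : ℂ) • α - (v' : ℂ) • β) ((u : ℂ) • γ - (v : ℂ) • δ) = 0)
    (h1 : (u' : ℂ) * α 1 = (v' : ℂ) * β 1) (h2 : (u : ℂ) * γ 1 = (v : ℂ) * δ 1) : classInner α γ = 0 := by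
  rw [classInner_sub_left, classInner_sub_right, classInner_sub_right, classInner_smul_left, classInner_smul_left,
    classInner_smul_left, classInner_smul_left, classInner_smul_right, classInner_smul_right,
    classInner_smul_right, classInner_smul_right] at hmix
  simp only [Complex.conj_ofReal] at hmix
  rcases hα.cases hγ with h | ⟨s, hs, rfl⟩
  · exact h
  exfalso
  have hs0 : s ≠ 0 := by rcases hs with rfl | rfl <;> simp
  have hss : s * s = 1 := by rcases hs with rfl | rfl <;> simp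
  have hb : classInner (s • γ) δ = 0 := by rw [classInner_smul_left, hcd, mul_zero]
  have hc : classInner β γ = 0 := by
    have := classInner_eq_zero_symm hab
    rw [classInner_smul_right] at this
    rcases mul_eq_zero.1 this with h | h
    · exact absurd ((map_eq_zero _).1 h) hs0
    · exact h
  have ha : classInner (s • γ) γ = s := by rw [classInner_smul_left, hγ.norm, mul_one]
  rw [ha, hb, hc] at hmix
  have hx := hγ.apply_one_ne_zero
  have hu'c : (u' : ℂ) ≠ 0 := by exact_mod_cast hu'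
  have hv'c : (v' : ℂ) ≠ 0 := by exact_mod_cast hv'
  have huc : (u : ℂ) ≠ 0 := by exact_mod_cast hu
  have hvc : (v : ℂ) ≠ 0 := by exact_mod_cast hv
  rcases hβ.cases hδ with h | ⟨t, ht, rfl⟩
  · rw [h] at hmix
    have : (u' : ℂ) * ((u : ℂ) * s) = 0 := by linear_combination hmix
    exact (mul_ne_zero hu'c (mul_ne_zero huc hs0)) this
  · have ht0 : t ≠ 0 := by rcases ht with rfl | rfl <;> simp
    have hd : classInner (t • δ) δ = t := by rw [classInner_smul_left, hδ.norm, mul_one]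
    rw [hd] at hmix
    simp only [Pi.smul_apply, smul_eq_mul] at h1
    -- hmix : u' u s + v' v t = 0 ; h1 : u' s x = v' t y ; h2 : u x = v y
    have e1 : (u' : ℂ) * u * s = - ((v' : ℂ) * v * t) := by linear_combination hmix
    have e2 : ((u' : ℂ) * s * v - v' * t * u) * γ 1 = 0 := by
      linear_combination (v : ℂ) * h1 - (v' : ℂ) * t * h2
    have e3 : (u' : ℂ) * s * v = v' * t * u := by
      rcases mul_eq_zero.1 e2 with h | h
      · exact sub_eq_zero.1 h
      · exact absurd h hx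
    have e4 : (v' : ℂ) * t * ((u : ℂ) ^ 2 + (v : ℂ) ^ 2) = 0 := by
      linear_combination (-(u : ℂ)) * e3 + (v : ℂ) * e1
    have e5 : (u : ℂ) ^ 2 + (v : ℂ) ^ 2 = 0 := by
      rcases mul_eq_zero.1 e4 with h | h
      · exact absurd h (mul_ne_zero hv'c ht0)
      · exact h
    have e6 : u ^ 2 + v ^ 2 = 0 := by exact_mod_cast e5
    have : 0 < u ^ 2 := by positivity
    nlinarith [sq_nonneg v]

/-- The orthogonality lemma (weighted form of Peterfalvi (1.4)). -/
theorem signed_orth {α β γ δ : X → ℂ} (hα : IsSignedIrr X α) (hβ : IsSignedIrr X β) (hγ : IsSignedIrr X γ)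
    (hδ : IsSignedIrr X δ) (u' v' u v : ℝ) (hu' : u' ≠ 0) (hv' : v' ≠ 0) (hu : u ≠ 0) (hv : v ≠ 0)
    (hab : classInner α β = 0) (hcd : classInner γ δ = 0)
    (hmix : classInner ((u' : ℂ) • α - (v' : ℂ) • β) ((u : ℂ) • γ - (v : ℂ) • δ) = 0)
    (h1 : (u' : ℂ) * α 1 = (v' : ℂ) * β 1) (h2 : (u : ℂ) * γ 1 = (v : ℂ) * δ 1) :
    classInner α γ = 0 ∧ classInner α δ = 0 ∧ classInner β γ = 0 ∧ classInner β δ = 0 := by
  have sw1 : ((-v : ℝ) : ℂ) • δ - ((-u : ℝ) : ℂ) • γ = (u : ℂ) • γ - (v : ℂ) • δ := by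
    push_cast; rw [neg_smul, neg_smul]; abel
  have sw2 : ((-v' : ℝ) : ℂ) • β - ((-u' : ℝ) : ℂ) • α = (u' : ℂ) • α - (v' : ℂ) • β := by
    push_cast; rw [neg_smul, neg_smul]; abel
  have d1 : ((-v : ℝ) : ℂ) * δ 1 = ((-u : ℝ) : ℂ) * γ 1 := by push_cast; linear_combination h2
  have d2 : ((-v' : ℝ) : ℂ) * β 1 = ((-u' : ℝ) : ℂ) * α 1 := by push_cast; linear_combination h1
  refine ⟨signed_orth_aux hα hβ hγ hδ u' v' u v hu' hv' hu hv hab hcd hmix h1 h2, ?_, ?_, ?_⟩
  · exact signed_orth_aux hα hβ hδ hγ u' v' (-v) (-u) hu' hv' (neg_ne_zero.2 hv) (neg_ne_zero.2 hu) hab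
      (classInner_eq_zero_symm hcd) (by rw [sw1]; exact hmix) h1 d1
  · exact signed_orth_aux hβ hα hγ hδ (-v') (-u') u v (neg_ne_zero.2 hv') (neg_ne_zero.2 hu') hu hv
      (classInner_eq_zero_symm hab) hcd (by rw [sw2]; exact hmix) d2 h2
  · exact signed_orth_aux hβ hα hδ hγ (-v') (-u') (-v) (-u) (neg_ne_zero.2 hv') (neg_ne_zero.2 hu')
      (neg_ne_zero.2 hv) (neg_ne_zero.2 hu) (classInner_eq_zero_symm hab) (classInner_eq_zero_symm hcd)
      (by rw [sw1, sw2]; exact hmix) d2 d1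

end Cfsg.Agent.Lib.Helper10
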