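import Mathlib
import Cfsg.Prelude.Def_Characters
import Cfsg.Agent.Lib.Helper10.Signed

set_option autoImplicit false

namespace Cfsg.Agent.Lib.Helper10

open Cfsg Cfsg.Agent.CharLib
open scoped ComplexConjugate

universe u

theorem int_sq_sum_one {ι : Type*} [DecidableEq ι] (s : Finset ι) (m : ι → ℤ) (h : ∑ i ∈ s, m i ^ 2 = 1) :
    ∃ i₀ ∈ s, (m i₀ = 1 ∨ m i₀ = -1) ∧ ∀ i ∈ s, i ≠ i₀ → m i = 0 := by
  have hex : ∃ i₀ ∈ s, m i₀ ≠ 0 := by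
    by_contra hno
    push Not at hno
    rw [Finset.sum_eq_zero (fun i hi => by rw [hno i hi]; simp)] at h
    exact zero_ne_one h
  obtain ⟨i₀, hi₀, hm⟩ := hex
  rw [← Finset.add_sum_erase s _ hi₀] at h
  have h1 : 1 ≤ m i₀ ^ 2 := by
    have : 0 < m i₀ ^ 2 := by positivity
    omega
  have h2 : 0 ≤ ∑ i ∈ s.erase i₀, m i ^ 2 := Finset.sum_nonneg (fun i _ => sq_nonneg _)
  have h3 : ∑ i ∈ s.erase i₀, m i ^ 2 = 0 := by omega
  have h4 : m i₀ ^ 2 = 1 := by omega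
  refine ⟨i₀, hi₀, sq_eq_one_iff.1 h4, ?_⟩
  intro i hi hne
  have := (Finset.sum_eq_zero_iff_of_nonneg (fun i _ => sq_nonneg (m i))).1 h3 i (Finset.mem_erase.2 ⟨hne, hi⟩)
  exact pow_eq_zero_iff (two_ne_zero) |>.1 this

theorem int_sq_sum_two {ι : Type*} [DecidableEq ι] (s : Finset ι) (m : ι → ℤ) (h : ∑ i ∈ s, m i ^ 2 = 2) :
    ∃ i₀ ∈ s, ∃ i₁ ∈ s, i₀ ≠ i₁ ∧ (m i₀ = 1 ∨ m i₀ = -1) ∧ (m i₁ = 1 ∨ m i₁ = -1) ∧
      ∀ i ∈ s, i ≠ i₀ → i ≠ i₁ → m i = 0 := by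
  have hex : ∃ i₀ ∈ s, m i₀ ≠ 0 := by
    by_contra hno
    push Not at hno
    rw [Finset.sum_eq_zero (fun i hi => by rw [hno i hi]; simp)] at h
    omega
  obtain ⟨i₀, hi₀, hm⟩ := hex
  rw [← Finset.add_sum_erase s _ hi₀] at h
  have h2 : 0 ≤ ∑ i ∈ s.erase i₀, m i ^ 2 := Finset.sum_nonneg (fun i _ => sq_nonneg _)
  have h4 : m i₀ ^ 2 = 1 := by
    have h5 : m i₀ ^ 2 ≤ 2 := by omega
    have h6 : -1 ≤ m i₀ := by nlinarith
    have h7 : m i₀ ≤ 1 := by nlinarith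
    have : m i₀ = -1 ∨ m i₀ = 0 ∨ m i₀ = 1 := by omega
    rcases this with h | h | h
    · rw [h]; norm_num
    · exact absurd h hm
    · rw [h]; norm_num
  have h3 : ∑ i ∈ s.erase i₀, m i ^ 2 = 1 := by omega
  obtain ⟨i₁, hi₁, hm₁, hrest⟩ := int_sq_sum_one _ m h3
  refine ⟨i₀, hi₀, i₁, (Finset.mem_erase.1 hi₁).2, (Finset.mem_erase.1 hi₁).1.symm, sq_eq_one_iff.1 h4, hm₁, ?_⟩
  intro i hi h0 h1
  exact hrest i (Finset.mem_erase.2 ⟨h0, hi⟩) h1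

variable {X : Type u} [Group X] [Fintype X]

theorem norm_virtual (m : IrrCharacter X → ℤ) :
    classInner (∑ χ : IrrCharacter X, (m χ : ℂ) • (χ : X → ℂ)) (∑ χ : IrrCharacter X, (m χ : ℂ) • (χ : X → ℂ)) =
      ((∑ χ : IrrCharacter X, m χ ^ 2 : ℤ) : ℂ) := by
  rw [classInner_sum_sum]
  push_cast
  refine Finset.sum_congr rfl fun χ _ => ?_
  simp [sq]

/-- A virtual character of norm one is an irreducible character up to sign. -/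
theorem isSignedIrr_of_norm_one {θ : X → ℂ} (h : IsGeneralizedCharacter X θ) (h1 : classInner θ θ = 1) :
    IsSignedIrr X θ := by
  classical
  obtain ⟨m, rfl⟩ := isGeneralizedCharacter_iff.mp h
  rw [norm_virtual] at h1
  have h2 : ∑ χ : IrrCharacter X, m χ ^ 2 = 1 := by exact_mod_cast h1
  obtain ⟨χ₀, -, hm, hrest⟩ := int_sq_sum_one _ m h2
  have h3 : ∑ χ : IrrCharacter X, (m χ : ℂ) • (χ : X → ℂ) = (m χ₀ : ℂ) • (χ₀ : X → ℂ) := by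
    rw [Finset.sum_eq_single χ₀]
    · intro χ _ hne
      rw [hrest χ (Finset.mem_univ _) hne]; simp
    · intro h; exact absurd (Finset.mem_univ _) h
  rw [h3]
  rcases hm with hm | hm <;> rw [hm]
  · left; simpa using χ₀.2
  · right; simpa using χ₀.2

/-- A virtual character of norm two vanishing at `1` is a difference of two irreducible characters. -/
theorem exists_sub_of_norm_two {θ : X → ℂ} (h : IsGeneralizedCharacter X θ) (h1 : classInner θ θ = 2)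
    (h0 : θ 1 = 0) : ∃ μ₁ μ₂ : X → ℂ, IsIrrCharacter X μ₁ ∧ IsIrrCharacter X μ₂ ∧ μ₁ ≠ μ₂ ∧ θ = μ₁ - μ₂ := by
  classical
  obtain ⟨m, rfl⟩ := isGeneralizedCharacter_iff.mp h
  rw [norm_virtual] at h1
  have h2 : ∑ χ : IrrCharacter X, m χ ^ 2 = 2 := by exact_mod_cast h1
  obtain ⟨χ₀, -, χ₁, -, hne, hm₀, hm₁, hrest⟩ := int_sq_sum_two _ m h2
  have h3 : ∑ χ : IrrCharacter X, (m χ : ℂ) • (χ : X → ℂ) =
      (m χ₀ : ℂ) • (χ₀ : X → ℂ) + (m χ₁ : ℂ) • (χ₁ : X → ℂ) := by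
    rw [← Finset.add_sum_erase _ _ (Finset.mem_univ χ₀),
      ← Finset.add_sum_erase _ _ (Finset.mem_erase.2 ⟨hne.symm, Finset.mem_univ χ₁⟩),
      Finset.sum_eq_zero, add_zero]
    intro χ hχ
    have hχ1 := (Finset.mem_erase.1 hχ).1
    have hχ0 := (Finset.mem_erase.1 (Finset.mem_erase.1 hχ).2).1
    rw [hrest χ (Finset.mem_univ _) hχ0 hχ1]; simp
  rw [h3] at h0 ⊢
  obtain ⟨n₀, hn₀, e₀⟩ := irr_apply_one_nat χ₀
  obtain ⟨n₁, hn₁, e₁⟩ := irr_apply_one_nat χ₁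
  simp only [Pi.add_apply, Pi.smul_apply, smul_eq_mul, e₀, e₁] at h0
  have h0' : m χ₀ * n₀ + m χ₁ * n₁ = 0 := by exact_mod_cast h0
  have hne' : (χ₀ : X → ℂ) ≠ χ₁ := fun h => hne (Subtype.ext h)
  rcases hm₀ with hm₀ | hm₀ <;> rcases hm₁ with hm₁ | hm₁ <;> rw [hm₀, hm₁] at h0' ⊢
  · exfalso; omega
  · exact ⟨χ₀, χ₁, χ₀.2, χ₁.2, hne', by simp [sub_eq_add_neg]⟩
  · exact ⟨χ₁, χ₀, χ₁.2, χ₀.2, hne'.symm, by simp [sub_eq_add_neg, add_comm]⟩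
  · exfalso; omega

end Cfsg.Agent.Lib.Helper10
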