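import Mathlib

set_option autoImplicit false

namespace Cfsg.Agent.Lib.Helper10

/-- If `a n a⁻¹ = n c` with `c` commuting with `a`, then `a^j n a^{-j} = n c^j`. -/
theorem conj_pow_eq {G : Type*} [Group G] (a n c : G) (h : a * n * a⁻¹ = n * c) (hc : a * c = c * a) (j : ℕ) :
    a ^ j * n * (a ^ j)⁻¹ = n * c ^ j := by
  induction j with
  | zero => simp
  | succ j ih =>
    have hc' : a * c ^ j * a⁻¹ = c ^ j := by
      have : Commute a (c ^ j) := (show Commute a c from hc).pow_right j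
      rw [this.eq, mul_assoc, mul_inv_cancel, mul_one]
    calc a ^ (j + 1) * n * (a ^ (j + 1))⁻¹ = a * (a ^ j * n * (a ^ j)⁻¹) * a⁻¹ := by
          rw [pow_succ', mul_inv_rev]; group
      _ = a * (n * c ^ j) * a⁻¹ := by rw [ih]
      _ = (a * n * a⁻¹) * (a * c ^ j * a⁻¹) := by group
      _ = n * c * c ^ j := by rw [h, hc']
      _ = n * c ^ (j + 1) := by rw [pow_succ', mul_assoc]

/-- Coprime action kills a "central" commutator: if `a n a⁻¹ = n c`, `c` commutes with `a`,
`a ^ k = 1`, `c ^ m = 1` and `k`, `m` are coprime then `c = 1`. -/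
theorem eq_one_of_conj {G : Type*} [Group G] (a n c : G) (h : a * n * a⁻¹ = n * c) (hc : a * c = c * a)
    (k m : ℕ) (hk : a ^ k = 1) (hm : c ^ m = 1) (hkm : k.Coprime m) : c = 1 := by
  have h1 := conj_pow_eq a n c h hc k
  rw [hk] at h1
  have h2 : c ^ k = 1 := by simpa using h1.symm
  have h3 : orderOf c ∣ k := orderOf_dvd_of_pow_eq_one h2
  have h4 : orderOf c ∣ m := orderOf_dvd_of_pow_eq_one hm
  have h5 : orderOf c ∣ 1 := by
    have := Nat.dvd_gcd h3 h4
    rwa [hkm] at this
  exact orderOf_eq_one_iff.1 (Nat.dvd_one.1 h5)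

theorem pow_card_subgroup_eq_one {G : Type*} [Group G] (H : Subgroup G) {x : G} (hx : x ∈ H) :
    x ^ Nat.card H = 1 := by
  have := pow_card_eq_one' (G := H) (x := ⟨x, hx⟩)
  exact congrArg Subtype.val this

theorem orderOf_dvd_card_subgroup {G : Type*} [Group G] (H : Subgroup G) {x : G} (hx : x ∈ H) :
    orderOf x ∣ Nat.card H := orderOf_dvd_of_pow_eq_one (pow_card_subgroup_eq_one H hx)

end Cfsg.Agent.Lib.Helper10
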