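import Mathlib
import Cfsg.Agent.Lib.Helper10.Basic

set_option autoImplicit false

namespace Cfsg.Agent.Lib.Helper10

/-- For coprime `l`, `m` there is an exponent `k` extracting the `l`-part of a product of commuting
elements `a`, `u` with `a ^ l = 1`, `u ^ m = 1`. -/
theorem pow_crt (l m : ℕ) (h : l.Coprime m) : ∃ k : ℕ, ∀ {G : Type*} [Group G] (a u : G), a * u = u * a → a ^ l = 1 → u ^ m = 1 →
    (a * u) ^ k = a := by
  obtain ⟨k, hk1, hk0⟩ := Nat.chineseRemainder h 1 0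
  refine ⟨k, ?_⟩
  intro G _ a u hau ha hu
  have h1 : a ^ k = a ^ 1 := by
    rw [pow_eq_pow_iff_modEq]
    exact hk1.of_dvd (orderOf_dvd_of_pow_eq_one ha)
  have h2 : u ^ k = u ^ 0 := by
    rw [pow_eq_pow_iff_modEq]
    exact hk0.of_dvd (orderOf_dvd_of_pow_eq_one hu)
  rw [(show Commute a u from hau).mul_pow, h1, h2]
  simp

/-- If `x ^ m = 1`, `x ^ n = 1` with `m`, `n` coprime then `x = 1`. -/
theorem eq_one_of_pow_coprime {G : Type*} [Group G] {x : G} {m n : ℕ} (h : m.Coprime n) (hm : x ^ m = 1)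
    (hn : x ^ n = 1) : x = 1 := by
  have := pow_gcd_eq_one.2 ⟨hm, hn⟩
  rwa [h, pow_one] at this

/-- `(n c) ^ m ∈ N c ^ m` when `c` normalizes `N`. -/
theorem mul_pow_mem_mul {G : Type*} [Group G] (N : Subgroup G) (n c : G) (hn : n ∈ N)
    (hc : c ∈ Subgroup.normalizer (N : Set G)) (m : ℕ) : ∃ n' ∈ N, (n * c) ^ m = n' * c ^ m := by
  induction m with
  | zero => exact ⟨1, N.one_mem, by simp⟩
  | succ m ih =>
    obtain ⟨n', hn', h⟩ := ih
    have hcm : c ^ m ∈ Subgroup.normalizer (N : Set G) := Subgroup.pow_mem _ hc m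
    refine ⟨n' * (c ^ m * n * (c ^ m)⁻¹), N.mul_mem hn' ((Subgroup.mem_normalizer_iff.1 hcm n).1 hn), ?_⟩
    rw [pow_succ, h, pow_succ]
    group

/-- A normal Hall subgroup contains every element of the right order: if `y ∈ N ⊔ C`, `C` normalizes `N`,
`N ⊓ C = ⊥`, `y ^ m = 1` with `m` coprime to the order of `C`, then `y ∈ N`. -/
theorem mem_of_mem_sup_of_pow {G : Type*} [Group G] (N C : Subgroup G)
    (hC : C ≤ Subgroup.normalizer (N : Set G)) (hNC : N ⊓ C = ⊥) {y : G} (hy : y ∈ N ⊔ C) (m : ℕ) (hm : y ^ m = 1)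
    (hcop : m.Coprime (Nat.card C)) : y ∈ N := by
  have hy' : y ∈ ((N ⊔ C : Subgroup G) : Set G) := hy
  rw [Subgroup.coe_mul_of_right_le_normalizer_left N C hC] at hy'
  obtain ⟨n, hn, c, hc, rfl⟩ := hy'
  change (n * c) ^ m = 1 at hm
  change n * c ∈ N
  obtain ⟨n', hn', h⟩ := mul_pow_mem_mul N n c hn (hC hc) m
  have hcm : c ^ m ∈ N ⊓ C := by
    refine Subgroup.mem_inf.2 ⟨?_, C.pow_mem hc m⟩
    have : c ^ m = n'⁻¹ := by
      rw [hm] at h
      exact eq_inv_of_mul_eq_one_right h.symm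
    rw [this]
    exact N.inv_mem hn'
  rw [hNC, Subgroup.mem_bot] at hcm
  have hc1 : c = 1 := eq_one_of_pow_coprime hcop hcm (pow_card_subgroup_eq_one C hc)
  rw [hc1, mul_one]
  exact hn

end Cfsg.Agent.Lib.Helper10
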