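import Mathlib
import Cfsg.Agent.H1.SZ
import Cfsg.Agent.Lib.Helper10.Pow

set_option autoImplicit false

namespace Cfsg.Agent.Lib.Helper10

open Subgroup Cfsg.H1
open scoped Pointwise

variable {G : Type*} [Group G]

theorem card_subgroupOf_of_le {H K : Subgroup G} (h : H ≤ K) : Nat.card (H.subgroupOf K) = Nat.card H :=
  Nat.card_congr (Subgroup.subgroupOfEquivOfLe h).toEquiv

theorem card_conj_smul (g : G) (H : Subgroup G) : Nat.card (MulAut.conj g • H : Subgroup G) = Nat.card H :=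
  Nat.card_congr (Subgroup.equivSMul (MulAut.conj g) H).toEquiv.symm

theorem conj_smul_eq_self_of_mem {H : Subgroup G} {g : G} (hg : g ∈ H) : MulAut.conj g • H = H := by
  ext x
  rw [mem_conj_smul_iff]
  constructor
  · intro h
    have := H.mul_mem (H.mul_mem hg h) (H.inv_mem hg)
    simpa [mul_assoc] using this
  · intro h
    exact H.mul_mem (H.mul_mem (H.inv_mem hg) h) hg

/-- `H` and `A` are complements inside `H ⊔ A` when `A` normalizes `H` and they meet trivially. -/
theorem isComplement'_subgroupOf_sup (H A : Subgroup G) (hA : A ≤ normalizer (H : Set G)) (hHA : H ⊓ A = ⊥) :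
    IsComplement' (H.subgroupOf (H ⊔ A)) (A.subgroupOf (H ⊔ A)) := by
  apply isComplement'_of_disjoint_and_mul_eq_univ
  · rw [Subgroup.disjoint_def]
    intro x hx1 hx2
    have : (x : G) ∈ H ⊓ A := Subgroup.mem_inf.2 ⟨mem_subgroupOf.1 hx1, mem_subgroupOf.1 hx2⟩
    rw [hHA, Subgroup.mem_bot] at this
    exact Subtype.ext this
  · apply Set.eq_univ_of_forall
    intro l
    have hl : (l : G) ∈ ((H ⊔ A : Subgroup G) : Set G) := l.2
    rw [Subgroup.coe_mul_of_right_le_normalizer_left H A hA] at hl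
    obtain ⟨n, hn, x, hx, hnx⟩ := Set.mem_mul.1 hl
    exact Set.mem_mul.2 ⟨⟨n, le_sup_left (a := H) (b := A) hn⟩, hn, ⟨x, le_sup_right (a := H) (b := A) hx⟩, hx, Subtype.ext hnx⟩

theorem card_sup_eq_mul (H A : Subgroup G) (hA : A ≤ normalizer (H : Set G)) (hHA : H ⊓ A = ⊥) :
    Nat.card (H ⊔ A : Subgroup G) = Nat.card H * Nat.card A := by
  have := (isComplement'_subgroupOf_sup H A hA hHA).card_mul_card
  rw [card_subgroupOf_of_le le_sup_left, card_subgroupOf_of_le le_sup_right] at this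
  exact this.symm

/-- Internal form of the Schur–Zassenhaus conjugacy theorem. -/
theorem sz_internal [Finite G] (H A B : Subgroup G) (hA : A ≤ normalizer (H : Set G)) (hB : B ≤ H ⊔ A)
    (hcop : (Nat.card H).Coprime (Nat.card A)) (hcard : Nat.card B = Nat.card A)
    (hs : Group.IsSolvable H ∨ Group.IsSolvable A) :
    ∃ x ∈ H, MulAut.conj x • A = B := by
  have hHA : H ⊓ A = ⊥ := inf_eq_bot_of_coprime hcop
  have hnorm : (H.subgroupOf (H ⊔ A)).Normal :=
    (normal_subgroupOf_iff_le_normalizer le_sup_left).2 (sup_le le_normalizer hA)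
  have hcA := isComplement'_subgroupOf_sup H A hA hHA
  have hcardX := card_sup_eq_mul H A hA hHA
  have hcB : IsComplement' (H.subgroupOf (H ⊔ A)) (B.subgroupOf (H ⊔ A)) := by
    apply isComplement'_of_coprime
    · rw [card_subgroupOf_of_le le_sup_left, card_subgroupOf_of_le hB, hcard, hcardX]
    · rw [card_subgroupOf_of_le le_sup_left, card_subgroupOf_of_le hB, hcard]
      exact hcop
  have hidx : (Nat.card (H.subgroupOf (H ⊔ A))).Coprime (H.subgroupOf (H ⊔ A)).index := by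
    rw [hcA.symm.index_eq_card, card_subgroupOf_of_le le_sup_left, card_subgroupOf_of_le le_sup_right]
    exact hcop
  have hs' : Group.IsSolvable (H.subgroupOf (H ⊔ A)) ∨ Group.IsSolvable (A.subgroupOf (H ⊔ A)) := by
    rcases hs with h | h
    · exact Or.inl (isSolvable_subgroupOf _ h)
    · exact Or.inr (isSolvable_subgroupOf _ h)
  obtain ⟨g, hg⟩ := sz_conj (H.subgroupOf (H ⊔ A)) (A.subgroupOf (H ⊔ A)) (B.subgroupOf (H ⊔ A)) hidx hs' hcA hcB
  have hg' : MulAut.conj (g : G) • A = B := conj_of_subgroupOf le_sup_right hB g hg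
  have hl : (g : G) ∈ ((H ⊔ A : Subgroup G) : Set G) := g.2
  rw [Subgroup.coe_mul_of_right_le_normalizer_left H A hA] at hl
  obtain ⟨n, hn, x, hx, hnx⟩ := Set.mem_mul.1 hl
  refine ⟨n, hn, ?_⟩
  rw [← hg', ← hnx, conj_mul_smul, conj_smul_eq_self_of_mem hx]

/-- An element of `H` normalizing `A` centralizes `A`, when `A` normalizes `H` and `H ⊓ A = ⊥`. -/
theorem mem_centralizer_of_normalizes (H A : Subgroup G) (hA : A ≤ normalizer (H : Set G)) (hHA : H ⊓ A = ⊥)
    {h : G} (hh : h ∈ H) (hn : MulAut.conj h • A = A) : h ∈ centralizer (A : Set G) := by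
  rw [mem_centralizer_iff]
  intro a ha
  have ha' : a ∈ A := ha
  have h1 : h * a * h⁻¹ * a⁻¹ ∈ A := by
    apply A.mul_mem _ (A.inv_mem ha')
    rw [← hn, mem_conj_smul_iff]
    simpa [mul_assoc] using ha'
  have h2 : h * a * h⁻¹ * a⁻¹ ∈ H := by
    have := (mem_normalizer_iff.1 (hA ha') h⁻¹).1 (H.inv_mem hh)
    have := H.mul_mem hh this
    simpa [mul_assoc] using this
  have h3 : h * a * h⁻¹ * a⁻¹ ∈ H ⊓ A := Subgroup.mem_inf.2 ⟨h2, h1⟩
  rw [hHA, Subgroup.mem_bot] at h3
  calc a * h = (h * a * h⁻¹ * a⁻¹)⁻¹ * (h * a) := by group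
    _ = h * a := by rw [h3]; simp

/-- Coprime action: an `A`-invariant coset `h N` contains an element centralized by `A`. -/
theorem exists_fixed_in_coset [Finite G] (H A N : Subgroup G) (hA : A ≤ normalizer (H : Set G)) (hN : N ≤ H)
    (hAN : A ≤ normalizer (N : Set G)) (hcop : (Nat.card H).Coprime (Nat.card A))
    (hs : Group.IsSolvable N ∨ Group.IsSolvable A) {h : G} (hh : h ∈ H)
    (hinv : ∀ a ∈ A, h⁻¹ * (a * h * a⁻¹) ∈ N) : ∃ n ∈ N, h * n ∈ centralizer (A : Set G) := by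
  have hHA : H ⊓ A = ⊥ := inf_eq_bot_of_coprime hcop
  have hcopN : (Nat.card N).Coprime (Nat.card A) :=
    Nat.Coprime.coprime_dvd_left (Subgroup.card_dvd_of_le hN) hcop
  have hB : MulAut.conj h⁻¹ • A ≤ N ⊔ A := by
    intro y hy
    rw [mem_conj_smul_iff, inv_inv] at hy
    have e : y = (h⁻¹ * ((h * y * h⁻¹) * h * (h * y * h⁻¹)⁻¹)) * (h * y * h⁻¹) := by group
    rw [e]
    exact Subgroup.mul_mem _ (le_sup_left (a := N) (b := A) (hinv _ hy)) (le_sup_right (a := N) (b := A) hy)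
  obtain ⟨x, hx, hxA⟩ := sz_internal N A (MulAut.conj h⁻¹ • A) hAN hB hcopN (card_conj_smul _ _) hs
  refine ⟨x, hx, ?_⟩
  apply mem_centralizer_of_normalizes H A hA hHA (H.mul_mem hh (hN hx))
  rw [conj_mul_smul, hxA, ← conj_mul_smul]
  simp

end Cfsg.Agent.Lib.Helper10
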