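import Mathlib
import Cfsg.Prelude.Def_Characters
import Cfsg.Agent.CharLib.Ind

set_option autoImplicit false

namespace Cfsg.Agent.Lib.Helper10

open Cfsg Cfsg.Agent.CharLib Cfsg.Agent.CharLib.H2
open scoped ComplexConjugate

universe u

theorem lin_fun_injective {W : Type u} [Group W] {ω ω' : W →* ℂˣ}
    (h : (fun w => (ω w : ℂ)) = (fun w => (ω' w : ℂ))) : ω = ω' := by
  ext w
  exact congrFun h w

/-- orthonormality of linear characters -/
theorem classInner_lin {W : Type u} [Group W] [Fintype W] (ω ω' : W →* ℂˣ) [Decidable (ω = ω')] :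
    classInner (fun w => (ω w : ℂ)) (fun w => (ω' w : ℂ)) = if ω = ω' then 1 else 0 := by
  classical
  rw [classInner_irr (isIrrCharacter_of_hom ω) (isIrrCharacter_of_hom ω')]
  by_cases h : ω = ω'
  · rw [if_pos h, if_pos (by rw [h])]
  · rw [if_neg h, if_neg (fun h' => h (lin_fun_injective h'))]

theorem card_lin {W : Type u} [Group W] [Finite W] (hW : ∀ a b : W, a * b = b * a) :
    Nat.card (W →* ℂˣ) = Nat.card W := by
  letI : CommGroup W := { (inferInstance : Group W) with mul_comm := hW }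
  haveI : NeZero (Monoid.exponent W) := ⟨Monoid.exponent_ne_zero_of_finite⟩
  haveI : NeZero ((Monoid.exponent W : ℕ) : ℂ) := ⟨by exact_mod_cast Monoid.exponent_ne_zero_of_finite⟩
  exact CommGroup.card_monoidHom_of_hasEnoughRootsOfUnity W ℂ

instance finite_lin {W : Type u} [Group W] [Finite W] : Finite (W →* ℂˣ) := by
  classical
  cases nonempty_fintype W
  have : Function.Injective (fun ω : W →* ℂˣ =>
      (⟨fun w => (ω w : ℂ), isIrrCharacter_of_hom ω⟩ : IrrCharacter W)) := by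
    intro ω ω' h
    exact lin_fun_injective (congrArg Subtype.val h)
  exact Finite.of_injective _ this

theorem lin_norm {W : Type u} [Group W] [Finite W] (ω : W →* ℂˣ) (w : W) : ‖(ω w : ℂ)‖ = 1 := by
  apply Complex.norm_eq_one_of_pow_eq_one (n := orderOf w) _ (orderOf_pos w).ne'
  rw [← Units.val_pow_eq_pow_val, ← map_pow, pow_orderOf_eq_one, map_one, Units.val_one]

section sup

variable {G : Type u} [Group G] (W₁ W₂ : Subgroup G)

/-- A homomorphism on `W₁ ⊔ W₂` is determined by its values on `W₁` and on `W₂`. -/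
theorem hom_ext_sup {M : Type*} [Monoid M] (ω ω' : ↥(W₁ ⊔ W₂) →* M)
    (h1 : ∀ w : ↥(W₁ ⊔ W₂), (w : G) ∈ W₁ → ω w = ω' w)
    (h2 : ∀ w : ↥(W₁ ⊔ W₂), (w : G) ∈ W₂ → ω w = ω' w) : ω = ω' := by
  have hle : W₁ ⊔ W₂ ≤ (MonoidHom.eqLocus ω ω').map (W₁ ⊔ W₂).subtype := by
    apply sup_le
    · intro x hx
      exact ⟨⟨x, Subgroup.mem_sup_left hx⟩, h1 _ hx, rfl⟩
    · intro x hx
      exact ⟨⟨x, Subgroup.mem_sup_right hx⟩, h2 _ hx, rfl⟩
  ext w
  obtain ⟨e, he, hew⟩ := hle w.2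
  have : e = w := Subtype.ext hew
  rw [← this]
  exact he

/-- the function `(1 - φ)(1 - ψ)` -/
def alphaFun {W : Type u} [Group W] (φ ψ : W →* ℂˣ) : W → ℂ :=
  fun w => 1 - (φ w : ℂ) - (ψ w : ℂ) + (φ w : ℂ) * (ψ w : ℂ)

theorem alphaFun_eq {W : Type u} [Group W] (φ ψ : W →* ℂˣ) :
    alphaFun φ ψ = (fun w => ((1 : W →* ℂˣ) w : ℂ)) - (fun w => (φ w : ℂ)) - (fun w => (ψ w : ℂ)) +
      (fun w => ((φ * ψ) w : ℂ)) := by
  funext w
  simp [alphaFun]

open Classical in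
theorem classInner_alpha_lin {W : Type u} [Group W] [Fintype W] (φ ψ ω : W →* ℂˣ) :
    classInner (alphaFun φ ψ) (fun w => (ω w : ℂ)) =
      (if 1 = ω then 1 else 0) - (if φ = ω then 1 else 0) - (if ψ = ω then 1 else 0) +
        (if φ * ψ = ω then 1 else 0) := by
  rw [alphaFun_eq, classInner_add_left, classInner_sub_left, classInner_sub_left, classInner_lin, classInner_lin,
    classInner_lin, classInner_lin]

open Classical in
theorem classInner_lin_alpha {W : Type u} [Group W] [Fintype W] (φ ψ ω : W →* ℂˣ) :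
    classInner (fun w => (ω w : ℂ)) (alphaFun φ ψ) =
      (if 1 = ω then 1 else 0) - (if φ = ω then 1 else 0) - (if ψ = ω then 1 else 0) +
        (if φ * ψ = ω then 1 else 0) := by
  rw [← classInner_conj_symm, classInner_alpha_lin]
  simp only [map_add, map_sub]
  congr 1
  · congr 1
    · congr 1 <;> split_ifs <;> simp
    · split_ifs <;> simp
  · split_ifs <;> simp

section facts

variable {W₁ W₂}
variable {φ φ' ψ ψ' : ↥(W₁ ⊔ W₂) →* ℂˣ}

theorem eq_one_of_trivial (hφ₁ : ∀ w : ↥(W₁ ⊔ W₂), (w : G) ∈ W₁ → φ w = 1)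
    (hφ₂ : ∀ w : ↥(W₁ ⊔ W₂), (w : G) ∈ W₂ → φ w = 1) : φ = 1 :=
  hom_ext_sup W₁ W₂ φ 1 (fun w hw => by rw [hφ₁ w hw]; rfl) (fun w hw => by rw [hφ₂ w hw]; rfl)

theorem mul_eq_mul_iff (hφ : ∀ w : ↥(W₁ ⊔ W₂), (w : G) ∈ W₂ → φ w = 1)
    (hφ' : ∀ w : ↥(W₁ ⊔ W₂), (w : G) ∈ W₂ → φ' w = 1)
    (hψ : ∀ w : ↥(W₁ ⊔ W₂), (w : G) ∈ W₁ → ψ w = 1)
    (hψ' : ∀ w : ↥(W₁ ⊔ W₂), (w : G) ∈ W₁ → ψ' w = 1) :
    φ * ψ = φ' * ψ' ↔ φ = φ' ∧ ψ = ψ' := by
  constructor
  · intro h
    constructor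
    · apply hom_ext_sup
      · intro w hw
        have := DFunLike.congr_fun h w
        simpa [hψ w hw, hψ' w hw] using this
      · intro w hw
        rw [hφ w hw, hφ' w hw]
    · apply hom_ext_sup
      · intro w hw
        rw [hψ w hw, hψ' w hw]
      · intro w hw
        have := DFunLike.congr_fun h w
        simpa [hφ w hw, hφ' w hw] using this
  · rintro ⟨rfl, rfl⟩
    rfl

end facts

end sup

end Cfsg.Agent.Lib.Helper10
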