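import Mathlib
import Cfsg.Prelude.Def_Characters
import Cfsg.Agent.Lib.Helper10.LinChar
import Cfsg.Agent.Lib.Helper10.Coprime

set_option autoImplicit false

namespace Cfsg.Agent.Lib.Helper10

open Cfsg Cfsg.Agent.CharLib Cfsg.Agent.CharLib.H2
open scoped ComplexConjugate

universe u

/-- the number of linear characters trivial on a subgroup -/
theorem card_lin_trivial_on {W : Type u} [Group W] [Finite W] (hW : ∀ a b : W, a * b = b * a) (H : Subgroup W) :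
    Nat.card {φ : W →* ℂˣ // ∀ y ∈ H, φ y = 1} = H.index := by
  letI : CommGroup W := { (inferInstance : Group W) with mul_comm := hW }
  haveI : NeZero (Monoid.exponent W) := ⟨Monoid.exponent_ne_zero_of_finite⟩
  haveI : NeZero ((Monoid.exponent W : ℕ) : ℂ) := ⟨by exact_mod_cast Monoid.exponent_ne_zero_of_finite⟩
  have h := CommGroup.card_domRestrictHom_ker (G := W) ℂ H
  rw [Subgroup.index_eq_card, ← h]
  apply Nat.card_congr
  apply Equiv.subtypeEquivRight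
  intro φ
  rw [MonoidHom.mem_ker]
  constructor
  · intro hφ
    ext y
    simpa using congrArg Units.val (hφ y y.2)
  · intro hφ y hy
    have := DFunLike.congr_fun hφ ⟨y, hy⟩
    simpa using this

section sup

variable {G : Type u} [Group G] [Finite G] (W₁ W₂ : Subgroup G)

theorem card_sup_of_commute (hdisj : W₁ ⊓ W₂ = ⊥) (hcomm : ∀ a ∈ W₁, ∀ b ∈ W₂, a * b = b * a) :
    Nat.card ↥(W₁ ⊔ W₂) = Nat.card W₁ * Nat.card W₂ := by
  apply card_sup_eq_mul W₁ W₂ _ hdisj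
  intro b hb
  rw [Subgroup.mem_normalizer_iff]
  intro a
  constructor
  · intro ha
    rw [← hcomm a ha b hb, mul_inv_cancel_right]
    exact ha
  · intro ha
    have h1 := hcomm _ ha b hb
    have h2 : b * a * b⁻¹ * b = b * a := by group
    rw [h2] at h1
    have h3 := mul_left_cancel h1
    rw [h3]
    exact ha

theorem card_trivial_on_right (hdisj : W₁ ⊓ W₂ = ⊥) (hcomm : ∀ a ∈ W₁, ∀ b ∈ W₂, a * b = b * a)
    (hW : ∀ a b : ↥(W₁ ⊔ W₂), a * b = b * a) :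
    Nat.card {φ : ↥(W₁ ⊔ W₂) →* ℂˣ // ∀ w : ↥(W₁ ⊔ W₂), (w : G) ∈ W₂ → φ w = 1} = Nat.card W₁ := by
  have h1 := card_lin_trivial_on hW (W₂.subgroupOf (W₁ ⊔ W₂))
  have h2 := (W₂.subgroupOf (W₁ ⊔ W₂)).card_mul_index
  rw [card_subgroupOf_of_le le_sup_right, card_sup_of_commute W₁ W₂ hdisj hcomm, mul_comm] at h2
  have h3 : (W₂.subgroupOf (W₁ ⊔ W₂)).index = Nat.card W₁ :=
    Nat.eq_of_mul_eq_mul_right Nat.card_pos h2
  rw [← h3, ← h1]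
  rfl

theorem card_trivial_on_left (hdisj : W₁ ⊓ W₂ = ⊥) (hcomm : ∀ a ∈ W₁, ∀ b ∈ W₂, a * b = b * a)
    (hW : ∀ a b : ↥(W₁ ⊔ W₂), a * b = b * a) :
    Nat.card {φ : ↥(W₁ ⊔ W₂) →* ℂˣ // ∀ w : ↥(W₁ ⊔ W₂), (w : G) ∈ W₁ → φ w = 1} = Nat.card W₂ := by
  have h1 := card_lin_trivial_on hW (W₁.subgroupOf (W₁ ⊔ W₂))
  have h2 := (W₁.subgroupOf (W₁ ⊔ W₂)).card_mul_index
  rw [card_subgroupOf_of_le le_sup_left, card_sup_of_commute W₁ W₂ hdisj hcomm] at h2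
  have h3 : (W₁.subgroupOf (W₁ ⊔ W₂)).index = Nat.card W₂ :=
    Nat.eq_of_mul_eq_mul_left Nat.card_pos h2
  rw [← h3, ← h1]
  rfl

/-- every linear character of `W₁ × W₂` is uniquely a product -/
theorem bijective_mul (hdisj : W₁ ⊓ W₂ = ⊥) (hcomm : ∀ a ∈ W₁, ∀ b ∈ W₂, a * b = b * a)
    (hW : ∀ a b : ↥(W₁ ⊔ W₂), a * b = b * a) :
    Function.Bijective (fun p : {φ : ↥(W₁ ⊔ W₂) →* ℂˣ // ∀ w : ↥(W₁ ⊔ W₂), (w : G) ∈ W₂ → φ w = 1} ×
      {ψ : ↥(W₁ ⊔ W₂) →* ℂˣ // ∀ w : ↥(W₁ ⊔ W₂), (w : G) ∈ W₁ → ψ w = 1} => (p.1 : ↥(W₁ ⊔ W₂) →* ℂˣ) * p.2) := by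
  rw [Nat.bijective_iff_injective_and_card]
  constructor
  · rintro ⟨⟨φ, hφ⟩, ⟨ψ, hψ⟩⟩ ⟨⟨φ', hφ'⟩, ⟨ψ', hψ'⟩⟩ h
    obtain ⟨rfl, rfl⟩ := (mul_eq_mul_iff hφ hφ' hψ hψ').1 h
    rfl
  · rw [Nat.card_prod, card_trivial_on_right W₁ W₂ hdisj hcomm hW, card_trivial_on_left W₁ W₂ hdisj hcomm hW,
      card_lin hW, card_sup_of_commute W₁ W₂ hdisj hcomm]

end sup

end Cfsg.Agent.Lib.Helper10
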