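import Mathlib
import Cfsg.Prelude.Def_Characters
import Cfsg.Prelude.Def_OddOrderChar
import Cfsg.Agent.Lib.Helper10.Virtual

set_option autoImplicit false

namespace Cfsg.Agent.Lib.Helper10

open Cfsg Cfsg.Agent.CharLib
open scoped ComplexConjugate

universe u v

section zspan

variable {X : Type u} {S : Set (X → ℂ)} {A : Set X}

theorem mem_zspan_of_mem {χ : X → ℂ} (h : χ ∈ S) : χ ∈ zspan S := Submodule.subset_span h

theorem zspan_add {α β : X → ℂ} (ha : α ∈ zspan S) (hb : β ∈ zspan S) : α + β ∈ zspan S :=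
  Submodule.add_mem _ ha hb

theorem zspan_sub {α β : X → ℂ} (ha : α ∈ zspan S) (hb : β ∈ zspan S) : α - β ∈ zspan S :=
  Submodule.sub_mem _ ha hb

theorem zspan_zsmul {α : X → ℂ} (ha : α ∈ zspan S) (n : ℤ) : n • α ∈ zspan S :=
  Submodule.smul_mem _ n ha

theorem zspan_neg {α : X → ℂ} (ha : α ∈ zspan S) : -α ∈ zspan S :=
  Submodule.neg_mem _ ha

theorem zspan_zero : (0 : X → ℂ) ∈ zspan S := Submodule.zero_mem _

theorem zspan_mono {S' : Set (X → ℂ)} (h : S ⊆ S') : zspan S ⊆ zspan S' := Submodule.span_mono h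

theorem zspanOn_add {α β : X → ℂ} (ha : α ∈ zspanOn S A) (hb : β ∈ zspanOn S A) : α + β ∈ zspanOn S A :=
  ⟨zspan_add ha.1 hb.1, fun x hx => by rw [Pi.add_apply, ha.2 x hx, hb.2 x hx, add_zero]⟩

theorem zspanOn_zsmul {α : X → ℂ} (ha : α ∈ zspanOn S A) (n : ℤ) : n • α ∈ zspanOn S A :=
  ⟨zspan_zsmul ha.1 n, fun x hx => by rw [Pi.smul_apply, ha.2 x hx, smul_zero]⟩

theorem zspanOn_mono {S' : Set (X → ℂ)} (h : S ⊆ S') : zspanOn S A ⊆ zspanOn S' A :=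
  fun _ ha => ⟨zspan_mono h ha.1, ha.2⟩

theorem mem_zspanOn_one_iff [One X] {α : X → ℂ} : α ∈ zspanOn S ({1}ᶜ : Set X) ↔ α ∈ zspan S ∧ α 1 = 0 := by
  constructor
  · rintro ⟨h1, h2⟩
    exact ⟨h1, h2 1 (by simp)⟩
  · rintro ⟨h1, h2⟩
    refine ⟨h1, fun x hx => ?_⟩
    have : x = 1 := by simpa using hx
    rw [this, h2]

end zspan

section iso

variable {L : Type u} [Group L] [Fintype L] {G : Type v} [Group G] [Fintype G]
variable {E : Set (L → ℂ)} {τ : (L → ℂ) → (G → ℂ)}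

theorem lio_add (h : IsLinearIsometryOn E τ) {α β : L → ℂ} (ha : α ∈ E) (hb : β ∈ E) :
    τ (α + β) = τ α + τ β := h.1 α ha β hb

theorem lio_zsmul (h : IsLinearIsometryOn E τ) {α : L → ℂ} (ha : α ∈ E) (n : ℤ) :
    τ (n • α) = n • τ α := h.2.1 α ha n

theorem lio_inner (h : IsLinearIsometryOn E τ) {α β : L → ℂ} (ha : α ∈ E) (hb : β ∈ E) :
    classInner (τ α) (τ β) = classInner α β := h.2.2.1 α ha β hb

theorem lio_virtual (h : IsLinearIsometryOn E τ) {α : L → ℂ} (ha : α ∈ E) :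
    IsGeneralizedCharacter G (τ α) := h.2.2.2 α ha

/-- `τ (a χ + b ψ) = a τ χ + b τ ψ` when `E` is closed under multiples. -/
theorem lio_comb (h : IsLinearIsometryOn E τ) (hE : ∀ α ∈ E, ∀ n : ℤ, n • α ∈ E)
    {α β : L → ℂ} (ha : α ∈ E) (hb : β ∈ E) (a b : ℤ) :
    τ (a • α + b • β) = a • τ α + b • τ β := by
  rw [lio_add h (hE α ha a) (hE β hb b), lio_zsmul h ha, lio_zsmul h hb]

section signs

variable {S : Set (L → ℂ)} {τ₁ : (L → ℂ) → (G → ℂ)}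

theorem lio_signed (hirr : ∀ χ ∈ S, IsIrrCharacter L χ) (hτ₁ : IsLinearIsometryOn (zspan S) τ₁) {χ : L → ℂ}
    (hχ : χ ∈ S) : IsSignedIrr G (τ₁ χ) := by
  apply isSignedIrr_of_norm_one (lio_virtual hτ₁ (mem_zspan_of_mem hχ))
  rw [lio_inner hτ₁ (mem_zspan_of_mem hχ) (mem_zspan_of_mem hχ), classInner_irr_self (hirr χ hχ)]

theorem lio_degree (hirr : ∀ χ ∈ S, IsIrrCharacter L χ) (hτ₁ : IsLinearIsometryOn (zspan S) τ₁)
    (h0 : ∀ α ∈ zspan S, α 1 = 0 → τ₁ α 1 = 0) {χ ψ : L → ℂ} (hχ : χ ∈ S) (hψ : ψ ∈ S) :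
    ψ 1 * τ₁ χ 1 = χ 1 * τ₁ ψ 1 := by
  obtain ⟨n, -, hn⟩ := irr_apply_one_nat ⟨χ, hirr χ hχ⟩
  obtain ⟨m, -, hm⟩ := irr_apply_one_nat ⟨ψ, hirr ψ hψ⟩
  simp only at hn hm
  have hmem : ((m : ℤ) • χ + (-(n : ℤ)) • ψ) ∈ zspan S :=
    zspan_add (zspan_zsmul (mem_zspan_of_mem hχ) _) (zspan_zsmul (mem_zspan_of_mem hψ) _)
  have h1 := h0 _ hmem (by simp [hn, hm]; ring)
  rw [lio_comb hτ₁ (fun α ha n => zspan_zsmul ha n) (mem_zspan_of_mem hχ) (mem_zspan_of_mem hψ)] at h1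
  simp only [Pi.add_apply, Pi.smul_apply] at h1
  simp only [zsmul_eq_mul, Int.cast_natCast, Int.cast_neg] at h1
  rw [hn, hm]
  linear_combination h1

theorem lio_sign (hirr : ∀ χ ∈ S, IsIrrCharacter L χ) (hτ₁ : IsLinearIsometryOn (zspan S) τ₁)
    (h0 : ∀ α ∈ zspan S, α 1 = 0 → τ₁ α 1 = 0) :
    ∃ ε : ℂ, (ε = 1 ∨ ε = -1) ∧ ∀ χ ∈ S, IsIrrCharacter G (ε • τ₁ χ) := by
  by_cases hne : S.Nonempty
  · obtain ⟨χ₀, hχ₀⟩ := hne
    obtain ⟨n₀, hn₀pos, hn₀⟩ := irr_apply_one_nat ⟨χ₀, hirr χ₀ hχ₀⟩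
    simp only at hn₀
    -- a general comparison
    have key : ∀ χ ∈ S, ∀ (d₀ d : ℕ), 0 < d₀ → 0 < d → τ₁ χ₀ 1 = d₀ → τ₁ χ 1 = -(d : ℂ) → False := by
      intro χ hχ d₀ d hd₀ hd e₀ e
      obtain ⟨n, hnpos, hn⟩ := irr_apply_one_nat ⟨χ, hirr χ hχ⟩
      simp only at hn
      have := lio_degree hirr hτ₁ h0 hχ₀ hχ
      rw [e₀, e, hn, hn₀] at this
      have h2 : ((n * d₀ + n₀ * d : ℕ) : ℂ) = 0 := by push_cast; linear_combination this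
      have h3 : n * d₀ + n₀ * d = 0 := by exact_mod_cast h2
      have : 0 < n * d₀ := Nat.mul_pos hnpos hd₀
      omega
    have key' : ∀ χ ∈ S, ∀ (d₀ d : ℕ), 0 < d₀ → 0 < d → τ₁ χ₀ 1 = -(d₀ : ℂ) → τ₁ χ 1 = (d : ℂ) → False := by
      intro χ hχ d₀ d hd₀ hd e₀ e
      obtain ⟨n, hnpos, hn⟩ := irr_apply_one_nat ⟨χ, hirr χ hχ⟩
      simp only at hn
      have := lio_degree hirr hτ₁ h0 hχ₀ hχ
      rw [e₀, e, hn, hn₀] at this
      have h2 : ((n * d₀ + n₀ * d : ℕ) : ℂ) = 0 := by push_cast; linear_combination -this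
      have h3 : n * d₀ + n₀ * d = 0 := by exact_mod_cast h2
      have : 0 < n * d₀ := Nat.mul_pos hnpos hd₀
      omega
    rcases lio_signed hirr hτ₁ hχ₀ with h | h
    · refine ⟨1, Or.inl rfl, ?_⟩
      intro χ hχ
      rw [one_smul]
      rcases lio_signed hirr hτ₁ hχ with h' | h'
      · exact h'
      · exfalso
        obtain ⟨d₀, hd₀, e₀⟩ := irr_apply_one_nat ⟨_, h⟩
        obtain ⟨d, hd, e⟩ := irr_apply_one_nat ⟨_, h'⟩
        simp only [Pi.neg_apply] at e₀ e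
        exact key χ hχ d₀ d hd₀ hd e₀ (by rw [← e, neg_neg])
    · refine ⟨-1, Or.inr rfl, ?_⟩
      intro χ hχ
      rw [neg_one_smul]
      rcases lio_signed hirr hτ₁ hχ with h' | h'
      · exfalso
        obtain ⟨d₀, hd₀, e₀⟩ := irr_apply_one_nat ⟨_, h⟩
        obtain ⟨d, hd, e⟩ := irr_apply_one_nat ⟨_, h'⟩
        simp only [Pi.neg_apply] at e₀ e
        exact key' χ hχ d₀ d hd₀ hd (by rw [← e₀, neg_neg]) e
      · exact h'
  · refine ⟨1, Or.inl rfl, ?_⟩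
    intro χ hχ
    exact absurd ⟨χ, hχ⟩ hne

theorem lio_injOn (hirr : ∀ χ ∈ S, IsIrrCharacter L χ) (hτ₁ : IsLinearIsometryOn (zspan S) τ₁) {χ ψ : L → ℂ}
    (hχ : χ ∈ S) (hψ : ψ ∈ S) (h : τ₁ χ = τ₁ ψ) : χ = ψ := by
  by_contra hne
  have h1 := lio_inner hτ₁ (mem_zspan_of_mem hχ) (mem_zspan_of_mem hψ)
  rw [h, lio_inner hτ₁ (mem_zspan_of_mem hψ) (mem_zspan_of_mem hψ), classInner_irr_self (hirr ψ hψ),
    classInner_irr_ne (hirr χ hχ) (hirr ψ hψ) hne] at h1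
  exact one_ne_zero h1

end signs

end iso

end Cfsg.Agent.Lib.Helper10
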