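import Mathlib
import Cfsg.Prelude.Def_Characters
import Cfsg.Prelude.Def_OddOrderChar
import Cfsg.Agent.Lib.Helper10.Coh

set_option autoImplicit false

namespace Cfsg.Agent.Lib.Helper10

open Cfsg Cfsg.Agent.CharLib
open scoped ComplexConjugate

universe u v

section proj

variable {L : Type u} [Group L] [Fintype L]

open Classical in
/-- projection onto the span of the irreducible characters lying in `X` -/
noncomputable def proj (X : Set (L → ℂ)) (θ : L → ℂ) : L → ℂ :=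
  ∑ ξ : IrrCharacter L, if (ξ : L → ℂ) ∈ X then classInner θ ξ • (ξ : L → ℂ) else 0

theorem proj_add (X : Set (L → ℂ)) (θ θ' : L → ℂ) : proj X (θ + θ') = proj X θ + proj X θ' := by
  unfold proj
  rw [← Finset.sum_add_distrib]
  refine Finset.sum_congr rfl fun ξ _ => ?_
  split_ifs
  · rw [classInner_add_left, add_smul]
  · simp

theorem proj_zsmul (X : Set (L → ℂ)) (n : ℤ) (θ : L → ℂ) : proj X (n • θ) = n • proj X θ := by
  unfold proj
  rw [Finset.smul_sum]
  refine Finset.sum_congr rfl fun ξ _ => ?_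
  split_ifs
  · have : n • θ = (n : ℂ) • θ := by ext x; simp
    rw [this, classInner_smul_left, mul_smul]
    ext x; simp
  · simp

theorem proj_zero (X : Set (L → ℂ)) : proj X (0 : L → ℂ) = 0 := by
  have := proj_zsmul X 0 (0 : L → ℂ)
  simpa using this

theorem proj_irr (X : Set (L → ℂ)) {ξ : L → ℂ} (hξ : IsIrrCharacter L ξ) [Decidable (ξ ∈ X)] :
    proj X ξ = if ξ ∈ X then ξ else 0 := by
  classical
  unfold proj
  rw [Finset.sum_eq_single (⟨ξ, hξ⟩ : IrrCharacter L)]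
  · simp only
    split_ifs
    · rw [classInner_irr_self hξ, one_smul]
    · rfl
  · intro ξ' _ hne
    split_ifs
    · rw [classInner_irr_ne hξ ξ'.2 (fun h => hne (Subtype.ext h.symm)), zero_smul]
    · rfl
  · intro h; exact absurd (Finset.mem_univ _) h

theorem proj_zspan_self {X : Set (L → ℂ)} (hirr : ∀ ξ ∈ X, IsIrrCharacter L ξ) {θ : L → ℂ} (hθ : θ ∈ zspan X) :
    proj X θ = θ := by
  classical
  induction hθ using Submodule.span_induction with
  | mem ξ hξ => rw [proj_irr X (hirr ξ hξ), if_pos hξ]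
  | zero => exact proj_zero X
  | add a b _ _ ha hb => rw [proj_add, ha, hb]
  | smul n a _ ha => rw [proj_zsmul, ha]

theorem proj_zspan_disjoint {X Y : Set (L → ℂ)} (hirr : ∀ ξ ∈ Y, IsIrrCharacter L ξ) (hXY : Disjoint X Y)
    {θ : L → ℂ} (hθ : θ ∈ zspan Y) : proj X θ = 0 := by
  classical
  induction hθ using Submodule.span_induction with
  | mem ξ hξ => rw [proj_irr X (hirr ξ hξ), if_neg (fun h => Set.disjoint_left.1 hXY h hξ)]
  | zero => exact proj_zero X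
  | add a b _ _ ha hb => rw [proj_add, ha, hb, add_zero]
  | smul n a _ ha => rw [proj_zsmul, ha, smul_zero]

theorem proj_decomp {X Y : Set (L → ℂ)} (hX : ∀ ξ ∈ X, IsIrrCharacter L ξ) (hY : ∀ ξ ∈ Y, IsIrrCharacter L ξ)
    (hXY : Disjoint X Y) {θ : L → ℂ} (hθ : θ ∈ zspan (X ∪ Y)) :
    proj X θ ∈ zspan X ∧ proj Y θ ∈ zspan Y ∧ θ = proj X θ + proj Y θ := by
  have h1 : θ ∈ Submodule.span ℤ X ⊔ Submodule.span ℤ Y := by
    rw [← Submodule.span_union]; exact hθ
  obtain ⟨a, ha, b, hb, rfl⟩ := Submodule.mem_sup.1 h1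
  have e1 : proj X (a + b) = a := by
    rw [proj_add, proj_zspan_self hX ha, proj_zspan_disjoint hY hXY hb, add_zero]
  have e2 : proj Y (a + b) = b := by
    rw [proj_add, proj_zspan_self hY hb, proj_zspan_disjoint hX hXY.symm ha, zero_add]
  rw [e1, e2]
  exact ⟨ha, hb, rfl⟩

theorem zspan_apply_one_int {X : Set (L → ℂ)} (hirr : ∀ ξ ∈ X, IsIrrCharacter L ξ) {θ : L → ℂ}
    (hθ : θ ∈ zspan X) : ∃ k : ℤ, θ 1 = k := by
  induction hθ using Submodule.span_induction with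
  | mem ξ hξ =>
    obtain ⟨n, -, hn⟩ := irr_apply_one_nat ⟨ξ, hirr ξ hξ⟩
    exact ⟨n, by simpa using hn⟩
  | zero => exact ⟨0, by simp⟩
  | add a b _ _ ha hb =>
    obtain ⟨k, hk⟩ := ha
    obtain ⟨l, hl⟩ := hb
    exact ⟨k + l, by simp [hk, hl]⟩
  | smul n a _ ha =>
    obtain ⟨k, hk⟩ := ha
    exact ⟨n * k, by simp [hk]⟩

theorem inner_zspan_zero {X Y : Set (L → ℂ)} (hX : ∀ ξ ∈ X, IsIrrCharacter L ξ)
    (hY : ∀ ξ ∈ Y, IsIrrCharacter L ξ) (hXY : Disjoint X Y) {a b : L → ℂ} (ha : a ∈ zspan X)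
    (hb : b ∈ zspan Y) : classInner a b = 0 := by
  induction ha using Submodule.span_induction with
  | mem ξ hξ =>
    induction hb using Submodule.span_induction with
    | mem η hη =>
      exact classInner_irr_ne (hX ξ hξ) (hY η hη) (fun h => Set.disjoint_left.1 hXY hξ (h ▸ hη))
    | zero => simp [classInner]
    | add c d _ _ hc hd => rw [classInner_add_right, hc, hd, add_zero]
    | smul n c _ hc =>
      have : n • c = (n : ℂ) • c := by ext x; simp
      rw [this, classInner_smul_right, hc, mul_zero]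
  | zero => simp [classInner]
  | add c d _ _ hc hd => rw [classInner_add_left, hc, hd, add_zero]
  | smul n c _ hc =>
    have : n • c = (n : ℂ) • c := by ext x; simp
    rw [this, classInner_smul_left, hc, mul_zero]

end proj

section glue

variable {L : Type u} [Group L] [Fintype L] {G : Type v} [Group G] [Fintype G]

omit [Fintype G] in
theorem isGeneralizedCharacter_add {a b : G → ℂ} (ha : IsGeneralizedCharacter G a)
    (hb : IsGeneralizedCharacter G b) : IsGeneralizedCharacter G (a + b) := by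
  obtain ⟨χ₁, ψ₁, h1, h2, rfl⟩ := ha
  obtain ⟨χ₂, ψ₂, h3, h4, rfl⟩ := hb
  exact ⟨χ₁ + χ₂, ψ₁ + ψ₂, isCharacter_add h1 h3, isCharacter_add h2 h4, by abel⟩

theorem lio_zero {S : Set (L → ℂ)} {σ : (L → ℂ) → (G → ℂ)} (hσ : IsLinearIsometryOn (zspan S) σ) : σ 0 = 0 := by
  have := lio_zsmul hσ (zspan_zero (S := S)) 0
  simpa using this

theorem lio_zero' {S : Set (L → ℂ)} {A : Set L} {σ : (L → ℂ) → (G → ℂ)} (hσ : IsLinearIsometryOn (zspanOn S A) σ) :
    σ 0 = 0 := by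
  have h0 : (0 : L → ℂ) ∈ zspanOn S A := ⟨zspan_zero, fun _ _ => rfl⟩
  have := lio_zsmul hσ h0 0
  simpa using this

theorem inner_map_zero {X Y : Set (L → ℂ)} {σ τ : (L → ℂ) → (G → ℂ)} (hσ : IsLinearIsometryOn (zspan X) σ)
    (hτ : IsLinearIsometryOn (zspan Y) τ) (horth : ∀ χ ∈ X, ∀ η ∈ Y, classInner (σ χ) (τ η) = 0)
    {a b : L → ℂ} (ha : a ∈ zspan X) (hb : b ∈ zspan Y) : classInner (σ a) (τ b) = 0 := by
  induction ha using Submodule.span_induction with
  | mem ξ hξ =>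
    induction hb using Submodule.span_induction with
    | mem η hη => exact horth ξ hξ η hη
    | zero => rw [lio_zero hτ]; simp [classInner]
    | add c d hc' hd' hc hd => rw [lio_add hτ hc' hd', classInner_add_right, hc, hd, add_zero]
    | smul n c hc' hc =>
      have : n • τ c = (n : ℂ) • τ c := by ext x; simp
      rw [lio_zsmul hτ hc', this, classInner_smul_right, hc, mul_zero]
  | zero => rw [lio_zero hσ]; simp [classInner]
  | add c d hc' hd' hc hd => rw [lio_add hσ hc' hd', classInner_add_left, hc, hd, add_zero]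
  | smul n c hc' hc =>
    have : n • σ c = (n : ℂ) • σ c := by ext x; simp
    rw [lio_zsmul hσ hc', this, classInner_smul_left, hc, mul_zero]

/-- the glued map -/
noncomputable def glueMap (X Y : Set (L → ℂ)) (σ τ : (L → ℂ) → (G → ℂ)) (θ : L → ℂ) : G → ℂ :=
  σ (proj X θ) + τ (proj Y θ)

theorem glue_isometry {X Y : Set (L → ℂ)} (hX : ∀ ξ ∈ X, IsIrrCharacter L ξ) (hY : ∀ ξ ∈ Y, IsIrrCharacter L ξ)
    (hXY : Disjoint X Y) {σ τ : (L → ℂ) → (G → ℂ)} (hσ : IsLinearIsometryOn (zspan X) σ)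
    (hτ : IsLinearIsometryOn (zspan Y) τ) (horth : ∀ χ ∈ X, ∀ η ∈ Y, classInner (σ χ) (τ η) = 0) :
    IsLinearIsometryOn (zspan (X ∪ Y)) (glueMap X Y σ τ) := by
  refine ⟨?_, ?_, ?_, ?_⟩
  · intro a ha b hb
    obtain ⟨a1, a2, -⟩ := proj_decomp hX hY hXY ha
    obtain ⟨b1, b2, -⟩ := proj_decomp hX hY hXY hb
    unfold glueMap
    rw [proj_add, proj_add, lio_add hσ a1 b1, lio_add hτ a2 b2]
    abel
  · intro a ha n
    obtain ⟨a1, a2, -⟩ := proj_decomp hX hY hXY ha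
    unfold glueMap
    rw [proj_zsmul, proj_zsmul, lio_zsmul hσ a1, lio_zsmul hτ a2, smul_add]
  · intro a ha b hb
    obtain ⟨a1, a2, a3⟩ := proj_decomp hX hY hXY ha
    obtain ⟨b1, b2, b3⟩ := proj_decomp hX hY hXY hb
    conv_rhs => rw [a3, b3]
    unfold glueMap
    rw [classInner_add_left, classInner_add_right, classInner_add_right, classInner_add_left,
      classInner_add_right, classInner_add_right, lio_inner hσ a1 b1, lio_inner hτ a2 b2,
      inner_map_zero hσ hτ horth a1 b2, classInner_eq_zero_symm (inner_map_zero hσ hτ horth b1 a2),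
      inner_zspan_zero hX hY hXY a1 b2, classInner_eq_zero_symm (inner_zspan_zero hX hY hXY b1 a2)]
  · intro a ha
    obtain ⟨a1, a2, -⟩ := proj_decomp hX hY hXY ha
    exact isGeneralizedCharacter_add (lio_virtual hσ a1) (lio_virtual hτ a2)

/-- Gluing two coherent pieces. -/
theorem glue_coherent {S X Y : Set (L → ℂ)} (hirr : ∀ ξ ∈ S, IsIrrCharacter L ξ) (hXS : X ⊆ S) (hYS : Y ⊆ S)
    (hXY : Disjoint X Y) {α σ τ : (L → ℂ) → (G → ℂ)} (hα : IsLinearIsometryOn (zspanOn S {1}ᶜ) α)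
    (hσ : IsLinearIsometryOn (zspan X) σ) (hσα : ∀ θ ∈ zspanOn X {1}ᶜ, σ θ = α θ)
    (hτ : IsLinearIsometryOn (zspan Y) τ) (hτα : ∀ θ ∈ zspanOn Y {1}ᶜ, τ θ = α θ)
    (horth : ∀ χ ∈ X, ∀ η ∈ Y, classInner (σ χ) (τ η) = 0)
    {χ₀ η₀ : L → ℂ} (hχ₀ : χ₀ ∈ X) (hη₀ : η₀ ∈ Y) (c e : ℤ) (hc : χ₀ 1 = c) (he : η₀ 1 = e)
    (hlink : α (c • η₀ + (-e) • χ₀) = c • τ η₀ + (-e) • σ χ₀) :
    ∀ θ ∈ zspanOn (X ∪ Y) {1}ᶜ, glueMap X Y σ τ θ = α θ := by
  have hX : ∀ ξ ∈ X, IsIrrCharacter L ξ := fun ξ h => hirr ξ (hXS h)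
  have hY : ∀ ξ ∈ Y, IsIrrCharacter L ξ := fun ξ h => hirr ξ (hYS h)
  intro θ hθ
  rw [mem_zspanOn_one_iff] at hθ
  obtain ⟨hθ1, hθ2⟩ := hθ
  obtain ⟨a1, a2, a3⟩ := proj_decomp hX hY hXY hθ1
  set θX := proj X θ with hθX
  set θY := proj Y θ with hθY
  obtain ⟨k, hk⟩ := zspan_apply_one_int hX a1
  have hkY : θY 1 = -(k : ℂ) := by
    have := congrFun a3 1
    rw [hθ2, Pi.add_apply, hk] at this
    linear_combination -this
  have hc0 : (c : ℂ) ≠ 0 := by
    rw [← hc]; exact irr_apply_one_ne_zero ⟨χ₀, hX χ₀ hχ₀⟩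
  have he0 : (e : ℂ) ≠ 0 := by
    rw [← he]; exact irr_apply_one_ne_zero ⟨η₀, hY η₀ hη₀⟩
  -- the three pieces
  have hU : c • θX + (-k) • χ₀ ∈ zspanOn X {1}ᶜ := by
    rw [mem_zspanOn_one_iff]
    refine ⟨zspan_add (zspan_zsmul a1 _) (zspan_zsmul (mem_zspan_of_mem hχ₀) _), ?_⟩
    simp [hk, hc]; ring
  have hV : e • θY + k • η₀ ∈ zspanOn Y {1}ᶜ := by
    rw [mem_zspanOn_one_iff]
    refine ⟨zspan_add (zspan_zsmul a2 _) (zspan_zsmul (mem_zspan_of_mem hη₀) _), ?_⟩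
    simp [hkY, he]; ring
  have hW : c • η₀ + (-e) • χ₀ ∈ zspanOn S {1}ᶜ := by
    rw [mem_zspanOn_one_iff]
    refine ⟨zspan_add (zspan_zsmul (mem_zspan_of_mem (hYS hη₀)) _) (zspan_zsmul (mem_zspan_of_mem (hXS hχ₀)) _), ?_⟩
    simp [hc, he]; ring
  have hU' := zspanOn_mono (A := {1}ᶜ) hXS hU
  have hV' := zspanOn_mono (A := {1}ᶜ) hYS hV
  have hθS : θ ∈ zspanOn S {1}ᶜ := by
    rw [mem_zspanOn_one_iff]
    exact ⟨zspan_mono (Set.union_subset hXS hYS) hθ1, hθ2⟩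
  have hdecomp : (e * c) • θ = e • (c • θX + (-k) • χ₀) + c • (e • θY + k • η₀) + (-k) • (c • η₀ + (-e) • χ₀) := by
    conv_lhs => rw [a3]
    ext x
    simp
    ring
  have h1 : α ((e * c) • θ) = (e * c) • α θ := lio_zsmul hα hθS _
  have h2 : α ((e * c) • θ) = e • α (c • θX + (-k) • χ₀) + c • α (e • θY + k • η₀) +
      (-k) • α (c • η₀ + (-e) • χ₀) := by
    rw [hdecomp, lio_add hα (zspanOn_add (zspanOn_zsmul hU' _) (zspanOn_zsmul hV' _)) (zspanOn_zsmul hW _),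
      lio_add hα (zspanOn_zsmul hU' _) (zspanOn_zsmul hV' _), lio_zsmul hα hU', lio_zsmul hα hV',
      lio_zsmul hα hW]
  rw [← hσα _ hU, ← hτα _ hV, hlink,
    lio_comb hσ (fun α ha n => zspan_zsmul ha n) a1 (mem_zspan_of_mem hχ₀),
    lio_comb hτ (fun α ha n => zspan_zsmul ha n) a2 (mem_zspan_of_mem hη₀), h1] at h2
  unfold glueMap
  ext x
  have h3 := congrFun h2 x
  simp only [Pi.add_apply, Pi.smul_apply] at h3
  simp only [zsmul_eq_mul, Int.cast_mul, Int.cast_neg] at h3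
  have h4 : ((e : ℂ) * c) * (σ θX x + τ θY x - α θ x) = 0 := by linear_combination -h3
  rcases mul_eq_zero.1 h4 with h | h
  · exact absurd h (mul_ne_zero he0 hc0)
  · rw [Pi.add_apply]
    exact sub_eq_zero.1 h

end glue

end Cfsg.Agent.Lib.Helper10
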