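import Mathlib
import Cfsg.Agent.Lib.Helper10.Glue

/-!
More on virtual characters: integrality of inner products, closure properties, Bessel decomposition.
-/

set_option autoImplicit false

universe u

namespace Cfsg.Agent.Lib.Helper10

open Cfsg Cfsg.Agent.CharLib

variable {X : Type u} [Group X] [Fintype X]

theorem classInner_virtual_int {θ θ' : X → ℂ} (h : IsGeneralizedCharacter X θ)
    (h' : IsGeneralizedCharacter X θ') : ∃ k : ℤ, classInner θ θ' = k := by
  obtain ⟨m, rfl⟩ := isGeneralizedCharacter_iff.mp h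
  obtain ⟨m', rfl⟩ := isGeneralizedCharacter_iff.mp h'
  rw [classInner_sum_sum]
  exact ⟨∑ χ, m χ * m' χ, by push_cast; simp⟩

theorem norm_virtual_nat {θ : X → ℂ} (h : IsGeneralizedCharacter X θ) : ∃ k : ℕ, classInner θ θ = k := by
  obtain ⟨m, rfl⟩ := isGeneralizedCharacter_iff.mp h
  rw [norm_virtual]
  refine ⟨(∑ χ : IrrCharacter X, m χ ^ 2).toNat, ?_⟩
  have h0 : 0 ≤ ∑ χ : IrrCharacter X, m χ ^ 2 := Finset.sum_nonneg fun χ _ => sq_nonneg _
  have : ((∑ χ : IrrCharacter X, m χ ^ 2).toNat : ℤ) = ∑ χ : IrrCharacter X, m χ ^ 2 := Int.toNat_of_nonneg h0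
  generalize (∑ χ : IrrCharacter X, m χ ^ 2) = z at this ⊢
  generalize z.toNat = k at this
  rw [← this]
  simp

theorem isGeneralizedCharacter_zero : IsGeneralizedCharacter X (0 : X → ℂ) :=
  isGeneralizedCharacter_iff.mpr ⟨fun _ => 0, by simp⟩

theorem isGeneralizedCharacter_intCast_smul {θ : X → ℂ} (h : IsGeneralizedCharacter X θ) (n : ℤ) :
    IsGeneralizedCharacter X ((n : ℂ) • θ) := by
  obtain ⟨m, rfl⟩ := isGeneralizedCharacter_iff.mp h
  refine isGeneralizedCharacter_iff.mpr ⟨fun χ => n * m χ, ?_⟩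
  rw [Finset.smul_sum]
  refine Finset.sum_congr rfl fun χ _ => ?_
  rw [smul_smul]; push_cast; rfl

theorem isGeneralizedCharacter_zsmul {θ : X → ℂ} (h : IsGeneralizedCharacter X θ) (n : ℤ) :
    IsGeneralizedCharacter X (n • θ) := by
  have : n • θ = (n : ℂ) • θ := by ext x; simp
  rw [this]; exact isGeneralizedCharacter_intCast_smul h n

theorem isGeneralizedCharacter_neg {θ : X → ℂ} (h : IsGeneralizedCharacter X θ) :
    IsGeneralizedCharacter X (-θ) := by
  have := isGeneralizedCharacter_zsmul h (-1)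
  simpa using this

theorem isGeneralizedCharacter_sub {θ θ' : X → ℂ} (h : IsGeneralizedCharacter X θ)
    (h' : IsGeneralizedCharacter X θ') : IsGeneralizedCharacter X (θ - θ') := by
  rw [sub_eq_add_neg]; exact isGeneralizedCharacter_add h (isGeneralizedCharacter_neg h')

theorem isGeneralizedCharacter_sum {ι : Type*} (s : Finset ι) (f : ι → X → ℂ)
    (h : ∀ i ∈ s, IsGeneralizedCharacter X (f i)) : IsGeneralizedCharacter X (∑ i ∈ s, f i) := by
  classical
  induction s using Finset.induction_on with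
  | empty => simpa using isGeneralizedCharacter_zero
  | insert a s ha ih =>
    rw [Finset.sum_insert ha]
    exact isGeneralizedCharacter_add (h a (Finset.mem_insert_self _ _))
      (ih fun i hi => h i (Finset.mem_insert_of_mem hi))

theorem classInner_zsmul_left (n : ℤ) (a b : X → ℂ) : classInner (n • a) b = n * classInner a b := by
  have : n • a = (n : ℂ) • a := by ext x; simp
  rw [this, classInner_smul_left]

theorem classInner_zsmul_right (n : ℤ) (a b : X → ℂ) : classInner a (n • b) = n * classInner a b := by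
  have : n • b = (n : ℂ) • b := by ext x; simp
  rw [this, classInner_smul_right]; simp

/-- Bessel decomposition with respect to an orthonormal family, integral coefficients. -/
theorem bessel {ι : Type*} [DecidableEq ι] (s : Finset ι) (e : ι → X → ℂ)
    (hon : ∀ i ∈ s, ∀ j ∈ s, classInner (e i) (e j) = if i = j then 1 else 0) (v : X → ℂ) (c : ι → ℤ)
    (hc : ∀ i ∈ s, classInner v (e i) = c i) :
    (∀ i ∈ s, classInner (v - ∑ j ∈ s, (c j : ℂ) • e j) (e i) = 0) ∧
    classInner v v = classInner (v - ∑ j ∈ s, (c j : ℂ) • e j) (v - ∑ j ∈ s, (c j : ℂ) • e j) +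
      ((∑ j ∈ s, c j ^ 2 : ℤ) : ℂ) := by
  have h1 : ∀ i ∈ s, classInner (v - ∑ j ∈ s, (c j : ℂ) • e j) (e i) = 0 := by
    intro i hi
    rw [classInner_sub_left, classInner_sum_left, hc i hi, Finset.sum_eq_single i]
    · rw [classInner_smul_left, hon i hi i hi, if_pos rfl, mul_one, sub_self]
    · intro j hj hne
      rw [classInner_smul_left, hon j hj i hi, if_neg hne, mul_zero]
    · intro h; exact absurd hi h
  refine ⟨h1, ?_⟩
  have h2 : classInner (v - ∑ j ∈ s, (c j : ℂ) • e j) (∑ j ∈ s, (c j : ℂ) • e j) = 0 := by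
    rw [classInner_sum_right]
    refine Finset.sum_eq_zero fun j hj => ?_
    rw [classInner_smul_right, h1 j hj, mul_zero]
  have h3 : classInner (∑ j ∈ s, (c j : ℂ) • e j) v = ((∑ j ∈ s, c j ^ 2 : ℤ) : ℂ) := by
    rw [classInner_sum_left]
    push_cast
    refine Finset.sum_congr rfl fun j hj => ?_
    rw [classInner_smul_left, ← classInner_conj_symm, hc j hj]
    simp [sq]
  rw [classInner_sub_right (v - ∑ j ∈ s, (c j : ℂ) • e j), h2, sub_zero, classInner_sub_left, h3]
  ring

end Cfsg.Agent.Lib.Helper10
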