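import Mathlib
import Cfsg.Agent.Lib.Helper10.LinChar2
import Cfsg.Agent.Lib.Helper10.Virtual2
import Cfsg.Agent.CharLib.Complete
import Cfsg.Agent.CharLib.L.AbelianIndex
import Cfsg.Agent.CharLib.L.Linear

/-!
Coherence of a family of characters of equal degree (in terms of the differences), and a vanishing criterion on
abelian groups.
-/

set_option autoImplicit false

universe u

namespace Cfsg.Agent.Lib.Helper10

open Cfsg Cfsg.Agent.CharLib Cfsg.Agent.CharLib.L
open scoped ComplexConjugate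

section star

variable {X : Type u} [Group X] [Fintype X]

open Classical in
theorem classInner_irrCharacter (a b : IrrCharacter X) :
    classInner (a : X → ℂ) (b : X → ℂ) = if a = b then 1 else 0 := by
  rw [classInner_irr a.2 b.2]
  by_cases h : a = b
  · rw [if_pos h, if_pos (by rw [h])]
  · rw [if_neg h, if_neg (fun h' => h (Subtype.ext h'))]

open Classical in
theorem inner_diff (a b c d : IrrCharacter X) :
    classInner ((a : X → ℂ) - (b : X → ℂ)) ((c : X → ℂ) - (d : X → ℂ)) =
      (if a = c then 1 else 0) - (if a = d then 1 else 0) - (if b = c then 1 else 0) + (if b = d then 1 else 0) := by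
  rw [classInner_sub_left, classInner_sub_right, classInner_sub_right, classInner_irrCharacter,
    classInner_irrCharacter, classInner_irrCharacter, classInner_irrCharacter]
  ring

theorem inner_diff_one {a b c d : IrrCharacter X} (hab : a ≠ b) (hcd : c ≠ d)
    (h : classInner ((a : X → ℂ) - (b : X → ℂ)) ((c : X → ℂ) - (d : X → ℂ)) = 1) :
    (a = c ∧ b ≠ d) ∨ (b = d ∧ a ≠ c) := by
  classical
  rw [inner_diff] at h
  by_cases h1 : a = c
  · subst h1
    by_cases h2 : b = d
    · subst h2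
      rw [if_pos rfl, if_pos rfl, if_neg hab, if_neg hab.symm] at h
      norm_num at h
    · exact Or.inl ⟨rfl, h2⟩
  · by_cases h2 : b = d
    · exact Or.inr ⟨h2, h1⟩
    · rw [if_neg h1, if_neg h2] at h
      exfalso
      by_cases h3 : a = d <;> by_cases h4 : b = c <;> simp [h3, h4] at h <;> norm_num at h

theorem star_coherent {I : Type*} (D : I → I → (X → ℂ))
    (hadd : ∀ i j k, D i j + D j k = D i k)
    (hdiff : ∀ i j, i ≠ j → ∃ a b : IrrCharacter X, a ≠ b ∧ D i j = (a : X → ℂ) - (b : X → ℂ))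
    (hinner : ∀ i j k, i ≠ j → i ≠ k → j ≠ k → classInner (D i j) (D i k) = 1)
    (i₀ j₀ : I) (h₀ : i₀ ≠ j₀) :
    ∃ (δ : ℂ) (μ : I → IrrCharacter X), (δ = 1 ∨ δ = -1) ∧ Function.Injective μ ∧
      ∀ i j, D i j = δ • ((μ i : X → ℂ) - (μ j : X → ℂ)) := by
  classical
  have h' : ∀ k, ∃ a b : IrrCharacter X, k ≠ i₀ → (a ≠ b ∧ D i₀ k = (a : X → ℂ) - (b : X → ℂ)) := by
    intro k
    by_cases hk : k = i₀
    · obtain ⟨a, b, -, -⟩ := hdiff i₀ j₀ h₀
      exact ⟨a, b, fun h => absurd hk h⟩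
    · obtain ⟨a, b, h1, h2⟩ := hdiff i₀ k (Ne.symm hk)
      exact ⟨a, b, fun _ => ⟨h1, h2⟩⟩
  choose γ ε hγε using h'
  have hF : ∀ k k', k ≠ i₀ → k' ≠ i₀ → k ≠ k' →
      (γ k = γ k' ∧ ε k ≠ ε k') ∨ (ε k = ε k' ∧ γ k ≠ γ k') := by
    intro k k' hk hk' hkk'
    apply inner_diff_one (hγε k hk).1 (hγε k' hk').1
    rw [← (hγε k hk).2, ← (hγε k' hk').2]
    exact hinner i₀ k k' (Ne.symm hk) (Ne.symm hk') hkk'
  have hD0 : D i₀ i₀ = 0 := by
    have := hadd i₀ i₀ i₀
    exact left_eq_add.1 this.symm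
  have hDij : ∀ i j, D i j = D i₀ j - D i₀ i := by
    intro i j
    rw [← hadd i₀ i j]; abel
  by_cases hA : ∀ k, k ≠ i₀ → γ k = γ j₀
  · refine ⟨1, fun k => if k = i₀ then γ j₀ else ε k, Or.inl rfl, ?_, ?_⟩
    · intro k k' hkk'
      simp only at hkk'
      by_cases hk : k = i₀ <;> by_cases hk' : k' = i₀
      · rw [hk, hk']
      · rw [if_pos hk, if_neg hk', ← hA k' hk'] at hkk'
        exact absurd hkk' (hγε k' hk').1
      · rw [if_neg hk, if_pos hk', ← hA k hk] at hkk'
        exact absurd hkk'.symm (hγε k hk).1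
      · rw [if_neg hk, if_neg hk'] at hkk'
        by_contra hne
        rcases hF k k' hk hk' hne with h | h
        · exact h.2 hkk'
        · exact h.2 (by rw [hA k hk, hA k' hk'])
    · have hE : ∀ k, D i₀ k = (γ j₀ : X → ℂ) - ((if k = i₀ then γ j₀ else ε k : IrrCharacter X) : X → ℂ) := by
        intro k
        by_cases hk : k = i₀
        · rw [if_pos hk, hk, hD0, sub_self]
        · rw [if_neg hk, (hγε k hk).2, hA k hk]
      intro i j
      rw [hDij, hE i, hE j, one_smul]; abel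
  · push Not at hA
    obtain ⟨k₁, hk₁, hk₁'⟩ := hA
    have hj₀ : j₀ ≠ i₀ := Ne.symm h₀
    have hk₁j : k₁ ≠ j₀ := by rintro rfl; exact hk₁' rfl
    have hε₁ : ε k₁ = ε j₀ := by
      rcases hF k₁ j₀ hk₁ hj₀ hk₁j with h | h
      · exact absurd h.1 hk₁'
      · exact h.1
    have hB : ∀ k, k ≠ i₀ → ε k = ε j₀ := by
      intro k hk
      by_cases hkj : k = j₀
      · rw [hkj]
      by_cases hkk : k = k₁
      · rw [hkk, hε₁]
      rcases hF k j₀ hk hj₀ hkj with h | h
      · rcases hF k k₁ hk hk₁ hkk with h2 | h2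
        · exact absurd (h2.1.symm.trans h.1) hk₁'
        · rw [h2.1, hε₁]
      · exact h.1
    refine ⟨-1, fun k => if k = i₀ then ε j₀ else γ k, Or.inr rfl, ?_, ?_⟩
    · intro k k' hkk'
      simp only at hkk'
      by_cases hk : k = i₀ <;> by_cases hk' : k' = i₀
      · rw [hk, hk']
      · rw [if_pos hk, if_neg hk', ← hB k' hk'] at hkk'
        exact absurd hkk'.symm (hγε k' hk').1
      · rw [if_neg hk, if_pos hk', ← hB k hk] at hkk'
        exact absurd hkk' (hγε k hk).1
      · rw [if_neg hk, if_neg hk'] at hkk'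
        by_contra hne
        rcases hF k k' hk hk' hne with h | h
        · exact h.2 (by rw [hB k hk, hB k' hk'])
        · exact h.2 hkk'
    · have hE : ∀ k, D i₀ k = ((if k = i₀ then ε j₀ else γ k : IrrCharacter X) : X → ℂ) - (ε j₀ : X → ℂ) := by
        intro k
        by_cases hk : k = i₀
        · rw [if_pos hk, hk, hD0, sub_self]
        · rw [if_neg hk, (hγε k hk).2, hB k hk]
      intro i j
      rw [hDij, hE i, hE j, neg_one_smul]; abel

end star

section ab

variable {W : Type u} [Group W] [Fintype W]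

theorem exists_hom_of_irr_of_comm (hW : ∀ a b : W, a * b = b * a) {χ : W → ℂ} (hχ : IsIrrCharacter W χ) :
    ∃ ω : W →* ℂˣ, χ = fun w => (ω w : ℂ) := by
  have h1 := irr_apply_one_of_comm hW ⟨χ, hχ⟩
  have h2 := irr_mul_of_apply_one_eq_one ⟨χ, hχ⟩ h1
  let f : W →* ℂ := { toFun := χ, map_one' := h1, map_mul' := h2 }
  exact ⟨f.toHomUnits, by funext w; rfl⟩

theorem exists_lin_ne_one (hW : ∀ a b : W, a * b = b * a) (H : Subgroup W) {x : W} (hx : x ∉ H) :
    ∃ l : W →* ℂˣ, (∀ y ∈ H, l y = 1) ∧ l x ≠ 1 := by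
  letI : CommGroup W := { (inferInstance : Group W) with mul_comm := hW }
  haveI : NeZero (Monoid.exponent (W ⧸ H)) := ⟨Monoid.exponent_ne_zero_of_finite⟩
  haveI : NeZero ((Monoid.exponent (W ⧸ H) : ℕ) : ℂ) := ⟨by exact_mod_cast Monoid.exponent_ne_zero_of_finite⟩
  have hx' : (x : W ⧸ H) ≠ 1 := fun h => hx ((QuotientGroup.eq_one_iff x).1 h)
  obtain ⟨φ, hφ⟩ := CommGroup.exists_apply_ne_one_of_hasEnoughRootsOfUnity (W ⧸ H) ℂ hx'
  refine ⟨φ.comp (QuotientGroup.mk' H), ?_, hφ⟩
  intro y hy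
  rw [MonoidHom.comp_apply, QuotientGroup.mk'_apply, (QuotientGroup.eq_one_iff y).2 hy, map_one]

/-- a function on an abelian group having the same multiplicity for linear characters agreeing on `H` vanishes
outside `H` -/
theorem vanish_off (hW : ∀ a b : W, a * b = b * a) (H : Subgroup W) (φ : W → ℂ)
    (h : ∀ ω ω' : W →* ℂˣ, (∀ y ∈ H, ω y = ω' y) →
      classInner (fun w => (ω w : ℂ)) φ = classInner (fun w => (ω' w : ℂ)) φ) :
    ∀ x, x ∉ H → φ x = 0 := by
  intro x hx
  obtain ⟨l, hl, hlx⟩ := exists_lin_ne_one hW H hx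
  have hcf : ∀ f : W → ℂ, IsClassFunction W f := by
    intro f g k
    rw [hW k g, mul_inv_cancel_right]
  have h0 : (fun w => φ w - conj (l w : ℂ) * φ w) = 0 := by
    apply eq_zero_of_classInner_irr_eq_zero (hcf _)
    intro χ hχ
    obtain ⟨ω, rfl⟩ := exists_hom_of_irr_of_comm hW hχ
    rw [← classInner_conj_symm]
    have h1 := h ω (l * ω) (fun y hy => by rw [MonoidHom.mul_apply, hl y hy, one_mul])
    have h2 : classInner (fun w => (ω w : ℂ)) (fun w => φ w - conj (l w : ℂ) * φ w) =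
        classInner (fun w => (ω w : ℂ)) φ - classInner (fun w => ((l * ω) w : ℂ)) φ := by
      simp only [classInner, ← mul_sub, ← Finset.sum_sub_distrib]
      congr 1
      refine Finset.sum_congr rfl fun w _ => ?_
      simp only [map_sub, map_mul, Complex.conj_conj, MonoidHom.mul_apply, Units.val_mul]
      ring
    rw [h2, h1, sub_self, map_zero]
  have h3 := congrFun h0 x
  simp only [Pi.zero_apply] at h3
  have h4 : φ x * (1 - conj (l x : ℂ)) = 0 := by rw [← h3]; ring
  rcases mul_eq_zero.1 h4 with h5 | h5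
  · exact h5
  · exfalso
    apply hlx
    have h6 : conj (l x : ℂ) = 1 := (sub_eq_zero.1 h5).symm
    have h7 : (l x : ℂ) = 1 := by
      have := congrArg conj h6
      simpa using this
    exact Units.ext h7

end ab

end Cfsg.Agent.Lib.Helper10
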