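import Mathlib
import Cfsg.Prelude.Def_Blocks
import Cfsg.Agent.CharLib.L.Linear
import Cfsg.Agent.Lib.Helper10.LinChar2
import Cfsg.Agent.Lib.Helper10.Star
import Cfsg.Agent.Lib.Helper23.DegLib

/-! Linear irreducible characters as homomorphisms, for not necessarily abelian groups. -/

set_option autoImplicit false

namespace Cfsg.Agent.Lib.Helper10

open Cfsg Cfsg.Agent.CharLib Cfsg.Agent.Lib.Helper23

universe u

variable {G : Type u} [Group G]

/-- the homomorphism attached to an irreducible character of degree one -/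
noncomputable def homOfLin (χ : IrrCharacter G) (h : (χ : G → ℂ) 1 = 1) : G →* ℂˣ :=
  MonoidHom.toHomUnits
    { toFun := (χ : G → ℂ), map_one' := h, map_mul' := L.irr_mul_of_apply_one_eq_one χ h }

theorem homOfLin_apply (χ : IrrCharacter G) (h : (χ : G → ℂ) 1 = 1) (g : G) :
    ((homOfLin χ h g : ℂˣ) : ℂ) = (χ : G → ℂ) g := rfl

theorem apply_one_of_charDegree_eq_one (χ : IrrCharacter G) (h : charDegree (χ : G → ℂ) = 1) :
    (χ : G → ℂ) 1 = 1 := by
  have := charDegree_cast_irr χ
  rw [h] at this
  simpa using this.symm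

theorem charDegree_hom (l : G →* ℂˣ) : charDegree (fun g => ((l g : ℂˣ) : ℂ)) = 1 := by
  unfold charDegree
  simp

theorem hom_eq_one_of_mem_commutator (l : G →* ℂˣ) {g : G} (hg : g ∈ commutator G) : l g = 1 :=
  Abelianization.commutator_subset_ker l hg

variable [Finite G]

theorem exists_hom_ne_one_of_notMem_commutator {g : G} (hg : g ∉ commutator G) :
    ∃ l : G →* ℂˣ, l g ≠ 1 := by
  have h1 : Abelianization.of g ∉ (⊥ : Subgroup (Abelianization G)) := by
    intro h
    apply hg
    rw [Subgroup.mem_bot] at h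
    exact (QuotientGroup.eq_one_iff g).1 h
  have : Fintype (Abelianization G) := Fintype.ofFinite _
  obtain ⟨l, -, hl⟩ := exists_lin_ne_one (W := Abelianization G) mul_comm ⊥ h1
  exact ⟨l.comp Abelianization.of, hl⟩

/-- the number of linear characters with prescribed restriction to `I` is at most `[G : I]`. -/
theorem card_hom_agree_le (I : Subgroup G) (l₀ : G →* ℂˣ) :
    Nat.card {l : G →* ℂˣ // ∀ x ∈ I, l x = l₀ x} ≤ I.index := by
  have h1 := card_lin_trivial_on (W := Abelianization G) mul_comm (I.map Abelianization.of)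
  have hsurj : Function.Surjective (Abelianization.of : G →* Abelianization G) :=
    QuotientGroup.mk'_surjective _
  have h2 : (I.map Abelianization.of).index ≤ I.index :=
    Nat.le_of_dvd (Nat.pos_of_ne_zero Subgroup.index_ne_zero_of_finite)
      (Subgroup.index_map_dvd I hsurj)
  refine le_trans ?_ h2
  rw [← h1]
  refine Nat.card_le_card_of_injective
    (fun l : {l : G →* ℂˣ // ∀ x ∈ I, l x = l₀ x} =>
      (⟨Abelianization.lift (l.1 * l₀⁻¹), by
        rintro _ ⟨x, hx, rfl⟩
        rw [Abelianization.lift_apply_of]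
        show l.1 x * (l₀ x)⁻¹ = 1
        rw [l.2 x hx, mul_inv_cancel]⟩ :
        {φ : Abelianization G →* ℂˣ // ∀ y ∈ I.map Abelianization.of, φ y = 1})) ?_
  intro a b hab
  have h3 : Abelianization.lift (a.1 * l₀⁻¹) = Abelianization.lift (b.1 * l₀⁻¹) :=
    congrArg Subtype.val hab
  have h4 := Abelianization.lift.injective h3
  exact Subtype.ext (mul_right_cancel h4)

end Cfsg.Agent.Lib.Helper10
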