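import Mathlib
import Cfsg.Prelude.Def_Characters
import Cfsg.Agent.CharLib.PermLemma
import Cfsg.Agent.CharLib.Sub
import Cfsg.Agent.Lib.Helper23.DegLib
import Cfsg.Agent.S1487

set_option autoImplicit false

namespace Cfsg.Agent.Lib.Helper10

open Cfsg Cfsg.Agent.CharLib Cfsg.Agent.Lib.Helper23
open scoped ComplexConjugate

/-- an element in the kernel of a character is in the kernel of its constituents -/
theorem apply_eq_one_of_constituent {C : Type*} [Group C] [Fintype C] {ψ ξ : C → ℂ}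
    (hψ : IsCharacter C ψ) (hξ : IsIrrCharacter C ξ) (h : classInner ψ ξ ≠ 0) {b : C}
    (hb : ψ b = ψ 1) : ξ b = ξ 1 := by
  have h1 := H2.isCharacter_sub_irr hψ hξ h
  obtain ⟨n, hn1, hn⟩ := Cfsg.Agent.S1487.norm_le_apply_one h1
  obtain ⟨m, hm1, hm⟩ := Cfsg.Agent.S1487.norm_le_apply_one (isCharacter_of_irr hξ)
  have h2 : ξ b + (ψ - ξ) b = (m : ℂ) + n := by
    rw [← hm1, ← hn1]
    simp only [Pi.sub_apply]
    rw [hb]; ring
  have h3 := congrArg Complex.re h2
  simp only [Complex.add_re, Complex.natCast_re] at h3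
  have h4 : (ξ b).re ≤ m := (Complex.re_le_norm _).trans (hm b)
  have h5 : ((ψ - ξ) b).re ≤ n := (Complex.re_le_norm _).trans (hn b)
  have h6 : (ξ b).re = m := by linarith
  have h7 : (ξ b).im = 0 := by
    have h8 := hm b
    have h9 : ‖ξ b‖ ^ 2 ≤ (m : ℝ) ^ 2 := by
      apply pow_le_pow_left₀ (norm_nonneg _) h8
    rw [← Complex.normSq_eq_norm_sq, Complex.normSq_apply, h6] at h9
    nlinarith [mul_self_nonneg (ξ b).im]
  rw [hm1]
  apply Complex.ext
  · rw [h6]; simp
  · rw [h7]; simp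

theorem charDegree_sq_mul_card_le {C : Type*} [Group C] [Fintype C] (ξ : IrrCharacter C)
    (D : Subgroup C)
    (h : ∀ d ∈ D, ∀ a : C, (ξ : C → ℂ) (a * d * a⁻¹ * d⁻¹) = (ξ : C → ℂ) 1) :
    charDegree (ξ : C → ℂ) ^ 2 * Nat.card D ≤ Nat.card C := by
  classical
  have hc0 : (Nat.card C : ℂ) ≠ 0 := by exact_mod_cast Nat.card_pos.ne'
  have h10 : (ξ : C → ℂ) 1 ≠ 0 := irr_apply_one_ne_zero ξ
  have h1 : ∀ d ∈ D, Complex.normSq ((ξ : C → ℂ) d) = (charDegree (ξ : C → ℂ) : ℝ) ^ 2 := by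
    intro d hd
    have h2 := sum_irr_conj_mul ξ d d⁻¹
    simp only [h d hd, Finset.sum_const, Finset.card_univ, nsmul_eq_mul,
      ← Nat.card_eq_fintype_card] at h2
    rw [isCharacter_inv (isCharacter_of_irr ξ.2), mul_assoc, Complex.mul_conj, mul_div_assoc] at h2
    have h3 := mul_left_cancel₀ hc0 h2
    rw [eq_div_iff h10, ← charDegree_cast_irr ξ] at h3
    have h4 : ((Complex.normSq ((ξ : C → ℂ) d) : ℝ) : ℂ) = (((charDegree (ξ : C → ℂ) : ℝ) ^ 2 : ℝ) : ℂ) := by
      rw [← h3]; push_cast; ring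
    exact_mod_cast h4
  have h2 : ∑ c : C, Complex.normSq ((ξ : C → ℂ) c) = (Nat.card C : ℝ) := by
    have h3 := classInner_irr_self ξ.2
    rw [classInner, inv_mul_eq_one₀ hc0] at h3
    have h4 : ((∑ c : C, Complex.normSq ((ξ : C → ℂ) c) : ℝ) : ℂ) = ((Nat.card C : ℝ) : ℂ) := by
      push_cast
      rw [h3]
      exact Finset.sum_congr rfl (fun c _ => (Complex.mul_conj _).symm)
    exact_mod_cast h4
  have h3 : ∑ c ∈ Finset.univ.filter (fun c : C => c ∈ D), Complex.normSq ((ξ : C → ℂ) c) ≤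
      ∑ c : C, Complex.normSq ((ξ : C → ℂ) c) :=
    Finset.sum_le_sum_of_subset_of_nonneg (Finset.filter_subset _ _)
      (fun c _ _ => Complex.normSq_nonneg _)
  rw [Finset.sum_congr rfl (fun c hc => h1 c (Finset.mem_filter.1 hc).2), Finset.sum_const, h2,
    nsmul_eq_mul] at h3
  have h4 : Nat.card D = (Finset.univ.filter (fun c : C => c ∈ D)).card := by
    rw [Nat.card_eq_fintype_card, Fintype.card_subtype]
  rw [h4]
  have h5 : ((charDegree (ξ : C → ℂ) ^ 2 * (Finset.univ.filter (fun c : C => c ∈ D)).card : ℕ) : ℝ)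
      ≤ ((Nat.card C : ℕ) : ℝ) := by
    push_cast; linarith
  exact_mod_cast h5

/-- Peterfalvi (6.2): the degree bound from a central section -/
theorem charDegree_central_section {G : Type*} [Group G] [Fintype G] (ψ : IrrCharacter G)
    (B C D : Subgroup G) (hDC : D ≤ C)
    (hcent : ∀ d ∈ D, ∀ c ∈ C, d * c * d⁻¹ * c⁻¹ ∈ B) (hker : ∀ b ∈ B, (ψ : G → ℂ) b = (ψ : G → ℂ) 1) :
    charDegree (ψ : G → ℂ) ^ 2 * Nat.card C * Nat.card D ≤ Nat.card G ^ 2 := by
  classical
  have hres := isCharacter_restrict (isCharacter_of_irr ψ.2) C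
  obtain ⟨ξ, hξ⟩ := exists_constituent hres (by
    intro h
    exact irr_apply_one_ne_zero ψ (congrFun h 1))
  have h1 : charDegree (ξ : C → ℂ) ^ 2 * Nat.card (D.subgroupOf C) ≤ Nat.card C := by
    apply charDegree_sq_mul_card_le
    intro d hd a
    apply apply_eq_one_of_constituent hres ξ.2 hξ
    apply hker
    have h2 := B.inv_mem (hcent d (Subgroup.mem_subgroupOf.1 hd) a a.2)
    have h3 : (((a * d * a⁻¹ * d⁻¹ : C) : C) : G) = ((d : G) * a * (d : G)⁻¹ * (a : G)⁻¹)⁻¹ := by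
      push_cast; group
    rw [h3]; exact h2
  rw [Nat.card_congr (Subgroup.subgroupOfEquivOfLe hDC).toEquiv] at h1
  have h2 : charDegree (ψ : G → ℂ) ≤ C.index * charDegree (ξ : C → ℂ) := by
    have h3 : classInner (indFun C (ξ : C → ℂ)) (ψ : G → ℂ) ≠ 0 := by
      rw [H2.frobenius_reciprocity C _ (isClassFunction_of_irr ψ.2)]
      intro h4
      apply hξ
      rw [← classInner_conj_symm, h4, map_zero]
    have h4 := charDegree_le_of_constituent (H2.isCharacter_indFun C (isCharacter_of_irr ξ.2)) ψ.2 h3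
    refine h4.trans (le_of_eq ?_)
    have h5 := charDegree_cast (H2.isCharacter_indFun C (isCharacter_of_irr ξ.2))
    rw [H2.indFun_apply_one, ← charDegree_cast_irr ξ] at h5
    exact_mod_cast h5
  calc charDegree (ψ : G → ℂ) ^ 2 * Nat.card C * Nat.card D
      ≤ (C.index * charDegree (ξ : C → ℂ)) ^ 2 * Nat.card C * Nat.card D := by gcongr
    _ = C.index ^ 2 * Nat.card C * (charDegree (ξ : C → ℂ) ^ 2 * Nat.card D) := by ring
    _ ≤ C.index ^ 2 * Nat.card C * Nat.card C := by gcongr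
    _ = (Nat.card C * C.index) ^ 2 := by ring
    _ = Nat.card G ^ 2 := by rw [Subgroup.card_mul_index]

end Cfsg.Agent.Lib.Helper10
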