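import Mathlib
import Cfsg.Prelude.Def_Characters
import Cfsg.Agent.Lib.Helper10.CliffCorr
import Cfsg.Agent.CharLib.L.AbelianIndex

set_option autoImplicit false

namespace Cfsg.Agent.Lib.Helper10

open Cfsg Cfsg.Agent.CharLib Cfsg.Agent.CharLib.H2 Cfsg.Agent.CharLib.L
open scoped ComplexConjugate

universe u

section

variable {T : Type u} [Group T] [Fintype T] (N : Subgroup T) (hN : N.Normal)

/-- values of the function induced from an invariant function -/
theorem indFun_invariant_coe (θ : N → ℂ) (hinv : ∀ t : T, H2.conjFun hN θ t = θ) (n : N) :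
    indFun N θ n = (Nat.card N : ℂ)⁻¹ * (Nat.card T : ℂ) * θ n := by
  rw [indFun_coe hN]
  simp only [hinv]
  rw [Finset.sum_const, Finset.card_univ, nsmul_eq_mul, ← Nat.card_eq_fintype_card, mul_assoc]

/-- Constituents of `θ^T`, `θ` invariant, restrict to multiples of `θ`. -/
theorem restrict_of_invariant [Fintype N] (θ : N → ℂ) (hθ : IsIrrCharacter N θ)
    (hinv : ∀ t : T, H2.conjFun hN θ t = θ) (ψ : T → ℂ) (hψ : IsIrrCharacter T ψ)
    (hc : classInner (indFun N θ) ψ ≠ 0) :
    (fun n : N => ψ n) = classInner (indFun N θ) ψ • θ := by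
  classical
  have hcl : IsClassFunction T ψ := isClassFunction_of_irr hψ
  have hclN : IsClassFunction N (fun n : N => ψ n) := by
    intro g h
    exact hcl g h
  obtain ⟨k, hk⟩ := classInner_char_nat (isCharacter_indFun N (isCharacter_of_irr hθ)) (isCharacter_of_irr hψ)
  have hk0 : k ≠ 0 := by
    rintro rfl
    exact hc (by rw [hk]; simp)
  have h1 : ∀ φ : IrrCharacter N, classInner (fun n : N => ψ n) φ =
      if (φ : N → ℂ) = θ then classInner (indFun N θ) ψ else 0 := by
    intro φ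
    rw [← classInner_conj_symm, ← frobenius_reciprocity N _ hcl]
    split_ifs with h
    · rw [h, hk]; simp
    · -- orthogonality of the induced characters
      have h2 : classInner (indFun N (φ : N → ℂ)) (indFun N θ) = 0 := by
        rw [classInner_indFun_indFun hN]
        apply mul_eq_zero_of_right
        apply Finset.sum_eq_zero
        intro x _
        rw [hinv]
        exact classInner_irr_ne φ.2 hθ h
      obtain ⟨c, hc1⟩ := isCharacter_iff.mp (isCharacter_indFun N (isCharacter_of_irr φ.2))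
      obtain ⟨m, hm⟩ := isCharacter_iff.mp (isCharacter_indFun N (isCharacter_of_irr hθ))
      rw [hc1, hm, classInner_sum_sum] at h2
      have h3 : ∑ χ : IrrCharacter T, c χ * m χ = 0 := by
        have : ((∑ χ : IrrCharacter T, c χ * m χ : ℕ) : ℂ) = 0 := by
          rw [← h2]
          push_cast
          refine Finset.sum_congr rfl fun χ _ => ?_
          simp
        exact_mod_cast this
      have h4 := (Finset.sum_eq_zero_iff.1 h3) ⟨ψ, hψ⟩ (Finset.mem_univ _)
      have h5 : (m ⟨ψ, hψ⟩ : ℂ) = k := by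
        rw [← hk, hm]
        exact (classInner_sum_smul_irr (fun χ => (m χ : ℂ)) ⟨ψ, hψ⟩).symm
      have h6 : m ⟨ψ, hψ⟩ = k := by exact_mod_cast h5
      have h7 : c ⟨ψ, hψ⟩ = 0 := by
        rcases Nat.mul_eq_zero.1 h4 with h | h
        · exact h
        · rw [h6] at h; exact absurd h hk0
      rw [hc1]
      have := classInner_sum_smul_irr (fun χ => (c χ : ℂ)) ⟨ψ, hψ⟩
      simp only at this
      rw [this, h7]
      simp
  conv_lhs => rw [classFunction_eq_sum hclN]
  simp only [h1]
  rw [Finset.sum_eq_single (⟨θ, hθ⟩ : IrrCharacter N)]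
  · simp
  · intro φ _ hne
    rw [if_neg (fun h => hne (Subtype.ext h)), zero_smul]
  · intro h
    exact absurd (Finset.mem_univ _) h

end

section lin

variable {Q : Type u} [Group Q] [Finite Q] (hQ : ∀ a b : Q, a * b = b * a)

include hQ in
theorem lin_mul_conj (μ : IrrCharacter Q) (q : Q) : (μ : Q → ℂ) q * conj ((μ : Q → ℂ) q) = 1 := by
  have h1 := irr_apply_one_of_comm hQ μ
  rw [← isCharacter_inv (isCharacter_of_irr μ.2), ← irr_mul_of_apply_one_eq_one μ h1, mul_inv_cancel, h1]

include hQ in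
theorem sum_lin (q : Q) [Decidable (q = 1)] :
    ∑ μ : IrrCharacter Q, (μ : Q → ℂ) q = if q = 1 then (Nat.card Q : ℂ) else 0 := by
  rw [← sum_irr_one_mul q]
  refine Finset.sum_congr rfl fun μ _ => ?_
  rw [irr_apply_one_of_comm hQ μ, one_mul]

end lin

section

variable {T : Type u} [Group T] [Fintype T] (N : Subgroup T) [hN : N.Normal]

/-- twist of a function by a function on the quotient -/
def twist (μ : T ⧸ N → ℂ) (ψ : T → ℂ) : T → ℂ := fun t => μ (t : T ⧸ N) * ψ t

theorem isIrrCharacter_twist (hQ : ∀ a b : T ⧸ N, a * b = b * a) (μ : IrrCharacter (T ⧸ N)) {ψ : T → ℂ}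
    (hψ : IsIrrCharacter T ψ) : IsIrrCharacter T (twist N μ ψ) := by
  apply isIrrCharacter_of_norm_one
  · exact isCharacter_mul (isCharacter_comp (isCharacter_of_irr μ.2) (QuotientGroup.mk' N))
      (isCharacter_of_irr hψ)
  · rw [← classInner_irr_self hψ, classInner, classInner]
    congr 1
    refine Finset.sum_congr rfl fun t _ => ?_
    simp only [twist, map_mul]
    have := lin_mul_conj hQ μ (t : T ⧸ N)
    calc (μ : T ⧸ N → ℂ) t * ψ t * (conj ((μ : T ⧸ N → ℂ) t) * conj (ψ t))
        = ((μ : T ⧸ N → ℂ) t * conj ((μ : T ⧸ N → ℂ) t)) * (ψ t * conj (ψ t)) := by ring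
      _ = ψ t * conj (ψ t) := by rw [this, one_mul]

theorem invariant_abelian_quotient (θ : N → ℂ) (hθ : IsIrrCharacter N θ)
    (hinv : ∀ t : T, H2.conjFun hN θ t = θ) (hab : ∀ x y : T, x * y * x⁻¹ * y⁻¹ ∈ N) :
    ∃ (e : ℕ) (C : Finset (IrrCharacter T)), 0 < e ∧ e ^ 2 * C.card * Nat.card N = Nat.card T ∧
      indFun N θ = (e : ℂ) • ∑ ψ ∈ C, (ψ : T → ℂ) ∧ (∀ ψ ∈ C, (ψ : T → ℂ) 1 = e * θ 1) ∧
      ∀ ψ ∈ C, classInner (indFun N θ) (ψ : T → ℂ) ≠ 0 := by
  classical
  haveI : Fintype N := Fintype.ofFinite N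
  have hQ : ∀ a b : T ⧸ N, a * b = b * a := by
    intro a b
    induction a using QuotientGroup.induction_on with
    | H x =>
      induction b using QuotientGroup.induction_on with
      | H y =>
        rw [← QuotientGroup.mk_mul, ← QuotientGroup.mk_mul, QuotientGroup.eq]
        have := hab y⁻¹ x⁻¹
        simpa [mul_assoc] using this
  set Θ := indFun N θ with hΘ
  have hΘc : IsCharacter T Θ := isCharacter_indFun _ (isCharacter_of_irr hθ)
  obtain ⟨m, hm⟩ := isCharacter_iff.mp hΘc
  have hmc : ∀ χ : IrrCharacter T, classInner Θ χ = m χ := by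
    intro χ
    rw [hm]
    exact classInner_sum_smul_irr (fun χ => (m χ : ℂ)) χ
  have hN0 : (Nat.card N : ℂ) ≠ 0 := card_subgroup_ne_zero N
  have hcardQ : (Nat.card (T ⧸ N) : ℂ) = (Nat.card N : ℂ)⁻¹ * (Nat.card T : ℂ) := by
    rw [Subgroup.card_eq_card_quotient_mul_card_subgroup N]
    push_cast
    field_simp
  -- the key identity
  have hkey : ∀ ψ : IrrCharacter T, m ψ ≠ 0 →
      (m ψ : ℂ) • Θ = ∑ μ : IrrCharacter (T ⧸ N), twist N μ ψ := by
    intro ψ hψ0
    have hres := restrict_of_invariant N hN θ hθ hinv ψ ψ.2 (by rw [← hΘ, hmc]; exact_mod_cast hψ0)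
    rw [← hΘ, hmc] at hres
    funext t
    rw [Finset.sum_apply]
    simp only [twist, Pi.smul_apply, smul_eq_mul]
    rw [← Finset.sum_mul, sum_lin hQ]
    by_cases ht : t ∈ N
    · rw [if_pos ((QuotientGroup.eq_one_iff t).2 ht)]
      have h1 := indFun_invariant_coe N hN θ hinv ⟨t, ht⟩
      have h2 := congrFun hres ⟨t, ht⟩
      simp only [Pi.smul_apply, smul_eq_mul] at h1 h2
      rw [hΘ, h1, h2, hcardQ]
      ring
    · rw [if_neg (fun h => ht ((QuotientGroup.eq_one_iff t).1 h)), hΘ, indFun_of_not_mem hN θ ht]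
      simp
  -- twisting does not change the multiplicity
  have htw : ∀ (μ : IrrCharacter (T ⧸ N)) (ψ : T → ℂ), classInner Θ (twist N μ ψ) = classInner Θ ψ := by
    intro μ ψ
    rw [classInner, classInner]
    congr 1
    refine Finset.sum_congr rfl fun t _ => ?_
    by_cases ht : t ∈ N
    · simp only [twist]
      rw [(QuotientGroup.eq_one_iff t).2 ht, irr_apply_one_of_comm hQ μ, one_mul]
    · rw [hΘ, indFun_of_not_mem hN θ ht]
      simp
  have hconst : ∀ ψ ψ' : IrrCharacter T, m ψ ≠ 0 → m ψ' ≠ 0 → m ψ' = m ψ := by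
    intro ψ ψ' h1 h2
    have h3 : (m ψ : ℂ) * m ψ' = ∑ μ : IrrCharacter (T ⧸ N), classInner (twist N μ ψ) ψ' := by
      rw [← classInner_sum_left, ← hkey ψ h1, classInner_smul_left, hmc]
    have h4 : ∃ μ : IrrCharacter (T ⧸ N), classInner (twist N μ ψ) ψ' ≠ 0 := by
      by_contra hno
      push Not at hno
      rw [Finset.sum_eq_zero (fun μ _ => hno μ)] at h3
      have : (m ψ : ℂ) ≠ 0 := by exact_mod_cast h1
      have h5 : (m ψ' : ℂ) ≠ 0 := by exact_mod_cast h2
      exact (mul_ne_zero this h5) h3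
    obtain ⟨μ, hμ⟩ := h4
    have h5 : twist N μ ψ = ψ' := by
      by_contra hne
      exact hμ (classInner_irr_ne (isIrrCharacter_twist N hQ μ ψ.2) ψ'.2 hne)
    have h6 : (m ψ' : ℂ) = m ψ := by
      rw [← hmc, ← hmc, ← h5, htw]
    exact_mod_cast h6
  -- norm
  have hnorm : (Nat.card N : ℂ) * classInner Θ Θ = (Nat.card T : ℂ) := by
    rw [card_mul_norm_indFun hN hθ]
    congr 1
    apply Nat.card_congr
    exact Equiv.subtypeUnivEquiv hinv
  have hnorm2 : classInner Θ Θ = ((∑ χ : IrrCharacter T, m χ * m χ : ℕ) : ℂ) := by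
    conv_lhs => rw [hm]
    rw [classInner_sum_sum]
    push_cast
    refine Finset.sum_congr rfl fun χ _ => ?_
    simp
  have hex : ∃ ψ₀ : IrrCharacter T, m ψ₀ ≠ 0 := by
    by_contra hno
    push Not at hno
    rw [hnorm2] at hnorm
    simp only [hno] at hnorm
    have hT0 : (Nat.card T : ℂ) ≠ 0 := card_ne_zero_complex
    apply hT0
    rw [← hnorm]
    simp
  obtain ⟨ψ₀, hψ₀⟩ := hex
  refine ⟨m ψ₀, Finset.univ.filter (fun χ => m χ ≠ 0), Nat.pos_of_ne_zero hψ₀, ?_, ?_, ?_, ?_⟩
  · have h1 : ∑ χ : IrrCharacter T, m χ * m χ =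
        m ψ₀ ^ 2 * (Finset.univ.filter (fun χ : IrrCharacter T => m χ ≠ 0)).card := by
      rw [← Finset.sum_filter_add_sum_filter_not Finset.univ (fun χ : IrrCharacter T => m χ ≠ 0)]
      rw [Finset.sum_congr rfl (g := fun _ => m ψ₀ ^ 2)
        (fun χ hχ => by rw [hconst ψ₀ χ hψ₀ (Finset.mem_filter.1 hχ).2, sq])]
      rw [Finset.sum_eq_zero (s := Finset.univ.filter (fun χ : IrrCharacter T => ¬ m χ ≠ 0))
        (fun χ hχ => by
          have := (Finset.mem_filter.1 hχ).2
          push Not at this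
          rw [this, mul_zero])]
      rw [Finset.sum_const, smul_eq_mul, add_zero, mul_comm]
    rw [hnorm2, h1] at hnorm
    have : Nat.card N * (m ψ₀ ^ 2 * (Finset.univ.filter (fun χ : IrrCharacter T => m χ ≠ 0)).card) =
        Nat.card T := by exact_mod_cast hnorm
    rw [← this]; ring
  · conv_lhs => rw [hm]
    rw [← Finset.sum_filter_add_sum_filter_not Finset.univ (fun χ : IrrCharacter T => m χ ≠ 0)]
    rw [Finset.sum_eq_zero (s := Finset.univ.filter (fun χ : IrrCharacter T => ¬ m χ ≠ 0))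
        (fun χ hχ => by
          have := (Finset.mem_filter.1 hχ).2
          push Not at this
          rw [this]; simp)]
    rw [add_zero, Finset.smul_sum]
    refine Finset.sum_congr rfl fun χ hχ => ?_
    rw [hconst ψ₀ χ hψ₀ (Finset.mem_filter.1 hχ).2]
  · intro ψ hψ
    have hψ0 := (Finset.mem_filter.1 hψ).2
    have hres := restrict_of_invariant N hN θ hθ hinv ψ ψ.2 (by rw [← hΘ, hmc]; exact_mod_cast hψ0)
    rw [← hΘ, hmc] at hres
    have := congrFun hres 1
    simp only [Pi.smul_apply, smul_eq_mul, OneMemClass.coe_one] at this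
    rw [this, hconst ψ₀ ψ hψ₀ hψ0]
  · intro ψ hψ
    rw [hmc]
    exact_mod_cast (Finset.mem_filter.1 hψ).2

end

end Cfsg.Agent.Lib.Helper10
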