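import Mathlib
import Cfsg.Prelude.Def_Characters
import Cfsg.Agent.S0174
import Cfsg.Agent.CharLib.CliffordInd
import Cfsg.Agent.Lib.Helper10.Cliff

/-! Clifford: the irreducible constituents of `χ_N` are conjugate; size of the orbit. -/

set_option autoImplicit false

namespace Cfsg.Agent.Lib.Helper10

open Cfsg Cfsg.Agent.CharLib Cfsg.Agent.CharLib.H2
open scoped ComplexConjugate

variable {G : Type*} [Group G] [Fintype G]

theorem clifford_conj (N : Subgroup G) (hN : N.Normal) [Fintype N] {χ : G → ℂ}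
    (hχ : IsIrrCharacter G χ) {ϑ ϑ₂ : N → ℂ}
    (hϑ : IsIrrCharacter N ϑ) (hϑ₂ : IsIrrCharacter N ϑ₂)
    (hcon : classInner (fun n : N => χ n) ϑ ≠ 0)
    (hcon₂ : classInner (fun n : N => χ n) ϑ₂ ≠ 0) :
    ∃ g : G, ϑ₂ = H2.conjFun hN ϑ g := by
  classical
  have key := Cfsg.Agent.S0174.result N hN χ hχ ϑ hϑ hcon
  by_contra hne
  push Not at hne
  apply hcon₂
  rw [key, classInner_smul_left]
  have hfin : Set.Finite {ψ : N → ℂ | ∃ g : G, ψ = fun n : N =>
      ϑ ⟨g * n * g⁻¹, hN.conj_mem n n.2 g⟩} := by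
    refine (Set.finite_range (fun g : G => fun n : N =>
      ϑ ⟨g * n * g⁻¹, hN.conj_mem n n.2 g⟩)).subset ?_
    rintro _ ⟨g, rfl⟩
    exact ⟨g, rfl⟩
  rw [finsum_mem_eq_finite_toFinset_sum _ hfin, classInner_sum_left]
  apply mul_eq_zero_of_right
  apply Finset.sum_eq_zero
  intro η hη
  rw [Set.Finite.mem_toFinset] at hη
  obtain ⟨g, rfl⟩ := hη
  apply classInner_irr_ne (isIrrCharacter_conjFun hN hϑ g) hϑ₂
  intro h
  exact hne g h.symm

open Classical in
theorem card_orbit_conjFun {N : Subgroup G} (hN : N.Normal) (θ : N → ℂ) :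
    (Finset.univ.image (fun g : G => H2.conjFun hN θ g)).card = (inertia hN θ).index := by
  have h1 : (Finset.univ : Finset G).card =
      ∑ ψ ∈ Finset.univ.image (fun g : G => H2.conjFun hN θ g),
        (Finset.univ.filter (fun x : G => H2.conjFun hN θ x = ψ)).card :=
    Finset.card_eq_sum_card_image _ Finset.univ
  have h2 : ∀ ψ ∈ Finset.univ.image (fun g : G => H2.conjFun hN θ g),
      (Finset.univ.filter (fun x : G => H2.conjFun hN θ x = ψ)).card =
        Nat.card (inertia hN θ) := by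
    intro ψ hψ
    obtain ⟨g, -, rfl⟩ := Finset.mem_image.1 hψ
    exact card_fiber_conjFun hN θ g
  rw [Finset.sum_congr rfl h2, Finset.sum_const, smul_eq_mul, Finset.card_univ,
    ← Nat.card_eq_fintype_card, ← Subgroup.index_mul_card (inertia hN θ)] at h1
  exact (Nat.eq_of_mul_eq_mul_right Nat.card_pos h1).symm

end Cfsg.Agent.Lib.Helper10
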