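import Mathlib

/-!
Splitting a scalar 2-cocycle whose order is prime to the order of the group.
-/

set_option autoImplicit false

namespace Cfsg.Agent.Lib.Helper10

theorem exists_unit_root (u : ℂˣ) {n : ℕ} (hn : 0 < n) : ∃ r : ℂˣ, r ^ n = u := by
  obtain ⟨z, hz⟩ := IsAlgClosed.exists_pow_nat_eq (u : ℂ) hn
  have hz0 : z ≠ 0 := by
    rintro rfl
    rw [zero_pow hn.ne'] at hz
    exact u.ne_zero hz.symm
  exact ⟨Units.mk0 z hz0, Units.ext (by simpa using hz)⟩

theorem cocycle_split_aux {A Γ : Type*} [Group A] [Fintype A] [Group Γ] (s : ℂˣ →* Γ)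
    (hs : Function.Injective s) (hc : ∀ c γ, s c * γ = γ * s c) (d : Γ →* ℂˣ) (n : ℕ)
    (hd : ∀ c, d (s c) = c ^ n) (hcop : Nat.Coprime n (Fintype.card A)) (P : A → Γ) (α : A → A → ℂˣ)
    (hP : ∀ a b, P a * P b = s (α a b) * P (a * b)) (hdet : ∀ a, d (P a) = 1) :
    ∃ c : A → ℂˣ, ∀ a b, (s (c a) * P a) * (s (c b) * P b) = s (c (a * b)) * P (a * b) := by
  have hαn : ∀ a b, α a b ^ n = 1 := by
    intro a b
    have := congrArg d (hP a b)
    rw [map_mul, map_mul, hdet, hdet, hdet, hd] at this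
    simpa using this.symm
  have hcoc : ∀ a b c, α a b * α (a * b) c = α b c * α a (b * c) := by
    intro a b c
    apply hs
    have h1 : (P a * P b) * P c = s (α a b * α (a * b) c) * P (a * b * c) := by
      rw [hP a b, mul_assoc, hP (a * b) c, ← mul_assoc, ← map_mul]
    have h2 : P a * (P b * P c) = s (α b c * α a (b * c)) * P (a * b * c) := by
      rw [hP b c, ← mul_assoc, ← hc, mul_assoc, hP a (b * c), ← mul_assoc, ← map_mul, mul_assoc a b c]
    rw [mul_assoc, h2] at h1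
    exact (mul_right_cancel h1).symm
  set β : A → ℂˣ := fun a => ∏ c, α a c with hβdef
  have hβ : ∀ a b, α a b ^ (Fintype.card A) * β (a * b) = β b * β a := by
    intro a b
    have h1 : ∏ c, (α a b * α (a * b) c) = ∏ c, (α b c * α a (b * c)) :=
      Finset.prod_congr rfl fun c _ => hcoc a b c
    rw [Finset.prod_mul_distrib, Finset.prod_mul_distrib, Finset.prod_const, Finset.card_univ] at h1
    have h2 : ∏ c, α a (b * c) = β a := Fintype.prod_equiv (Equiv.mulLeft b) _ _ fun c => rfl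
    rw [h2] at h1
    exact h1
  -- Bezout
  have hbez : (n : ℤ) * Int.gcdA n (Fintype.card A) + (Fintype.card A : ℤ) * Int.gcdB n (Fintype.card A) = 1 := by
    have := Int.gcd_eq_gcd_ab n (Fintype.card A)
    rw [Int.gcd_natCast_natCast, hcop] at this
    simpa using this.symm
  set v : ℤ := Int.gcdB n (Fintype.card A) with hv
  have hαv : ∀ a b, (α a b ^ (Fintype.card A)) ^ v = α a b := by
    intro a b
    have h1 : α a b ^ ((n : ℤ) * Int.gcdA n (Fintype.card A) + (Fintype.card A : ℤ) * v) = α a b := by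
      rw [hbez, zpow_one]
    rw [zpow_add, zpow_mul, zpow_mul, zpow_natCast, zpow_natCast, hαn, one_zpow, one_mul] at h1
    exact h1
  refine ⟨fun a => (β a ^ v)⁻¹, ?_⟩
  intro a b
  have h1 : α a b * β (a * b) ^ v = β b ^ v * β a ^ v := by
    have := congrArg (· ^ v) (hβ a b)
    simp only [mul_zpow] at this
    rw [hαv] at this
    exact this
  have h2 : (β a ^ v)⁻¹ * (β b ^ v)⁻¹ * α a b = (β (a * b) ^ v)⁻¹ := by
    rw [eq_mul_inv_of_mul_eq h1]
    calc (β a ^ v)⁻¹ * (β b ^ v)⁻¹ * (β b ^ v * β a ^ v * (β (a * b) ^ v)⁻¹)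
        = ((β a ^ v)⁻¹ * β a ^ v) * ((β b ^ v)⁻¹ * β b ^ v) * (β (a * b) ^ v)⁻¹ := by ac_rfl
      _ = (β (a * b) ^ v)⁻¹ := by simp
  calc s (β a ^ v)⁻¹ * P a * (s (β b ^ v)⁻¹ * P b)
      = s (β a ^ v)⁻¹ * (P a * s (β b ^ v)⁻¹) * P b := by simp only [mul_assoc]
    _ = s (β a ^ v)⁻¹ * (s (β b ^ v)⁻¹ * P a) * P b := by rw [← hc _ (P a)]
    _ = s (β a ^ v)⁻¹ * s (β b ^ v)⁻¹ * (P a * P b) := by simp only [mul_assoc]
    _ = s ((β a ^ v)⁻¹ * (β b ^ v)⁻¹ * α a b) * P (a * b) := by
      rw [hP, ← mul_assoc, ← map_mul, ← map_mul]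
    _ = s (β (a * b) ^ v)⁻¹ * P (a * b) := by rw [h2]

/-- A projective representation with scalar factor set, of degree prime to the order of the group, can be
rescaled to an honest homomorphism. -/
theorem cocycle_split {A Γ : Type*} [Group A] [Fintype A] [Group Γ] (s : ℂˣ →* Γ)
    (hs : Function.Injective s) (hc : ∀ c γ, s c * γ = γ * s c) (d : Γ →* ℂˣ) (n : ℕ) (hn : 0 < n)
    (hd : ∀ c, d (s c) = c ^ n) (hcop : Nat.Coprime n (Fintype.card A)) (P : A → Γ) (α : A → A → ℂˣ)
    (hP : ∀ a b, P a * P b = s (α a b) * P (a * b)) :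
    ∃ c : A → ℂˣ, ∀ a b, (s (c a) * P a) * (s (c b) * P b) = s (c (a * b)) * P (a * b) := by
  have hr : ∀ a, ∃ r : ℂˣ, r ^ n = (d (P a))⁻¹ := fun a => exists_unit_root _ hn
  choose r hr using hr
  obtain ⟨c, hc'⟩ := cocycle_split_aux s hs hc d n hd hcop (fun a => s (r a) * P a)
    (fun a b => r a * r b * (r (a * b))⁻¹ * α a b) (by
      intro a b
      calc s (r a) * P a * (s (r b) * P b) = s (r a) * (P a * s (r b)) * P b := by simp only [mul_assoc]
        _ = s (r a) * (s (r b) * P a) * P b := by rw [← hc _ (P a)]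
        _ = s (r a) * s (r b) * (P a * P b) := by simp only [mul_assoc]
        _ = s (r a * r b * α a b) * P (a * b) := by rw [hP, ← mul_assoc, ← map_mul, ← map_mul]
        _ = s (r a * r b * (r (a * b))⁻¹ * α a b * r (a * b)) * P (a * b) := by
          congr 2
          calc r a * r b * α a b = r a * r b * α a b * ((r (a * b))⁻¹ * r (a * b)) := by simp
            _ = r a * r b * (r (a * b))⁻¹ * α a b * r (a * b) := by ac_rfl
        _ = s (r a * r b * (r (a * b))⁻¹ * α a b) * (s (r (a * b)) * P (a * b)) := by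
          rw [map_mul (f := s) (r a * r b * (r (a * b))⁻¹ * α a b), mul_assoc]) (by
      intro a
      rw [map_mul, hd, hr, inv_mul_cancel])
  refine ⟨fun a => c a * r a, ?_⟩
  intro a b
  have := hc' a b
  simp only [← mul_assoc, ← map_mul] at this ⊢
  exact this

end Cfsg.Agent.Lib.Helper10
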