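import Mathlib
import Cfsg.Agent.Lib.Helper10.Virtual2

/-!
Linear extension of maps defined on a finite orthogonal set of class functions, and a criterion for agreement
with a given isometry on the elements vanishing at `1`.
-/

set_option autoImplicit false

universe u v

namespace Cfsg.Agent.Lib.Helper10

open Cfsg Cfsg.Agent.CharLib
open scoped ComplexConjugate

variable {L : Type u} [Group L] [Fintype L] {G : Type v} [Group G] [Fintype G]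

theorem lio_mono {E E' : Set (L → ℂ)} {τ : (L → ℂ) → (G → ℂ)} (h : IsLinearIsometryOn E τ) (hE : E' ⊆ E) :
    IsLinearIsometryOn E' τ :=
  ⟨fun a ha b hb => h.1 a (hE ha) b (hE hb), fun a ha n => h.2.1 a (hE ha) n,
    fun a ha b hb => h.2.2.1 a (hE ha) b (hE hb), fun a ha => h.2.2.2 a (hE ha)⟩

theorem lio_sum {E : Set (L → ℂ)} {τ : (L → ℂ) → (G → ℂ)} (h : IsLinearIsometryOn E τ) (h0 : (0 : L → ℂ) ∈ E)
    (hadd : ∀ a ∈ E, ∀ b ∈ E, a + b ∈ E) {ι : Type*} (s : Finset ι) (x : ι → L → ℂ) (hx : ∀ i ∈ s, x i ∈ E) :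
    (∑ i ∈ s, x i) ∈ E ∧ τ (∑ i ∈ s, x i) = ∑ i ∈ s, τ (x i) := by
  classical
  induction s using Finset.induction_on with
  | empty =>
    refine ⟨by simpa using h0, ?_⟩
    have := lio_zsmul h h0 0
    simpa using this
  | insert a s ha ih =>
    obtain ⟨h1, h2⟩ := ih fun i hi => hx i (Finset.mem_insert_of_mem hi)
    have h3 := hx a (Finset.mem_insert_self _ _)
    rw [Finset.sum_insert ha, Finset.sum_insert ha]
    exact ⟨hadd _ h3 _ h1, by rw [lio_add h h3 h1, h2]⟩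

/-- a finite set of pairwise orthogonal nonzero functions -/
structure IsOrthoSet (T : Finset (L → ℂ)) : Prop where
  orth : ∀ ξ ∈ T, ∀ ξ' ∈ T, ξ ≠ ξ' → classInner ξ ξ' = 0
  nz : ∀ ξ ∈ T, classInner ξ ξ ≠ 0

omit [Group L] [Fintype L] in
theorem exists_coeff {T : Finset (L → ℂ)} {θ : L → ℂ} (hθ : θ ∈ zspan (↑T : Set (L → ℂ))) :
    ∃ m : (L → ℂ) → ℤ, θ = ∑ ξ ∈ T, (m ξ : ℂ) • ξ := by
  classical
  induction hθ using Submodule.span_induction with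
  | mem ξ₀ h =>
    refine ⟨fun ξ => if ξ = ξ₀ then 1 else 0, ?_⟩
    rw [Finset.sum_eq_single ξ₀]
    · simp
    · intro b _ hb; simp [hb]
    · intro h'; exact absurd h h'
  | zero => exact ⟨fun _ => 0, by simp⟩
  | add a b _ _ ha hb =>
    obtain ⟨m, rfl⟩ := ha
    obtain ⟨m', rfl⟩ := hb
    refine ⟨fun ξ => m ξ + m' ξ, ?_⟩
    rw [← Finset.sum_add_distrib]
    refine Finset.sum_congr rfl fun ξ _ => ?_
    push_cast; rw [add_smul]
  | smul n a _ ha =>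
    obtain ⟨m, rfl⟩ := ha
    refine ⟨fun ξ => n * m ξ, ?_⟩
    rw [Finset.smul_sum]
    refine Finset.sum_congr rfl fun ξ _ => ?_
    push_cast
    ext x
    simp [mul_assoc]

theorem coord_sum {T : Finset (L → ℂ)} (hT : IsOrthoSet T) (m : (L → ℂ) → ℂ) {ξ₀ : L → ℂ} (h : ξ₀ ∈ T) :
    classInner (∑ ξ ∈ T, m ξ • ξ) ξ₀ = m ξ₀ * classInner ξ₀ ξ₀ := by
  rw [classInner_sum_left, Finset.sum_eq_single ξ₀]
  · rw [classInner_smul_left]
  · intro b hb hne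
    rw [classInner_smul_left, hT.orth b hb ξ₀ h hne, mul_zero]
  · intro h'; exact absurd h h'

/-- the linear extension of `f` from the orthogonal set `T` -/
noncomputable def extMap (T : Finset (L → ℂ)) (f : (L → ℂ) → (G → ℂ)) (θ : L → ℂ) : G → ℂ :=
  ∑ ξ ∈ T, (classInner θ ξ / classInner ξ ξ) • f ξ

omit [Group G] [Fintype G] in
theorem extMap_sum {T : Finset (L → ℂ)} (hT : IsOrthoSet T) (f : (L → ℂ) → (G → ℂ)) (m : (L → ℂ) → ℂ) :
    extMap T f (∑ ξ ∈ T, m ξ • ξ) = ∑ ξ ∈ T, m ξ • f ξ := by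
  unfold extMap
  refine Finset.sum_congr rfl fun ξ hξ => ?_
  rw [coord_sum hT m hξ, mul_div_assoc, div_self (hT.nz ξ hξ), mul_one]

omit [Group G] [Fintype G] in
theorem extMap_mem {T : Finset (L → ℂ)} (hT : IsOrthoSet T) (f : (L → ℂ) → (G → ℂ)) {ξ : L → ℂ} (h : ξ ∈ T) :
    extMap T f ξ = f ξ := by
  unfold extMap
  rw [Finset.sum_eq_single ξ]
  · rw [div_self (hT.nz ξ h), one_smul]
  · intro b hb hne
    rw [hT.orth ξ h b hb hne.symm, zero_div, zero_smul]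
  · intro h'; exact absurd h h'

theorem extMap_lio {T : Finset (L → ℂ)} (hT : IsOrthoSet T) (f : (L → ℂ) → (G → ℂ))
    (hG : ∀ ξ ∈ T, ∀ ξ' ∈ T, classInner (f ξ) (f ξ') = classInner ξ ξ')
    (hv : ∀ ξ ∈ T, IsGeneralizedCharacter G (f ξ)) :
    IsLinearIsometryOn (zspan (↑T : Set (L → ℂ))) (extMap T f) := by
  refine ⟨?_, ?_, ?_, ?_⟩
  · intro a _ b _
    unfold extMap
    rw [← Finset.sum_add_distrib]
    refine Finset.sum_congr rfl fun ξ _ => ?_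
    rw [classInner_add_left, add_div, add_smul]
  · intro a _ n
    unfold extMap
    rw [Finset.smul_sum]
    refine Finset.sum_congr rfl fun ξ _ => ?_
    rw [classInner_zsmul_left, mul_div_assoc]
    ext x
    simp [mul_assoc]
  · intro a ha b hb
    obtain ⟨m, rfl⟩ := exists_coeff ha
    obtain ⟨m', rfl⟩ := exists_coeff hb
    rw [extMap_sum hT f (fun ξ => (m ξ : ℂ)), extMap_sum hT f (fun ξ => (m' ξ : ℂ))]
    rw [classInner_sum_left, classInner_sum_left]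
    refine Finset.sum_congr rfl fun ξ hξ => ?_
    rw [classInner_sum_right, classInner_sum_right]
    refine Finset.sum_congr rfl fun ξ' hξ' => ?_
    rw [classInner_smul_left, classInner_smul_right, classInner_smul_left, classInner_smul_right, hG ξ hξ ξ' hξ']
  · intro a ha
    obtain ⟨m, rfl⟩ := exists_coeff ha
    rw [extMap_sum hT f (fun ξ => (m ξ : ℂ))]
    apply isGeneralizedCharacter_sum
    intro ξ hξ
    exact isGeneralizedCharacter_intCast_smul (hv ξ hξ) _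

/-- Agreement criterion: it is enough to compare on the differences with a base point. -/
theorem agree_of_base {T : Finset (L → ℂ)} {τ τ₂ : (L → ℂ) → (G → ℂ)}
    (hτ : IsLinearIsometryOn (zspanOn (↑T : Set (L → ℂ)) {1}ᶜ) τ)
    (hτ₂ : IsLinearIsometryOn (zspan (↑T : Set (L → ℂ))) τ₂) (d : (L → ℂ) → ℤ) (hd : ∀ ξ ∈ T, ξ 1 = d ξ)
    {χ₁ : L → ℂ} (hχ₁ : χ₁ ∈ T) (hd₁ : d χ₁ ≠ 0)
    (hbase : ∀ ξ ∈ T, τ₂ (d χ₁ • ξ + (-(d ξ)) • χ₁) = τ (d χ₁ • ξ + (-(d ξ)) • χ₁)) :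
    ∀ θ ∈ zspanOn (↑T : Set (L → ℂ)) {1}ᶜ, τ₂ θ = τ θ := by
  intro θ hθ
  have hθ' := mem_zspanOn_one_iff.1 hθ
  obtain ⟨m, hm⟩ := exists_coeff hθ'.1
  have hsum0 : ∑ ξ ∈ T, (m ξ : ℂ) * d ξ = 0 := by
    have := hθ'.2
    rw [hm] at this
    simp only [Finset.sum_apply, Pi.smul_apply, smul_eq_mul] at this
    rw [← this]
    exact Finset.sum_congr rfl fun ξ hξ => by rw [hd ξ hξ]
  have hpiece : ∀ ξ ∈ T, (d χ₁ • ξ + (-(d ξ)) • χ₁) ∈ zspanOn (↑T : Set (L → ℂ)) {1}ᶜ := by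
    intro ξ hξ
    rw [mem_zspanOn_one_iff]
    refine ⟨zspan_add (zspan_zsmul (mem_zspan_of_mem hξ) _) (zspan_zsmul (mem_zspan_of_mem hχ₁) _), ?_⟩
    simp [hd ξ hξ, hd χ₁ hχ₁]; ring
  have hdecomp : d χ₁ • θ = ∑ ξ ∈ T, m ξ • (d χ₁ • ξ + (-(d ξ)) • χ₁) := by
    ext x
    rw [hm]
    simp only [Finset.sum_apply, Pi.smul_apply, Pi.add_apply]
    simp only [zsmul_eq_mul, smul_eq_mul, Int.cast_neg]
    rw [Finset.mul_sum]
    have : ∑ ξ ∈ T, (m ξ : ℂ) * ((d χ₁ : ℂ) * ξ x + -(d ξ : ℂ) * χ₁ x) =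
        ∑ ξ ∈ T, (d χ₁ : ℂ) * ((m ξ : ℂ) * ξ x) - (∑ ξ ∈ T, (m ξ : ℂ) * d ξ) * χ₁ x := by
      rw [Finset.sum_mul, ← Finset.sum_sub_distrib]
      exact Finset.sum_congr rfl fun ξ _ => by ring
    rw [this, hsum0, zero_mul, sub_zero]
  have h0 : (0 : L → ℂ) ∈ zspanOn (↑T : Set (L → ℂ)) {1}ᶜ := ⟨zspan_zero, fun _ _ => rfl⟩
  have e1 := (lio_sum hτ h0 (fun a ha b hb => zspanOn_add ha hb) T
    (fun ξ => m ξ • (d χ₁ • ξ + (-(d ξ)) • χ₁)) (fun ξ hξ => zspanOn_zsmul (hpiece ξ hξ) _)).2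
  have e2 := (lio_sum hτ₂ zspan_zero (fun a ha b hb => zspan_add ha hb) T
    (fun ξ => m ξ • (d χ₁ • ξ + (-(d ξ)) • χ₁)) (fun ξ hξ => zspan_zsmul (hpiece ξ hξ).1 _)).2
  have e3 : τ₂ (d χ₁ • θ) = τ (d χ₁ • θ) := by
    rw [hdecomp, e1, e2]
    refine Finset.sum_congr rfl fun ξ hξ => ?_
    rw [lio_zsmul hτ (hpiece ξ hξ), lio_zsmul hτ₂ (hpiece ξ hξ).1, hbase ξ hξ]
  rw [lio_zsmul hτ hθ, lio_zsmul hτ₂ hθ'.1] at e3
  ext x
  have e4 := congrFun e3 x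
  simp only [Pi.smul_apply, zsmul_eq_mul] at e4
  have hd₁' : (d χ₁ : ℂ) ≠ 0 := by exact_mod_cast hd₁
  exact mul_left_cancel₀ hd₁' e4

/-- Extending an isometry by one more orthogonal vector. -/
theorem extend_one {T : Finset (L → ℂ)} [DecidableEq (L → ℂ)] {τ₁ : (L → ℂ) → (G → ℂ)}
    (hτ₁ : IsLinearIsometryOn (zspan (↑T : Set (L → ℂ))) τ₁) {χ : L → ℂ} (hχT : χ ∉ T)
    (hT' : IsOrthoSet (insert χ T)) {X : G → ℂ} (hX : IsGeneralizedCharacter G X)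
    (hXn : classInner X X = classInner χ χ) (hXo : ∀ ξ ∈ T, classInner X (τ₁ ξ) = 0) :
    ∃ τ₂ : (L → ℂ) → (G → ℂ), IsLinearIsometryOn (zspan (↑(insert χ T) : Set (L → ℂ))) τ₂ ∧ τ₂ χ = X ∧
      ∀ ξ ∈ T, τ₂ ξ = τ₁ ξ := by
  set f : (L → ℂ) → (G → ℂ) := fun ξ => if ξ = χ then X else τ₁ ξ with hf
  have hfχ : f χ = X := by simp [hf]
  have hfT : ∀ ξ ∈ T, f ξ = τ₁ ξ := by
    intro ξ hξ
    have : ξ ≠ χ := by rintro rfl; exact hχT hξ
    simp [hf, this]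
  refine ⟨extMap (insert χ T) f, extMap_lio hT' f ?_ ?_, ?_, ?_⟩
  · intro ξ hξ ξ' hξ'
    rcases Finset.mem_insert.1 hξ with rfl | h1 <;> rcases Finset.mem_insert.1 hξ' with rfl | h2
    · rw [hfχ, hXn]
    · rw [hfχ, hfT ξ' h2, hXo ξ' h2, hT'.orth _ hξ _ hξ' (by rintro rfl; exact hχT h2)]
    · rw [hfχ, hfT ξ h1, classInner_eq_zero_symm (hXo ξ h1), hT'.orth _ hξ _ hξ' (by rintro rfl; exact hχT h1)]
    · rw [hfT ξ h1, hfT ξ' h2, lio_inner hτ₁ (mem_zspan_of_mem h1) (mem_zspan_of_mem h2)]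
  · intro ξ hξ
    rcases Finset.mem_insert.1 hξ with rfl | h1
    · rw [hfχ]; exact hX
    · rw [hfT ξ h1]; exact lio_virtual hτ₁ (mem_zspan_of_mem h1)
  · rw [extMap_mem hT' f (Finset.mem_insert_self _ _), hfχ]
  · intro ξ hξ
    rw [extMap_mem hT' f (Finset.mem_insert_of_mem hξ), hfT ξ hξ]

end Cfsg.Agent.Lib.Helper10
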