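import Mathlib
import Cfsg.Agent.Lib.Helper10.Coh2

/-!
Coherence systems (Peterfalvi, section 5): basic consequences.
-/

set_option autoImplicit false

universe u v

namespace Cfsg.Agent.Lib.Helper10

open Cfsg Cfsg.Agent.CharLib
open scoped ComplexConjugate

section general

variable {X : Type u} [Group X] [Fintype X]

theorem classInner_self_re_nonneg (w : X → ℂ) : 0 ≤ (classInner w w).re := by
  rw [classInner_def]
  have h1 : ∑ g : X, w g * conj (w g) = ((∑ g : X, Complex.normSq (w g) : ℝ) : ℂ) := by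
    push_cast
    exact Finset.sum_congr rfl fun g _ => Complex.mul_conj _
  rw [h1]
  have h2 : ((Nat.card X : ℂ))⁻¹ = (((Nat.card X : ℝ))⁻¹ : ℝ) := by push_cast; rfl
  rw [h2, ← Complex.ofReal_mul, Complex.ofReal_re]
  apply mul_nonneg (by positivity)
  exact Finset.sum_nonneg fun g _ => Complex.normSq_nonneg _

theorem classInner_conjFun_conjFun' (a b : X → ℂ) :
    classInner (Cfsg.conjFun a) (Cfsg.conjFun b) = conj (classInner a b) := by
  simp only [classInner_def, Cfsg.conjFun, map_mul, map_sum, map_inv₀, Complex.conj_natCast]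

/-- Bessel inequality for an orthogonal family with integral data. -/
theorem bessel_ineq {ι : Type*} (s : Finset ι) (e : ι → X → ℂ) (n : ι → ℕ) (hn : ∀ i ∈ s, 0 < n i)
    (hnorm : ∀ i ∈ s, classInner (e i) (e i) = n i)
    (hon : ∀ i ∈ s, ∀ j ∈ s, i ≠ j → classInner (e i) (e j) = 0) (w : X → ℂ) (b : ι → ℤ)
    (hb : ∀ i ∈ s, classInner w (e i) = b i) :
    ∑ i ∈ s, (b i : ℝ) ^ 2 / (n i : ℝ) ≤ (classInner w w).re := by
  set w' : X → ℂ := w - ∑ j ∈ s, ((b j : ℂ) / (n j : ℂ)) • e j with hw'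
  have hn0 : ∀ i ∈ s, (n i : ℂ) ≠ 0 := fun i hi => by exact_mod_cast (hn i hi).ne'
  have h1 : ∀ i ∈ s, classInner w' (e i) = 0 := by
    intro i hi
    rw [hw', classInner_sub_left, classInner_sum_left, hb i hi, Finset.sum_eq_single i]
    · rw [classInner_smul_left, hnorm i hi, div_mul_cancel₀ _ (hn0 i hi), sub_self]
    · intro j hj hne
      rw [classInner_smul_left, hon j hj i hi hne, mul_zero]
    · intro h; exact absurd hi h
  have h2 : classInner w' (∑ j ∈ s, ((b j : ℂ) / (n j : ℂ)) • e j) = 0 := by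
    rw [classInner_sum_right]
    refine Finset.sum_eq_zero fun j hj => ?_
    rw [classInner_smul_right, h1 j hj, mul_zero]
  have h3 : classInner (∑ j ∈ s, ((b j : ℂ) / (n j : ℂ)) • e j) w =
      ((∑ i ∈ s, (b i : ℝ) ^ 2 / (n i : ℝ) : ℝ) : ℂ) := by
    rw [classInner_sum_left]
    push_cast
    refine Finset.sum_congr rfl fun j hj => ?_
    rw [classInner_smul_left, ← classInner_conj_symm, hb j hj]
    rw [map_intCast]
    ring
  have h4 : classInner w' w' = classInner w w - ((∑ i ∈ s, (b i : ℝ) ^ 2 / (n i : ℝ) : ℝ) : ℂ) := by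
    conv_lhs => rw [hw', classInner_sub_right, ← hw', h2, sub_zero, hw', classInner_sub_left, h3]
  have h5 := classInner_self_re_nonneg w'
  rw [h4, Complex.sub_re, Complex.ofReal_re] at h5
  linarith

theorem inner_comb_zero (F F' : Finset (X → ℂ)) (c c' : (X → ℂ) → ℤ)
    (h : ∀ α ∈ F, ∀ β ∈ F', classInner α β = 0) :
    classInner (∑ α ∈ F, (c α : ℂ) • α) (∑ β ∈ F', (c' β : ℂ) • β) = 0 := by
  rw [classInner_sum_left]
  refine Finset.sum_eq_zero fun α hα => ?_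
  rw [classInner_sum_right]
  refine Finset.sum_eq_zero fun β hβ => ?_
  rw [classInner_smul_left, classInner_smul_right, h α hα β hβ, mul_zero, mul_zero]

theorem inner_comb_self (F : Finset (X → ℂ)) (c c' : (X → ℂ) → ℤ) (h1 : ∀ α ∈ F, classInner α α = 1)
    (h0 : ∀ α ∈ F, ∀ β ∈ F, α ≠ β → classInner α β = 0) :
    classInner (∑ α ∈ F, (c α : ℂ) • α) (∑ β ∈ F, (c' β : ℂ) • β) = ((∑ α ∈ F, c α * c' α : ℤ) : ℂ) := by
  rw [classInner_sum_left]
  push_cast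
  refine Finset.sum_congr rfl fun α hα => ?_
  rw [classInner_sum_right, Finset.sum_eq_single α]
  · rw [classInner_smul_left, classInner_smul_right, h1 α hα]; simp
  · intro β hβ hne
    rw [classInner_smul_left, classInner_smul_right, h0 α hα β hβ hne.symm, mul_zero, mul_zero]
  · intro h; exact absurd hα h

theorem int_le_sq (z : ℤ) : z ≤ z ^ 2 := by
  rcases le_or_gt z 0 with h | h
  · nlinarith
  · nlinarith

end general

section cs

variable {L : Type u} [Group L] [Fintype L] {G : Type v} [Group G] [Fintype G]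
variable {S : Set (L → ℂ)} {τ : (L → ℂ) → (G → ℂ)} {R : (L → ℂ) → Finset (G → ℂ)}

theorem cs_conj_one (hS : IsCoherenceSystem S τ R) {χ : L → ℂ} (hχ : χ ∈ S) : Cfsg.conjFun χ 1 = χ 1 := by
  obtain ⟨n, hn⟩ := isCharacter_apply_one (hS.isCharacter χ hχ)
  simp [Cfsg.conjFun, hn]

theorem cs_norm_nat (hS : IsCoherenceSystem S τ R) {χ : L → ℂ} (hχ : χ ∈ S) :
    ∃ n : ℕ, 0 < n ∧ classInner χ χ = n := by
  obtain ⟨n, hn⟩ := classInner_char_nat (hS.isCharacter χ hχ) (hS.isCharacter χ hχ)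
  refine ⟨n, ?_, hn⟩
  rcases Nat.eq_zero_or_pos n with h | h
  · exfalso
    rw [h] at hn
    have h0 : χ = 0 := classInner_self_eq_zero (by simpa using hn)
    apply hS.conj_ne χ hχ
    rw [h0]; ext x; simp [Cfsg.conjFun]
  · exact h

theorem cs_norm_conj (hS : IsCoherenceSystem S τ R) {χ : L → ℂ} (hχ : χ ∈ S) :
    classInner (Cfsg.conjFun χ) (Cfsg.conjFun χ) = classInner χ χ := by
  obtain ⟨n, -, hn⟩ := cs_norm_nat hS hχ
  rw [classInner_conjFun_conjFun', hn]; simp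

theorem cs_orth_conj (hS : IsCoherenceSystem S τ R) {χ : L → ℂ} (hχ : χ ∈ S) :
    classInner χ (Cfsg.conjFun χ) = 0 :=
  hS.orthogonal χ hχ _ (hS.conj_mem χ hχ) (hS.conj_ne χ hχ).symm

theorem cs_sub_mem (_hS : IsCoherenceSystem S τ R) {T : Set (L → ℂ)} {χ ξ : L → ℂ} (hχ : χ ∈ T) (hξ : ξ ∈ T)
    (h1 : χ 1 = ξ 1) : χ - ξ ∈ zspanOn T {1}ᶜ := by
  rw [mem_zspanOn_one_iff]
  exact ⟨zspan_sub (mem_zspan_of_mem hχ) (mem_zspan_of_mem hξ), by simp [h1]⟩

theorem cs_sub_conj_mem (hS : IsCoherenceSystem S τ R) {T : Set (L → ℂ)} {χ : L → ℂ} (hχS : χ ∈ S) (hχ : χ ∈ T)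
    (hχ' : Cfsg.conjFun χ ∈ T) : χ - Cfsg.conjFun χ ∈ zspanOn T {1}ᶜ :=
  cs_sub_mem hS hχ hχ' (cs_conj_one hS hχS).symm

theorem cs_orthoSet (hS : IsCoherenceSystem S τ R) {T : Finset (L → ℂ)} (hT : ↑T ⊆ S) : IsOrthoSet T where
  orth := fun ξ hξ ξ' hξ' hne => hS.orthogonal ξ (hT hξ) ξ' (hT hξ') hne
  nz := fun ξ hξ => by
    obtain ⟨n, hn, h⟩ := cs_norm_nat hS (hT hξ)
    rw [h]; exact_mod_cast hn.ne'

theorem cs_R_one (hS : IsCoherenceSystem S τ R) {χ : L → ℂ} (hχ : χ ∈ S) : ∀ α ∈ R χ, classInner α α = 1 := by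
  intro α hα
  have := hS.orthonormal χ hχ α hα α hα
  rwa [if_pos rfl] at this

theorem cs_R_zero (hS : IsCoherenceSystem S τ R) {χ : L → ℂ} (hχ : χ ∈ S) :
    ∀ α ∈ R χ, ∀ β ∈ R χ, α ≠ β → classInner α β = 0 := by
  intro α hα β hβ hne
  have := hS.orthonormal χ hχ α hα β hβ
  rwa [if_neg hne] at this

/-- decomposition of a virtual character along `R χ` -/
theorem cs_split (hS : IsCoherenceSystem S τ R) {χ : L → ℂ} (hχ : χ ∈ S) {v : G → ℂ}
    (hv : IsGeneralizedCharacter G v) :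
    ∃ c : (G → ℂ) → ℤ, (∀ α ∈ R χ, classInner v α = c α) ∧
      classInner v (τ (χ - Cfsg.conjFun χ)) = ((∑ α ∈ R χ, c α : ℤ) : ℂ) ∧
      (∀ α ∈ R χ, classInner (v - ∑ α ∈ R χ, (c α : ℂ) • α) α = 0) ∧
      IsGeneralizedCharacter G (v - ∑ α ∈ R χ, (c α : ℂ) • α) ∧
      classInner v v = classInner (v - ∑ α ∈ R χ, (c α : ℂ) • α) (v - ∑ α ∈ R χ, (c α : ℂ) • α) +
        ((∑ α ∈ R χ, c α ^ 2 : ℤ) : ℂ) := by
  classical
  have hint : ∀ α ∈ R χ, ∃ k : ℤ, classInner v α = k := fun α hα =>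
    classInner_virtual_int hv (hS.virtual χ hχ α hα)
  choose! c hc using hint
  have hon : ∀ i ∈ R χ, ∀ j ∈ R χ, classInner (id i : G → ℂ) (id j) = if i = j then 1 else 0 := by
    intro i hi j hj
    split_ifs with h
    · subst h; exact cs_R_one hS hχ i hi
    · exact cs_R_zero hS hχ i hi j hj h
  obtain ⟨b1, b2⟩ := bessel (R χ) id hon v c hc
  refine ⟨c, hc, ?_, b1, ?_, b2⟩
  · rw [hS.sum_eq χ hχ, classInner_sum_right]
    push_cast
    exact Finset.sum_congr rfl hc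
  · apply isGeneralizedCharacter_sub hv
    apply isGeneralizedCharacter_sum
    intro α hα
    exact isGeneralizedCharacter_intCast_smul (hS.virtual χ hχ α hα) _

/-- Peterfalvi (5.5): the image of `χ` under a coherent isometry is a combination of `R χ`. -/
theorem cs_expand (hS : IsCoherenceSystem S τ R) {E : Set (L → ℂ)} {τ₁ : (L → ℂ) → (G → ℂ)}
    (hτ₁ : IsLinearIsometryOn (zspan E) τ₁) {χ : L → ℂ} (hχ : χ ∈ S) (hχE : χ ∈ E) (hχE' : Cfsg.conjFun χ ∈ E)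
    (hag : τ₁ (χ - Cfsg.conjFun χ) = τ (χ - Cfsg.conjFun χ)) :
    ∃ c : (G → ℂ) → ℤ, τ₁ χ = ∑ α ∈ R χ, (c α : ℂ) • α := by
  have hm := mem_zspan_of_mem hχE
  have hm' := mem_zspan_of_mem hχE'
  obtain ⟨c, -, h2, -, h4, h5⟩ := cs_split hS hχ (lio_virtual hτ₁ hm)
  obtain ⟨n, -, hn⟩ := cs_norm_nat hS hχ
  obtain ⟨k, hk⟩ := norm_virtual_nat h4
  refine ⟨c, ?_⟩
  rw [← hag, lio_inner hτ₁ hm (zspan_sub hm hm'), classInner_sub_right, hn, cs_orth_conj hS hχ, sub_zero] at h2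
  rw [lio_inner hτ₁ hm hm, hn, hk] at h5
  have h2' : (n : ℤ) = ∑ α ∈ R χ, c α := by exact_mod_cast h2
  have h5' : (n : ℤ) = k + ∑ α ∈ R χ, c α ^ 2 := by exact_mod_cast h5
  have h6 : ∑ α ∈ R χ, c α ≤ ∑ α ∈ R χ, c α ^ 2 := Finset.sum_le_sum fun α _ => int_le_sq _
  have hk0 : k = 0 := by omega
  rw [hk0] at hk
  have := classInner_self_eq_zero (by simpa using hk)
  exact sub_eq_zero.1 this

/-- `R χ` is orthogonal to the image of a coherent set not containing `χ` or its conjugate. -/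
theorem cs_orth_R (hS : IsCoherenceSystem S τ R) {E : Set (L → ℂ)} {τ₁ : (L → ℂ) → (G → ℂ)}
    (hτ₁ : IsLinearIsometryOn (zspan E) τ₁) {ξ : L → ℂ} (hξ : ξ ∈ S) (hξE : ξ ∈ E) (hξE' : Cfsg.conjFun ξ ∈ E)
    (hag : τ₁ (ξ - Cfsg.conjFun ξ) = τ (ξ - Cfsg.conjFun ξ)) {χ : L → ℂ} (hχ : χ ∈ S) (h1 : ξ ≠ χ)
    (h2 : ξ ≠ Cfsg.conjFun χ) : ∀ α ∈ R χ, classInner (τ₁ ξ) α = 0 := by
  obtain ⟨c, hc⟩ := cs_expand hS hτ₁ hξ hξE hξE' hag
  intro α hα
  rw [hc, classInner_sum_left]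
  refine Finset.sum_eq_zero fun β hβ => ?_
  rw [classInner_smul_left, hS.disjoint χ hχ ξ hξ (hS.orthogonal ξ hξ χ hχ h1)
    (hS.orthogonal ξ hξ _ (hS.conj_mem χ hχ) h2) β hβ α hα, mul_zero]

end cs

end Cfsg.Agent.Lib.Helper10
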