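import Mathlib
import Cfsg.Agent.Lib.Helper10.CohSys
import Cfsg.Agent.CharLib.Eigen

/-!
Peterfalvi (5.6), first half: extending a coherent subset by a pair `χ, conj χ`.
-/

set_option autoImplicit false

universe u v

namespace Cfsg.Agent.Lib.Helper10

open Cfsg Cfsg.Agent.CharLib
open scoped ComplexConjugate

variable {L : Type u} [Group L] [Fintype L] {G : Type v} [Group G] [Fintype G]
variable {S : Set (L → ℂ)} {τ : (L → ℂ) → (G → ℂ)} {R : (L → ℂ) → Finset (G → ℂ)}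

theorem isCharacter_eq_zero_of_apply_one {X : Type u} [Group X] [Finite X] {χ : X → ℂ} (h : IsCharacter X χ)
    (h1 : χ 1 = 0) : χ = 0 := by
  obtain ⟨n, ρ, rfl⟩ := h
  ext g
  have h2 := norm_character_le ρ g
  rw [Representation.char_one] at h1
  have h3 : (Module.finrank ℂ (Fin n → ℂ) : ℝ) = 0 := by exact_mod_cast h1
  rw [h3] at h2
  simpa using norm_le_zero_iff.1 h2

theorem cs_degree_nat (hS : IsCoherenceSystem S τ R) {χ : L → ℂ} (hχ : χ ∈ S) : ∃ d : ℕ, 0 < d ∧ χ 1 = d := by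
  obtain ⟨d, hd⟩ := isCharacter_apply_one (hS.isCharacter χ hχ)
  refine ⟨d, ?_, hd⟩
  rcases Nat.eq_zero_or_pos d with h | h
  · exfalso
    rw [h] at hd
    have h0 : χ = 0 := isCharacter_eq_zero_of_apply_one (hS.isCharacter χ hχ) (by simpa using hd)
    apply hS.conj_ne χ hχ
    rw [h0]; ext x; simp [Cfsg.conjFun]
  · exact h

theorem cs_extend (hS : IsCoherenceSystem S τ R) (S₁ : Finset (L → ℂ)) (hS₁ : ↑S₁ ⊆ S)
    (hS₁c : ∀ φ ∈ S₁, Cfsg.conjFun φ ∈ S₁) {τ₁ : (L → ℂ) → (G → ℂ)}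
    (hτ₁ : IsLinearIsometryOn (zspan (↑S₁ : Set (L → ℂ))) τ₁)
    (hτ₁τ : ∀ α ∈ zspanOn (↑S₁ : Set (L → ℂ)) {1}ᶜ, τ₁ α = τ α) {χ : L → ℂ} (hχ : χ ∈ S) (hχ₁ : χ ∉ S₁)
    (hχ₂ : Cfsg.conjFun χ ∉ S₁) {χ₁ : L → ℂ} (hχ₁S : χ₁ ∈ S₁) (a : ℤ) (ha : χ 1 = a * χ₁ 1) {X : G → ℂ}
    (hX : IsGeneralizedCharacter G X) (hXn : classInner X X = classInner χ χ)
    (hXo : ∀ ξ ∈ S₁, classInner X (τ₁ ξ) = 0)
    (hlink : τ ((1 : ℤ) • χ + (-a) • χ₁) = X + (-a) • τ₁ χ₁) :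
    IsCoherent (↑S₁ ∪ {χ, Cfsg.conjFun χ} : Set (L → ℂ)) {1}ᶜ τ := by
  classical
  set χb := Cfsg.conjFun χ with hχb
  have hχbS : χb ∈ S := hS.conj_mem χ hχ
  have hτ := hS.isometry
  have hχ₁SS : χ₁ ∈ S := hS₁ hχ₁S
  have hne1 : ∀ ξ ∈ S₁, ξ ≠ χ := by rintro ξ h rfl; exact hχ₁ h
  have hne2 : ∀ ξ ∈ S₁, ξ ≠ χb := by rintro ξ h rfl; exact hχ₂ h
  have hag : ∀ ξ ∈ S₁, τ₁ (ξ - Cfsg.conjFun ξ) = τ (ξ - Cfsg.conjFun ξ) := fun ξ h =>
    hτ₁τ _ (cs_sub_conj_mem hS (hS₁ h) h (hS₁c ξ h))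
  have horthR : ∀ ξ ∈ S₁, ∀ α ∈ R χ, classInner (τ₁ ξ) α = 0 := fun ξ h =>
    cs_orth_R hS hτ₁ (hS₁ h) h (hS₁c ξ h) (hag ξ h) hχ (hne1 ξ h) (hne2 ξ h)
  obtain ⟨n, hnpos, hn⟩ := cs_norm_nat hS hχ
  have hδ : χ - χb ∈ zspanOn S {1}ᶜ := cs_sub_conj_mem hS hχ hχ hχbS
  have hβ₀ : (1 : ℤ) • χ + (-a) • χ₁ ∈ zspanOn S {1}ᶜ := by
    rw [mem_zspanOn_one_iff]
    refine ⟨zspan_add (zspan_zsmul (mem_zspan_of_mem hχ) _) (zspan_zsmul (mem_zspan_of_mem hχ₁SS) _), ?_⟩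
    simp [ha]
  have i2 : classInner χ₁ χ = 0 := hS.orthogonal χ₁ hχ₁SS χ hχ (hne1 χ₁ hχ₁S)
  have i3 : classInner χ₁ χb = 0 := hS.orthogonal χ₁ hχ₁SS χb hχbS (hne2 χ₁ hχ₁S)
  have i4 : classInner χ χb = 0 := cs_orth_conj hS hχ
  have i5 : classInner χb χ = 0 := classInner_eq_zero_symm i4
  have i6 : classInner χb χb = n := by rw [hχb, cs_norm_conj hS hχ, hn]
  -- inner product of τ₁ ξ with τ (χ - χb)
  have hτδ : ∀ ξ ∈ S₁, classInner (τ₁ ξ) (τ (χ - χb)) = 0 := by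
    intro ξ hξ
    rw [hS.sum_eq χ hχ, classInner_sum_right]
    exact Finset.sum_eq_zero fun α hα => horthR ξ hξ α hα
  have hXδ : classInner X (τ (χ - χb)) = n := by
    have e1 : X = τ ((1 : ℤ) • χ + (-a) • χ₁) + a • τ₁ χ₁ := by rw [hlink]; simp
    rw [e1, classInner_add_left, lio_inner hτ hβ₀ hδ, classInner_zsmul_left, hτδ χ₁ hχ₁S, classInner_add_left,
      classInner_zsmul_left, classInner_zsmul_left, classInner_sub_right, classInner_sub_right, hn, i4, i2, i3]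
    simp
  have hδX : classInner (τ (χ - χb)) X = n := by
    rw [← classInner_conj_symm, hXδ]; simp
  have hδδ : classInner (τ (χ - χb)) (τ (χ - χb)) = 2 * n := by
    rw [lio_inner hτ hδ hδ, classInner_sub_left, classInner_sub_right, classInner_sub_right, hn, i4, i5, i6]
    ring
  -- first extension
  have hsub1 : (↑(insert χ S₁) : Set (L → ℂ)) ⊆ S := by
    intro ξ hξ
    rcases Finset.mem_insert.1 hξ with rfl | h
    · exact hχ
    · exact hS₁ h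
  obtain ⟨τ₂, hτ₂, hτ₂χ, hτ₂S⟩ := extend_one hτ₁ hχ₁ (cs_orthoSet hS hsub1) hX hXn hXo
  -- second extension
  have hχb2 : χb ∉ insert χ S₁ := by
    intro h
    rcases Finset.mem_insert.1 h with h | h
    · exact hS.conj_ne χ hχ h
    · exact hχ₂ h
  have hsub2 : (↑(insert χb (insert χ S₁)) : Set (L → ℂ)) ⊆ S := by
    intro ξ hξ
    rcases Finset.mem_insert.1 hξ with rfl | h
    · exact hχbS
    · exact hsub1 h
  have hX2 : IsGeneralizedCharacter G (X - τ (χ - χb)) := isGeneralizedCharacter_sub hX (lio_virtual hτ hδ)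
  have hX2n : classInner (X - τ (χ - χb)) (X - τ (χ - χb)) = classInner χb χb := by
    rw [classInner_sub_left, classInner_sub_right, classInner_sub_right, hXn, hn, hXδ, hδX, hδδ, i6]; ring
  have hX2o : ∀ ξ ∈ insert χ S₁, classInner (X - τ (χ - χb)) (τ₂ ξ) = 0 := by
    intro ξ hξ
    rcases Finset.mem_insert.1 hξ with rfl | h
    · rw [hτ₂χ, classInner_sub_left, hXn, hn, hδX, sub_self]
    · rw [hτ₂S ξ h, classInner_sub_left, hXo ξ h, classInner_eq_zero_symm (hτδ ξ h), sub_self]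
  obtain ⟨τ₃, hτ₃, hτ₃χb, hτ₃S⟩ := extend_one hτ₂ hχb2 (cs_orthoSet hS hsub2) hX2 hX2n hX2o
  have hτ₃χ : τ₃ χ = X := by rw [hτ₃S χ (Finset.mem_insert_self _ _), hτ₂χ]
  have hτ₃S₁ : ∀ ξ ∈ S₁, τ₃ ξ = τ₁ ξ := fun ξ h => by rw [hτ₃S ξ (Finset.mem_insert_of_mem h), hτ₂S ξ h]
  have hset : (↑S₁ ∪ {χ, χb} : Set (L → ℂ)) = ↑(insert χb (insert χ S₁)) := by
    ext ξ
    simp only [Set.mem_union, Finset.mem_coe, Set.mem_insert_iff, Set.mem_singleton_iff, Finset.coe_insert]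
    tauto
  rw [hset]
  have hmemχ : χ ∈ insert χb (insert χ S₁) := Finset.mem_insert_of_mem (Finset.mem_insert_self _ _)
  have hmemχb : χb ∈ insert χb (insert χ S₁) := Finset.mem_insert_self _ _
  have hmemS₁ : ∀ ξ ∈ S₁, ξ ∈ insert χb (insert χ S₁) := fun ξ h =>
    Finset.mem_insert_of_mem (Finset.mem_insert_of_mem h)
  refine ⟨⟨χ - χb, cs_sub_conj_mem hS hχ hmemχ hmemχb, ?_⟩, τ₃, hτ₃, ?_⟩
  · intro h0
    exact hS.conj_ne χ hχ (sub_eq_zero.1 h0).symm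
  · -- degrees
    have hdeg : ∀ ξ ∈ S, ∃ d : ℤ, ξ 1 = d := by
      intro ξ hξ
      obtain ⟨d, -, hd⟩ := cs_degree_nat hS hξ
      exact ⟨d, by simpa using hd⟩
    choose! d hd using hdeg
    obtain ⟨d₁, hd₁pos, hd₁⟩ := cs_degree_nat hS hχ₁SS
    have hd₁ne : d χ₁ ≠ 0 := by
      intro h0
      have := hd χ₁ hχ₁SS
      rw [h0, hd₁] at this
      have h2 : (d₁ : ℂ) = 0 := by simpa using this
      have h3 : d₁ = 0 := by exact_mod_cast h2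
      omega
    have hdχ : d χ = a * d χ₁ := by
      have := ha
      rw [hd χ hχ, hd χ₁ hχ₁SS] at this
      exact_mod_cast this
    have hdχb : d χb = d χ := by
      have := cs_conj_one hS hχ
      rw [← hχb, hd χb hχbS, hd χ hχ] at this
      exact_mod_cast this
    apply agree_of_base (lio_mono hτ (zspanOn_mono hsub2)) hτ₃ d (fun ξ hξ => hd ξ (hsub2 hξ))
      (hmemS₁ χ₁ hχ₁S) hd₁ne
    intro ξ hξ
    rw [lio_comb hτ₃ (fun α ha n => zspan_zsmul ha n) (mem_zspan_of_mem hξ) (mem_zspan_of_mem (hmemS₁ χ₁ hχ₁S)),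
      hτ₃S₁ χ₁ hχ₁S]
    have e0 : τ (d χ₁ • ((1 : ℤ) • χ + (-a) • χ₁)) = d χ₁ • (X + (-a) • τ₁ χ₁) := by
      rw [lio_zsmul hτ hβ₀, hlink]
    rcases Finset.mem_insert.1 hξ with rfl | h
    · -- ξ = χb
      rw [hτ₃χb, hdχb, hdχ]
      have e1 : d χ₁ • χb + (-(a * d χ₁)) • χ₁ =
          d χ₁ • ((1 : ℤ) • χ + (-a) • χ₁) + (-(d χ₁)) • (χ - χb) := by
        ext x
        simp only [Pi.add_apply, Pi.smul_apply, Pi.sub_apply]
        simp only [zsmul_eq_mul]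
        push_cast; ring
      rw [e1, lio_add hτ (zspanOn_zsmul hβ₀ _) (zspanOn_zsmul hδ _), e0, lio_zsmul hτ hδ]
      ext x
      simp only [Pi.add_apply, Pi.smul_apply, Pi.sub_apply]
      simp only [zsmul_eq_mul]
      push_cast; ring
    · rcases Finset.mem_insert.1 h with rfl | h
      · -- ξ = χ
        rw [hτ₃χ, hdχ]
        have e1 : d χ₁ • ξ + (-(a * d χ₁)) • χ₁ = d χ₁ • ((1 : ℤ) • ξ + (-a) • χ₁) := by
          ext x
          simp only [Pi.add_apply, Pi.smul_apply]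
          simp only [zsmul_eq_mul]
          push_cast; ring
        rw [e1, e0]
        ext x
        simp only [Pi.add_apply, Pi.smul_apply]
        simp only [zsmul_eq_mul]
        push_cast; ring
      · -- ξ ∈ S₁
        rw [hτ₃S₁ ξ h]
        have hE : (d χ₁ • ξ + (-(d ξ)) • χ₁) ∈ zspanOn (↑S₁ : Set (L → ℂ)) {1}ᶜ := by
          rw [mem_zspanOn_one_iff]
          refine ⟨zspan_add (zspan_zsmul (mem_zspan_of_mem h) _) (zspan_zsmul (mem_zspan_of_mem hχ₁S) _), ?_⟩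
          simp [hd ξ (hS₁ h), hd χ₁ hχ₁SS]; ring
        rw [← hτ₁τ _ hE, lio_comb hτ₁ (fun α ha n => zspan_zsmul ha n) (mem_zspan_of_mem h)
          (mem_zspan_of_mem hχ₁S)]

end Cfsg.Agent.Lib.Helper10
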