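import Mathlib
import Cfsg.Prelude.Def_Characters
import Cfsg.Agent.CharLib.CliffordInd
import Cfsg.Agent.CharLib.PermLemma
import Cfsg.Agent.Lib.Helper23.DegLib
import Cfsg.Agent.Lib.Helper23.CharDeg2
import Cfsg.Agent.Lib.Helper23.ConjCover
import Cfsg.Agent.S0887
import Cfsg.Agent.S0169

/-! The Ito–Michler theorem for classes of groups having enough normal `p`- or `p'`-subgroups. -/

set_option autoImplicit false

namespace Cfsg.Agent.Lib.Helper10

open Cfsg Cfsg.Agent.CharLib Cfsg.Agent.CharLib.H2 Cfsg.Agent.Lib.Helper23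

universe u

section KL

variable {X : Type u} [Group X] [Finite X] (p : ℕ) [hp : Fact p.Prime]

/-- degrees of irreducible characters of a normal subgroup divide degrees of the group -/
theorem exists_degree_dvd (R : Subgroup X) [R.Normal] (ψ : IrrCharacter R) :
    ∃ χ : IrrCharacter X, charDegree (ψ : R → ℂ) ∣ charDegree (χ : X → ℂ) := by
  cases nonempty_fintype X
  let _ : Fintype R := Fintype.ofFinite R
  obtain ⟨χ, hχ⟩ := exists_irr_over R ψ.2
  exact ⟨χ, (Cfsg.Agent.S0887.result R (χ : X → ℂ) χ.2 (ψ : R → ℂ) ψ.2 hχ _ _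
    (charDegree_cast_irr χ).symm (charDegree_cast_irr ψ).symm).1⟩

theorem invariant_of_pPrime_degree (M : Subgroup X) (hM : M.Normal) (hidx : ∃ k, M.index = p ^ k)
    (hdeg : ∀ χ : IrrCharacter X, ¬ p ∣ charDegree (χ : X → ℂ)) (θ : IrrCharacter M) (x : X) :
    H2.conjFun hM θ x = θ := by
  cases nonempty_fintype X
  let _ : Fintype M := Fintype.ofFinite M
  obtain ⟨χ, hχ⟩ := exists_irr_over M θ.2
  obtain ⟨ψ, hψ, hind⟩ := exists_irr_inertia_indFun hM χ.2 θ.2 hχ
  have h1 := indFun_apply_one (inertia hM (θ : M → ℂ)) ψ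
  rw [hind, ← charDegree_cast_irr χ, ← charDegree_cast (isCharacter_of_irr hψ)] at h1
  have h2 : charDegree (χ : X → ℂ) = (inertia hM (θ : M → ℂ)).index * charDegree ψ := by
    exact_mod_cast h1
  obtain ⟨k, hk⟩ := hidx
  have h3 : (inertia hM (θ : M → ℂ)).index ∣ p ^ k := by
    rw [← hk]
    exact Subgroup.index_dvd_of_le (le_inertia hM (isClassFunction_of_irr θ.2))
  obtain ⟨j, -, hj⟩ := (Nat.dvd_prime_pow hp.out).1 h3
  have hj0 : j = 0 := by
    by_contra h0
    apply hdeg χ
    rw [h2, hj]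
    exact Dvd.dvd.mul_right (dvd_pow_self p h0) _
  rw [hj0, pow_zero, Subgroup.index_eq_one] at hj
  have : x ∈ inertia hM (θ : M → ℂ) := by rw [hj]; trivial
  exact this

/-- a group with a normal `p`-complement all of whose irreducible characters have degree prime to
`p` has a normal Sylow `p`-subgroup -/
theorem sylow_normal_of_normal_complement (M : Subgroup X) (hM : M.Normal)
    (hcop : (Nat.card M).Coprime p) (hidx : ∃ k, M.index = p ^ k)
    (hdeg : ∀ χ : IrrCharacter X, ¬ p ∣ charDegree (χ : X → ℂ)) (P : Sylow p X) :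
    (P : Subgroup X).Normal := by
  have hinv := invariant_of_pPrime_degree p M hM hidx hdeg
  -- every element of `X` fixes every class of `M`
  have hcl : ∀ (x : X) (m : M), IsConj (⟨x * m * x⁻¹, hM.conj_mem m m.2 x⟩ : M) m := by
    intro x m
    rw [isConj_iff_forall_irr]
    intro θ
    exact congrFun (hinv θ x) m
  -- class sizes
  have hidxC : ∀ m : M, ¬ p ∣ (Subgroup.centralizer ({(m : X)} : Set X)).index := by
    intro m
    rw [← card_isConj_eq_index]
    have h1 : Nat.card {z : X // IsConj (m : X) z} = Nat.card {z : M // IsConj m z} := by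
      symm
      apply Nat.card_congr
      refine Equiv.ofBijective (fun z => ⟨(z.1 : X), ?_⟩) ⟨?_, ?_⟩
      · obtain ⟨c, hc⟩ := isConj_iff.1 z.2
        exact isConj_iff.2 ⟨(c : X), by rw [← hc]; rfl⟩
      · intro a b hab
        have h5 : ((a.1 : M) : X) = ((b.1 : M) : X) := by
          have h6 := congrArg (fun w : {z : X // IsConj (m : X) z} => (w : X)) hab
          exact h6
        exact Subtype.ext (Subtype.ext h5)
      · rintro ⟨z, hz⟩
        obtain ⟨c, rfl⟩ := isConj_iff.1 hz
        exact ⟨⟨⟨c * m * c⁻¹, hM.conj_mem m m.2 c⟩, (hcl c m).symm⟩, rfl⟩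
    rw [h1, card_isConj_eq_index]
    intro h2
    have h3 : p ∣ Nat.card M := h2.trans (Subgroup.index_dvd_card _)
    exact (Nat.Prime.coprime_iff_not_dvd hp.out).1 hcop.symm h3
  -- every element of `M` is conjugate in `M` to an element centralizing `P`
  let D : Subgroup M := (Subgroup.centralizer ((P : Subgroup X) : Set X)).subgroupOf M
  have hD : D = ⊤ := by
    by_contra hne
    obtain ⟨m, hm⟩ := exists_not_mem_conj D hne
    obtain ⟨q, hq⟩ := P.2.nonempty_fixed_point_of_prime_not_dvd_card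
      (X ⧸ Subgroup.centralizer ({(m : X)} : Set X)) (hidxC m)
    obtain ⟨y, rfl⟩ := QuotientGroup.mk_surjective q
    obtain ⟨n, hn⟩ := isConj_iff.1 (hcl y m).symm
    apply hm n⁻¹
    rw [inv_inv, hn]
    change y * m * y⁻¹ ∈ Subgroup.centralizer ((P : Subgroup X) : Set X)
    rw [Subgroup.mem_centralizer_iff]
    intro g hg
    have h1 := hq ⟨g, hg⟩
    have h2 : ((g * y : X) : X ⧸ Subgroup.centralizer ({(m : X)} : Set X)) = (y : X ⧸ _) := h1
    rw [QuotientGroup.eq, Subgroup.mem_centralizer_singleton_iff] at h2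
    have h3 : (g * y)⁻¹ * y * m = m * ((g * y)⁻¹ * y) := h2
    have h4 : y⁻¹ * g⁻¹ * y * m = m * (y⁻¹ * g⁻¹ * y) := by
      have : (g * y)⁻¹ * y = y⁻¹ * g⁻¹ * y := by group
      rw [this] at h3
      exact h3
    calc g * (y * m * y⁻¹) = g * y * (m * (y⁻¹ * g⁻¹ * y)) * y⁻¹ * g := by group
      _ = g * y * (y⁻¹ * g⁻¹ * y * m) * y⁻¹ * g := by rw [h4]
      _ = y * m * y⁻¹ * g := by group
  have hMle : M ≤ Subgroup.normalizer ((P : Subgroup X) : Set X) := by
    intro m hm
    have h1 : (⟨m, hm⟩ : M) ∈ D := by rw [hD]; trivial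
    exact Subgroup.centralizer_le_normalizer _ (Subgroup.mem_subgroupOf.1 h1)
  have h1 : (Subgroup.normalizer ((P : Subgroup X) : Set X)).index = 1 := by
    obtain ⟨k, hk⟩ := hidx
    have h2 : (Subgroup.normalizer ((P : Subgroup X) : Set X)).index ∣ p ^ k := by
      rw [← hk]
      exact Subgroup.index_dvd_of_le hMle
    have h3 : (Subgroup.normalizer ((P : Subgroup X) : Set X)).index ∣ (P : Subgroup X).index :=
      Subgroup.index_dvd_of_le Subgroup.le_normalizer
    have h4 : Nat.Coprime (p ^ k) (P : Subgroup X).index :=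
      Nat.Coprime.pow_left k ((Nat.Prime.coprime_iff_not_dvd hp.out).2 P.not_dvd_index)
    exact Nat.eq_one_of_dvd_coprimes h4 h2 h3
  rw [Subgroup.index_eq_one] at h1
  exact Subgroup.normalizer_eq_top_iff.1 h1

end KL

section main

variable (p : ℕ) [hp : Fact p.Prime]

/-- Ito–Michler for a class `C` of finite groups closed under quotients in which every nontrivial
member has a nontrivial normal subgroup that is a `p`-group or a `p'`-group. -/
theorem exists_normal_sylow_of_class (C : ∀ (G : Type u) [Group G], Prop)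
    (h1 : ∀ (G : Type u) [Group G] [Finite G] (N : Subgroup G) [N.Normal], C G → C (G ⧸ N))
    (h2 : ∀ (G : Type u) [Group G] [Finite G] [Nontrivial G], C G →
      ∃ N : Subgroup G, N.Normal ∧ N ≠ ⊥ ∧ (IsPGroup p N ∨ (Nat.card N).Coprime p))
    (n : ℕ) : ∀ (G : Type u) [Group G] [Finite G], Nat.card G = n → C G →
      (∀ χ : IrrCharacter G, ¬ p ∣ charDegree (χ : G → ℂ)) →
      ∃ S : Subgroup G, S.Normal ∧ IsPGroup p S ∧ ¬ p ∣ S.index := by
  induction n using Nat.strong_induction_on with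
  | _ n ih =>
  intro G _ _ hn hC hdeg
  rcases subsingleton_or_nontrivial G with hsub | hnt
  · refine ⟨⊤, inferInstance, ?_, ?_⟩
    · intro g
      exact ⟨0, Subsingleton.elim _ _⟩
    · rw [Subgroup.index_top]
      exact hp.out.one_lt.ne' ∘ Nat.dvd_one.1
  obtain ⟨N, hN, hNbot, hNp⟩ := h2 G hC
  have hlt : Nat.card (G ⧸ N) < n := by
    rw [← hn, Subgroup.card_eq_card_quotient_mul_card_subgroup N]
    have h3 : 1 < Nat.card N := by
      have h4 : Nat.card N ≠ 1 := fun h => hNbot (Subgroup.card_eq_one.1 h)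
      have h5 : 0 < Nat.card N := Nat.card_pos
      omega
    have h6 : 0 < Nat.card (G ⧸ N) := Nat.card_pos
    nlinarith
  have hdegQ : ∀ χ : IrrCharacter (G ⧸ N), ¬ p ∣ charDegree (χ : G ⧸ N → ℂ) := by
    intro χ
    have h3 := hdeg ⟨fun g => (χ : G ⧸ N → ℂ) (QuotientGroup.mk' N g),
      isIrrCharacter_comp_of_surjective χ.2 (QuotientGroup.mk' N) (QuotientGroup.mk'_surjective N)⟩
    exact h3
  obtain ⟨S, hSn, hSp, hSi⟩ := ih _ hlt (G ⧸ N) rfl (h1 G N hC) hdegQ
  have hRn : (S.comap (QuotientGroup.mk' N)).Normal := hSn.comap _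
  have hRi : (S.comap (QuotientGroup.mk' N)).index = S.index :=
    Subgroup.index_comap_of_surjective S (QuotientGroup.mk'_surjective N)
  rcases hNp with hNp | hNp
  · refine ⟨S.comap (QuotientGroup.mk' N), hRn, ?_, by rw [hRi]; exact hSi⟩
    apply hSp.comap_of_ker_isPGroup
    rw [QuotientGroup.ker_mk']
    exact hNp
  · set R := S.comap (QuotientGroup.mk' N) with hR
    have hNR : N ≤ R := by
      intro x hx
      rw [hR, Subgroup.mem_comap, QuotientGroup.mk'_apply, (QuotientGroup.eq_one_iff x).2 hx]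
      exact S.one_mem
    have hMcop : (Nat.card (N.subgroupOf R)).Coprime p := by
      rw [Nat.card_congr (Subgroup.subgroupOfEquivOfLe hNR).toEquiv]
      exact hNp
    have hMidx : ∃ k, (N.subgroupOf R).index = p ^ k := by
      have h3 : Nat.card (R.map (QuotientGroup.mk' N)) = N.relIndex R := by
        rw [← Subgroup.relIndex_ker, QuotientGroup.ker_mk']
      rw [hR, Subgroup.map_comap_eq_self_of_surjective (QuotientGroup.mk'_surjective N)] at h3
      obtain ⟨k, hk⟩ := IsPGroup.iff_card.1 hSp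
      exact ⟨k, by rw [← hk, h3]; rfl⟩
    have hdegR : ∀ ψ : IrrCharacter R, ¬ p ∣ charDegree (ψ : R → ℂ) := by
      intro ψ hψ
      obtain ⟨χ, hχ⟩ := exists_degree_dvd R ψ
      exact hdeg χ (hψ.trans hχ)
    obtain ⟨P⟩ : Nonempty (Sylow p R) := inferInstance
    have hPn := sylow_normal_of_normal_complement p (N.subgroupOf R) (hN.subgroupOf R) hMcop hMidx
      hdegR P
    have hPc : (P : Subgroup R).Characteristic := P.characteristic_of_normal hPn
    refine ⟨(P : Subgroup R).map R.subtype, inferInstance, ?_, ?_⟩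
    · exact P.2.map _
    · rw [Subgroup.index_map_subtype, hRi]
      exact fun h => (hp.out.dvd_mul.1 h).elim P.not_dvd_index hSi

/-- a normal `p`-subgroup is abelian if all degrees are prime to `p` -/
theorem comm_of_normal_pGroup {G : Type u} [Group G] [Finite G] (S : Subgroup G) [S.Normal]
    (hS : IsPGroup p S) (hdeg : ∀ χ : IrrCharacter G, ¬ p ∣ charDegree (χ : G → ℂ)) :
    ∀ a ∈ S, ∀ b ∈ S, a * b = b * a := by
  have hlin : ∀ θ : IrrCharacter S, (θ : S → ℂ) 1 = 1 := by
    intro θ
    obtain ⟨χ, hχ⟩ := exists_degree_dvd S θ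
    obtain ⟨k, hk⟩ := IsPGroup.iff_card.1 hS
    have h3 := charDegree_dvd_card θ
    rw [hk] at h3
    obtain ⟨j, -, hj⟩ := (Nat.dvd_prime_pow hp.out).1 h3
    have hj0 : j = 0 := by
      by_contra h0
      apply hdeg χ
      refine dvd_trans ?_ hχ
      rw [hj]
      exact dvd_pow_self p h0
    rw [← charDegree_cast_irr θ, hj, hj0]
    simp
  intro a ha b hb
  exact congrArg Subtype.val (comm_of_all_linear hlin ⟨a, ha⟩ ⟨b, hb⟩)

omit hp in
/-- Ito: degrees are prime to `p` if there is a normal abelian subgroup of index prime to `p` -/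
theorem not_dvd_degree_of_normal_abelian {G : Type u} [Group G] [Finite G] (S : Subgroup G)
    [S.Normal] (hab : ∀ a ∈ S, ∀ b ∈ S, a * b = b * a) (hidx : ¬ p ∣ S.index)
    (χ : IrrCharacter G) : ¬ p ∣ charDegree (χ : G → ℂ) := by
  obtain ⟨n, ρ, hρ, hχ⟩ := χ.2
  have h1 := Cfsg.Agent.S0169.result ρ S hab
  have h2 : charDegree (χ : G → ℂ) = Module.finrank ℂ (Fin n → ℂ) := by
    have h3 := charDegree_cast_irr χ
    rw [← hχ, Representation.char_one] at h3
    rw [← hχ]
    exact_mod_cast h3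
  rw [h2]
  exact fun h => hidx (h.trans h1)

end main

end Cfsg.Agent.Lib.Helper10
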