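import Mathlib
import Cfsg.Prelude.Def_Local
import Cfsg.Agent.Lib.Helper10.ItoMichler
import Cfsg.Agent.Lib.Helper22.PSolvSub
import Cfsg.Agent.H20.PSolvHall
import Cfsg.Agent.H25.Codeg2
import Cfsg.Agent.S4713

/-!
# Derived length of a Sylow `p`-subgroup of a `p`-solvable group and the number of irreducible
characters of degree divisible by `p`
-/

set_option autoImplicit false

namespace Cfsg.Agent.Lib.Helper10

open Cfsg Cfsg.Agent.CharLib Cfsg.Agent.Lib.Helper23
open scoped ComplexConjugate commutatorElement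

universe u

section dS

variable {G : Type u} [Group G]

/-- internal derived series of a subgroup -/
def dS (X : Subgroup G) : ℕ → Subgroup G
  | 0 => X
  | k + 1 => ⁅dS X k, dS X k⁆

theorem dS_mono {X Y : Subgroup G} (h : X ≤ Y) (k : ℕ) : dS X k ≤ dS Y k := by
  induction k with
  | zero => exact h
  | succ k ih => exact Subgroup.commutator_mono ih ih

theorem dS_add (X : Subgroup G) (j k : ℕ) : dS X (j + k) = dS (dS X j) k := by
  induction k with
  | zero => rfl
  | succ k ih =>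
    show ⁅dS X (j + k), dS X (j + k)⁆ = ⁅dS (dS X j) k, dS (dS X j) k⁆
    rw [ih]

theorem commutator_self_le (A : Subgroup G) : ⁅A, A⁆ ≤ A := by
  rw [Subgroup.commutator_le]
  intro a ha b hb
  exact A.mul_mem (A.mul_mem (A.mul_mem ha hb) (A.inv_mem ha)) (A.inv_mem hb)

theorem dS_succ_le (X : Subgroup G) (k : ℕ) : dS X (k + 1) ≤ dS X k := commutator_self_le _

theorem dS_anti (X : Subgroup G) {j k : ℕ} (h : j ≤ k) : dS X k ≤ dS X j := by
  induction k, h using Nat.le_induction with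
  | base => exact le_rfl
  | succ k _ ih => exact (dS_succ_le X k).trans ih

theorem map_derivedSeries (X : Subgroup G) (k : ℕ) :
    (derivedSeries ↥X k).map X.subtype = dS X k := by
  induction k with
  | zero =>
    rw [derivedSeries_zero, ← MonoidHom.range_eq_map, Subgroup.range_subtype]
    rfl
  | succ k ih =>
    rw [derivedSeries_succ, Subgroup.map_commutator, ih]
    rfl

end dS

section ker

variable {H : Type u} [Group H] [Fintype H]

open Classical in
/-- if `A` is constant on cosets of `N'` and the coset sums of `B` vanish, `A ⊥ B`. -/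
theorem sum_mul_conj_eq_zero_of_coset (A B : H → ℂ) (N' : Subgroup H)
    (hA : ∀ h x : H, x ∈ N' → A (h * x) = A h)
    (hB : ∀ h : H, ∑ x : H, (if x ∈ N' then B (h * x) else 0) = 0) :
    ∑ h : H, A h * conj (B h) = 0 := by
  have h1 : ∀ x : H, ∑ h : H, A h * conj (B h) = ∑ h : H, A (h * x) * conj (B (h * x)) := by
    intro x
    exact (Equiv.sum_comp (Equiv.mulRight x) (fun h => A h * conj (B h))).symm
  have h2 : ∑ x : H, (if x ∈ N' then ∑ h : H, A h * conj (B h) else 0) = 0 := by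
    calc ∑ x : H, (if x ∈ N' then ∑ h : H, A h * conj (B h) else 0)
        = ∑ x : H, ∑ h : H, (if x ∈ N' then A h * conj (B (h * x)) else 0) := by
          refine Finset.sum_congr rfl fun x _ => ?_
          split_ifs with hx
          · rw [h1 x]
            exact Finset.sum_congr rfl fun h _ => by rw [hA h x hx]
          · simp
      _ = ∑ h : H, ∑ x : H, (if x ∈ N' then A h * conj (B (h * x)) else 0) := Finset.sum_comm
      _ = ∑ h : H, A h * conj (∑ x : H, (if x ∈ N' then B (h * x) else 0)) := by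
          refine Finset.sum_congr rfl fun h _ => ?_
          rw [map_sum, Finset.mul_sum]
          refine Finset.sum_congr rfl fun x _ => ?_
          split_ifs <;> simp
      _ = 0 := by
          refine Finset.sum_eq_zero fun h _ => ?_
          rw [hB h]; simp
  have h3 : ∑ x : H, (if x ∈ N' then ∑ h : H, A h * conj (B h) else 0)
      = ((Finset.univ.filter (fun x : H => x ∈ N')).card : ℂ) * ∑ h : H, A h * conj (B h) := by
    rw [← Finset.sum_filter, Finset.sum_const, nsmul_eq_mul]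
  rw [h3] at h2
  rcases mul_eq_zero.1 h2 with h4 | h4
  · exfalso
    have : (Finset.univ.filter (fun x : H => x ∈ N')).card ≠ 0 := by
      apply Finset.card_ne_zero_of_mem (a := 1)
      simp [N'.one_mem]
    exact this (by exact_mod_cast h4)
  · exact h4

end ker

section kerG

variable {G : Type u} [Group G] [Fintype G]

/-- a normal subgroup in the kernel of `χ` is in the kernel of each constituent of `χ_H`. -/
theorem ker_constituent (H : Subgroup G) [Fintype H] (χ : IrrCharacter G) (ψ : IrrCharacter H)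
    (hcon : classInner (fun h : H => (χ : G → ℂ) h) (ψ : H → ℂ) ≠ 0)
    (N : Subgroup G) [N.Normal] (hN : ∀ x ∈ N, (χ : G → ℂ) x = (χ : G → ℂ) 1) :
    ∀ l : H, (l : G) ∈ N → (ψ : H → ℂ) l = (ψ : H → ℂ) 1 := by
  classical
  by_contra hcontra
  push Not at hcontra
  obtain ⟨l, hl, hne⟩ := hcontra
  apply hcon
  rw [classInner_def]
  have := sum_mul_conj_eq_zero_of_coset (fun h : H => (χ : G → ℂ) h) (ψ : H → ℂ) (N.subgroupOf H)
    (fun h x hx => by
      have hx' : (x : G) ∈ N := hx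
      show (χ : G → ℂ) ((h : G) * (x : G)) = _
      exact Cfsg.Agent.H25.irr_mul_of_mem_ker χ (hN _ hx') _)
    (fun h => Cfsg.Agent.H25.sum_coset_eq_zero (N.subgroupOf H) ψ ⟨l, hl, hne⟩ h)
  rw [this, mul_zero]

/-- a normal subgroup of `G` inside the kernel of `ψ ∈ Irr(H)` is in the kernel of each
irreducible character of `G` over `ψ`. -/
theorem ker_over (H : Subgroup G) [Fintype H] (χ : IrrCharacter G) (ψ : IrrCharacter H)
    (hcon : classInner (fun h : H => (χ : G → ℂ) h) (ψ : H → ℂ) ≠ 0)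
    (N : Subgroup G) [N.Normal] (hNH : N ≤ H)
    (hN : ∀ l : H, (l : G) ∈ N → (ψ : H → ℂ) l = (ψ : H → ℂ) 1) :
    ∀ x ∈ N, (χ : G → ℂ) x = (χ : G → ℂ) 1 := by
  classical
  by_contra hcontra
  push Not at hcontra
  obtain ⟨l, hl, hne⟩ := hcontra
  apply hcon
  rw [← classInner_conj_symm, classInner_def]
  have := sum_mul_conj_eq_zero_of_coset (ψ : H → ℂ) (fun h : H => (χ : G → ℂ) h) (N.subgroupOf H)
    (fun h x hx => Cfsg.Agent.H25.irr_mul_of_mem_ker ψ (hN x hx) h)
    (fun h => by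
      have h1 := Cfsg.Agent.H25.sum_coset_eq_zero N χ ⟨l, hl, hne⟩ (h : G)
      refine Eq.trans ?_ h1
      have h2 : ∑ x : G, (if x ∈ N then (χ : G → ℂ) ((h : G) * x) else 0)
          = ∑ x ∈ Finset.univ.filter (fun x : G => x ∈ H),
            (if x ∈ N then (χ : G → ℂ) ((h : G) * x) else 0) := by
        symm
        apply Finset.sum_subset (Finset.filter_subset _ _)
        intro x _ hx
        have hxH : x ∉ H := by simpa using hx
        rw [if_neg (fun hxN => hxH (hNH hxN))]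
      rw [h2]
      rw [Finset.sum_subtype (Finset.univ.filter (fun x : G => x ∈ H)) (p := fun x => x ∈ H)
        (fun x => by simp)]
      refine Finset.sum_congr rfl fun x _ => ?_
      rfl)
  rw [this, mul_zero, map_zero]

end kerG

section main

variable {G : Type u} [Group G] [Finite G]

/-- `L ⊴ G`, `L ≤ H` and all irreducible characters of `H / L` have `p'`-degree. -/
def InA (p : ℕ) (H L : Subgroup G) : Prop :=
  L.Normal ∧ L ≤ H ∧ ∀ ψ : IrrCharacter H,
    (∀ l : H, (l : G) ∈ L → (ψ : H → ℂ) l = (ψ : H → ℂ) 1) → ¬ p ∣ charDegree (ψ : H → ℂ)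

theorem inA_of_quotient (p : ℕ) (H L : Subgroup G) [hL : L.Normal] (hLH : L ≤ H)
    (h : ∀ χ' : IrrCharacter (↥H ⧸ L.subgroupOf H),
      ¬ p ∣ charDegree (χ' : ↥H ⧸ L.subgroupOf H → ℂ)) : InA p H L := by
  refine ⟨hL, hLH, fun ψ hψ => ?_⟩
  obtain ⟨χ', hχ'⟩ := Cfsg.Agent.H25.exists_quotient_irr ψ (L.subgroupOf H)
    (fun l hl => (Cfsg.Agent.H25.mem_kerSub ψ l).2 (hψ l hl))
  have h4 : charDegree (χ' : ↥H ⧸ L.subgroupOf H → ℂ) = charDegree (ψ : H → ℂ) := by
    unfold charDegree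
    rw [← hχ' 1]; rfl
  rw [← h4]
  exact h χ'

theorem quotient_of_inA (p : ℕ) (H L : Subgroup G) [hL : L.Normal] (h : InA p H L)
    (χ' : IrrCharacter (↥H ⧸ L.subgroupOf H)) :
    ¬ p ∣ charDegree (χ' : ↥H ⧸ L.subgroupOf H → ℂ) := by
  let ψ : IrrCharacter H := ⟨fun x => (χ' : ↥H ⧸ L.subgroupOf H → ℂ)
    (QuotientGroup.mk' (L.subgroupOf H) x),
    isIrrCharacter_comp_of_surjective χ'.2 _ (QuotientGroup.mk'_surjective _)⟩
  have h1 := h.2.2 ψ (by
    intro l hl
    show (χ' : ↥H ⧸ L.subgroupOf H → ℂ) (QuotientGroup.mk' _ l)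
      = (χ' : ↥H ⧸ L.subgroupOf H → ℂ) (QuotientGroup.mk' _ 1)
    have hl1 : QuotientGroup.mk' (L.subgroupOf H) l = 1 := (QuotientGroup.eq_one_iff l).2 hl
    rw [hl1, map_one])
  have h4 : charDegree (χ' : ↥H ⧸ L.subgroupOf H → ℂ) = charDegree (ψ : H → ℂ) := by
    unfold charDegree
    show _ = ⌊((χ' : ↥H ⧸ L.subgroupOf H → ℂ) (QuotientGroup.mk' _ 1)).re⌋₊
    rw [map_one]
  rw [h4]
  exact h1

theorem commutator_le_of_inA (p : ℕ) [Fact p.Prime] (hG : IsPSolvable p G) (P : Sylow p G)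
    (H L : Subgroup G) (h : InA p H L) :
    ⁅(P : Subgroup G) ⊓ H, (P : Subgroup G) ⊓ H⁆ ≤ L := by
  have hL : L.Normal := h.1
  have hX : IsPSolvable p (↥H ⧸ L.subgroupOf H) :=
    Cfsg.Agent.H20.isPSolvable_quotient Fact.out
      (Cfsg.Agent.Lib.Helper22.isPSolvable_subgroup Fact.out hG H) _
  have hQ : IsPGroup p ((((P : Subgroup G) ⊓ H).subgroupOf H).map
      (QuotientGroup.mk' (L.subgroupOf H))) := by
    apply IsPGroup.map
    apply IsPGroup.comap_of_injective _ H.subtype H.subtype_injective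
    exact P.2.to_le inf_le_left
  obtain ⟨S, hS⟩ := hQ.exists_le_sylow
  obtain ⟨-, hc⟩ := (Cfsg.Agent.S4713.result p hX S).2 (quotient_of_inA p H L h)
  rw [Subgroup.commutator_le]
  intro a ha b hb
  have ha' : QuotientGroup.mk' (L.subgroupOf H) ⟨a, ha.2⟩ ∈ (S : Subgroup _) :=
    hS ⟨⟨a, ha.2⟩, ha, rfl⟩
  have hb' : QuotientGroup.mk' (L.subgroupOf H) ⟨b, hb.2⟩ ∈ (S : Subgroup _) :=
    hS ⟨⟨b, hb.2⟩, hb, rfl⟩
  have h1 := (isMulCommutative_iff.1 hc) ⟨_, ha'⟩ ⟨_, hb'⟩
  have h2 : QuotientGroup.mk' (L.subgroupOf H) ⟨a, ha.2⟩ * QuotientGroup.mk' _ ⟨b, hb.2⟩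
      = QuotientGroup.mk' _ ⟨b, hb.2⟩ * QuotientGroup.mk' _ ⟨a, ha.2⟩ := congrArg Subtype.val h1
  rw [← map_mul, ← map_mul] at h2
  have h3 := (QuotientGroup.eq).1 h2.symm
  have h4 : ((b * a)⁻¹ * (a * b) : G) ∈ L := h3
  have h5 := hL.conj_mem _ h4 (b * a)
  have e : ⁅a, b⁆ = (b * a) * ((b * a)⁻¹ * (a * b)) * (b * a)⁻¹ := by
    rw [commutatorElement_def]; group
  rw [e]
  exact h5

theorem inA_self (p : ℕ) [Fact p.Prime] (H : Subgroup G) (hH : H.Normal) : InA p H H := by
  refine ⟨hH, le_rfl, fun ψ hψ => ?_⟩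
  have hk : Cfsg.Agent.H25.kerSub ψ = ⊤ := by
    rw [eq_top_iff]
    intro l _
    exact (Cfsg.Agent.H25.mem_kerSub ψ l).2 (hψ l l.2)
  have h1 := Cfsg.Agent.H25.eq_one_of_kerSub_eq_top ψ hk
  have h2 : charDegree (ψ : H → ℂ) = 1 := by
    rw [h1]; unfold charDegree; simp
  rw [h2]
  exact (Fact.out : p.Prime).one_lt.ne' ∘ Nat.dvd_one.1

theorem exists_inA_ne (p : ℕ) [Fact p.Prime] (hG : IsPSolvable p G) (N : Subgroup G)
    (hN : N.Normal) (hne : N ≠ ⊥) : ∃ L, InA p N L ∧ L ≠ N := by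
  obtain ⟨n, Hc, h0, hn, hmono, hnorm, hstep⟩ := hG
  obtain ⟨j, hj1, hj2⟩ : ∃ j : Fin n, N ≤ Hc j.succ ∧ ¬ N ≤ Hc j.castSucc := by
    by_contra hcon
    push Not at hcon
    have h1 : ∀ i : Fin (n + 1), N ≤ Hc i := by
      intro i
      induction i using Fin.reverseInduction with
      | last => rw [hn]; exact le_top
      | cast i ih => exact hcon i ih
    have h2 := h1 0
    rw [h0] at h2
    exact hne (le_bot_iff.1 h2)
  have hKn : (Hc j.castSucc).Normal := hnorm _
  set K := Hc j.castSucc with hK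
  have hKK' : K ≤ Hc j.succ := hmono (Fin.castSucc_le_succ j)
  have hd : K.relIndex N ∣ K.relIndex (Hc j.succ) := by
    have h1 := Subgroup.relIndex_dvd_index_of_normal (K.subgroupOf (Hc j.succ))
      (N.subgroupOf (Hc j.succ))
    rw [Subgroup.relIndex_subgroupOf hj1] at h1
    exact h1
  have hd1 : K.relIndex N ≠ 1 := fun h => hj2 (Subgroup.relIndex_eq_one.1 h)
  rcases hstep j with ⟨m, hm⟩ | hcop
  · -- `p`-power case
    rw [hm] at hd
    obtain ⟨k, -, hk⟩ := (Nat.dvd_prime_pow Fact.out).1 hd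
    have hLn : ((K ⊓ N) ⊔ ⁅N, N⁆).Normal := inferInstance
    have hLN : (K ⊓ N) ⊔ ⁅N, N⁆ ≤ N := sup_le inf_le_right (commutator_self_le N)
    refine ⟨(K ⊓ N) ⊔ ⁅N, N⁆, ?_, ?_⟩
    · apply inA_of_quotient p N _ hLN
      intro χ'
      apply not_dvd_degree_of_normal_abelian p (⊤ : Subgroup _)
      · intro a _ b _
        obtain ⟨a, rfl⟩ := QuotientGroup.mk'_surjective _ a
        obtain ⟨b, rfl⟩ := QuotientGroup.mk'_surjective _ b
        rw [← map_mul, ← map_mul]
        apply (QuotientGroup.eq).2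
        show (((a * b)⁻¹ * (b * a) : N) : G) ∈ (K ⊓ N) ⊔ ⁅N, N⁆
        apply (le_sup_right : ⁅N, N⁆ ≤ (K ⊓ N) ⊔ ⁅N, N⁆)
        have h1 := Subgroup.commutator_mem_commutator (inv_mem b.2) (inv_mem a.2)
        have e : (((a * b)⁻¹ * (b * a) : N) : G) = ⁅(b : G)⁻¹, (a : G)⁻¹⁆ := by
          rw [commutatorElement_def]
          push_cast
          group
        rw [e]
        exact h1
      · rw [Subgroup.index_top]
        exact (Fact.out : p.Prime).one_lt.ne' ∘ Nat.dvd_one.1
    · intro hLeq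
      have hcardZ : Nat.card (↥N ⧸ K.subgroupOf N) = p ^ k := hk
      have hZp : IsPGroup p (↥N ⧸ K.subgroupOf N) := IsPGroup.of_card hcardZ
      have hZnil := hZp.isNilpotent
      have hZnt : Nontrivial (↥N ⧸ K.subgroupOf N) := by
        rw [← Finite.one_lt_card_iff_nontrivial]
        have h1 : Nat.card (↥N ⧸ K.subgroupOf N) ≠ 1 := hd1
        have h2 : 0 < Nat.card (↥N ⧸ K.subgroupOf N) := Nat.card_pos
        omega
      have hlt := Group.IsSolvable.commutator_lt_top_of_nontrivial (↥N ⧸ K.subgroupOf N)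
      apply hlt.ne
      rw [eq_top_iff]
      intro z _
      obtain ⟨a, rfl⟩ := QuotientGroup.mk'_surjective _ z
      have ha : (a : G) ∈ (((K ⊓ N) ⊔ ⁅N, N⁆ : Subgroup G) : Set G) := by
        rw [hLeq]; exact a.2
      rw [Subgroup.mul_normal] at ha
      obtain ⟨x, hx, c, hc, hxc⟩ := ha
      have e : (commutator ↥N).map N.subtype = ⁅N, N⁆ := by
        rw [commutator_def, Subgroup.map_commutator, ← MonoidHom.range_eq_map,
          Subgroup.range_subtype]
      have hc' : c ∈ (commutator ↥N).map N.subtype := by rw [e]; exact hc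
      obtain ⟨c', hc'1, hc'2⟩ := hc'
      have hxN : x ∈ N := hx.2
      have ha' : a = ⟨x, hxN⟩ * c' := by
        apply Subtype.ext
        show (a : G) = x * (c' : G)
        have : (c' : G) = c := hc'2
        rw [this]; exact hxc.symm
      rw [ha', map_mul]
      have hx1 : QuotientGroup.mk' (K.subgroupOf N) ⟨x, hxN⟩ = 1 :=
        (QuotientGroup.eq_one_iff _).2 hx.1
      rw [hx1, one_mul]
      have h3 : (commutator ↥N).map (QuotientGroup.mk' (K.subgroupOf N))
          ≤ commutator (↥N ⧸ K.subgroupOf N) := by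
        rw [commutator_def, Subgroup.map_commutator, commutator_def]
        exact Subgroup.commutator_mono le_top le_top
      exact h3 ⟨c', hc'1, rfl⟩
  · -- coprime case
    have hLn : (K ⊓ N).Normal := inferInstance
    refine ⟨K ⊓ N, ?_, ?_⟩
    · apply inA_of_quotient p N _ inf_le_right
      intro χ' hdvd
      have h1 := hdvd.trans (charDegree_dvd_card χ')
      have h2 : Nat.card (↥N ⧸ (K ⊓ N).subgroupOf N) = K.relIndex N := by
        rw [← Subgroup.inf_relIndex_right]; rfl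
      rw [h2] at h1
      have h3 := h1.trans hd
      have h4 := Nat.Coprime.eq_one_of_dvd hcop.symm h3
      exact (Fact.out : p.Prime).one_lt.ne' h4
    · intro h
      exact hj2 (by rw [← h]; exact inf_le_left)

theorem exists_irr_of_not_inA (p : ℕ) [Fact p.Prime] (H N N₂ : Subgroup G) (hH : H.Normal)
    (hN : InA p H N) (hN₂n : N₂.Normal) (hN₂H : N₂ ≤ H) (hnot : ¬ InA p H N₂) :
    ∃ χ : IrrCharacter G, p ∣ charDegree (χ : G → ℂ) ∧
      (∀ x ∈ N₂, (χ : G → ℂ) x = (χ : G → ℂ) 1) ∧ ¬ (∀ x ∈ N, (χ : G → ℂ) x = (χ : G → ℂ) 1) := by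
  cases nonempty_fintype G
  let _ : Fintype H := Fintype.ofFinite H
  have hNn : N.Normal := hN.1
  obtain ⟨ψ, hψ1, hψ2⟩ : ∃ ψ : IrrCharacter H,
      (∀ l : H, (l : G) ∈ N₂ → (ψ : H → ℂ) l = (ψ : H → ℂ) 1) ∧ p ∣ charDegree (ψ : H → ℂ) := by
    by_contra hcon
    push Not at hcon
    exact hnot ⟨hN₂n, hN₂H, hcon⟩
  obtain ⟨χ, hχ⟩ := exists_irr_over H ψ.2
  refine ⟨χ, ?_, ker_over H χ ψ hχ N₂ hN₂H hψ1, ?_⟩
  · exact hψ2.trans (Cfsg.Agent.S0887.result H (χ : G → ℂ) χ.2 (ψ : H → ℂ) ψ.2 hχ _ _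
      (charDegree_cast_irr χ).symm (charDegree_cast_irr ψ).symm).1
  · intro hker
    exact hN.2.2 ψ (ker_constituent H χ ψ hχ N hker) hψ2

/-- the number of irreducible characters of degree divisible by `p` not containing `N` in the
kernel -/
noncomputable def cntA (p : ℕ) (N : Subgroup G) : ℕ :=
  Nat.card {χ : IrrCharacter G // p ∣ charDegree (χ : G → ℂ) ∧
    ¬ (∀ x ∈ N, (χ : G → ℂ) x = (χ : G → ℂ) 1)}

theorem dS_eq_bot_aux (p : ℕ) [Fact p.Prime] (hG : IsPSolvable p G) (P : Sylow p G)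
    (H : Subgroup G) : ∀ N : Subgroup G, H.Normal → InA p H N →
      (∀ L, InA p H L → L ≤ N → L = N) → dS ((P : Subgroup G) ⊓ H) (cntA p N + 1) = ⊥ := by
  induction H using WellFoundedLT.induction with
  | _ H ih =>
    intro N hH hN hmin
    have h1 : dS ((P : Subgroup G) ⊓ H) 1 ≤ (P : Subgroup G) ⊓ N :=
      le_inf ((commutator_self_le _).trans inf_le_left) (commutator_le_of_inA p hG P H N hN)
    by_cases hNb : N = ⊥
    · rw [eq_bot_iff]
      refine (dS_anti _ (Nat.le_add_left 1 _)).trans (h1.trans ?_)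
      rw [hNb]; exact inf_le_right
    · have hNn : N.Normal := hN.1
      have hHb : H ≠ ⊥ := by
        intro h
        apply hNb
        have := hN.2.1
        rw [h] at this
        exact le_bot_iff.1 this
      have hNH : N < H := by
        refine lt_of_le_of_ne hN.2.1 ?_
        intro h
        obtain ⟨L₁, hL₁, hne⟩ := exists_inA_ne p hG H hH hHb
        apply hne
        have := hmin L₁ hL₁ (by rw [h]; exact hL₁.2.1)
        rw [this, h]
      obtain ⟨L₀, hL₀, hL₀ne⟩ := exists_inA_ne p hG N hNn hNb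
      obtain ⟨N₂, hN₂, hN₂min⟩ := wellFounded_lt.has_min {L : Subgroup G | InA p N L} ⟨L₀, hL₀⟩
      have hN₂ne : N₂ ≠ N := by
        intro h
        apply hN₂min L₀ hL₀
        rw [h]
        exact lt_of_le_of_ne hL₀.2.1 hL₀ne
      have hIH := ih N hNH N₂ hNn hN₂ (by
        intro L hL hle
        by_contra hne
        exact hN₂min L hL (lt_of_le_of_ne hle hne))
      have hnot : ¬ InA p H N₂ := by
        intro h
        exact hN₂ne (hmin N₂ h hN₂.2.1)
      obtain ⟨χ₀, hχ1, hχ2, hχ3⟩ := exists_irr_of_not_inA p H N N₂ hH hN hN₂.1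
        (hN₂.2.1.trans hN.2.1) hnot
      have hcnt : cntA p N₂ < cntA p N := by
        unfold cntA
        classical
        rw [Nat.card_eq_fintype_card, Nat.card_eq_fintype_card]
        refine Fintype.card_lt_of_injective_of_notMem
          (fun χ : {χ : IrrCharacter G // p ∣ charDegree (χ : G → ℂ) ∧
              ¬ (∀ x ∈ N₂, (χ : G → ℂ) x = (χ : G → ℂ) 1)} =>
            (⟨χ.1, χ.2.1, fun h => χ.2.2 (fun x hx => h x (hN₂.2.1 hx))⟩ :
              {χ : IrrCharacter G // p ∣ charDegree (χ : G → ℂ) ∧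
              ¬ (∀ x ∈ N, (χ : G → ℂ) x = (χ : G → ℂ) 1)}))
          (fun a b hab => Subtype.ext (congrArg (fun z => z.1) hab))
          (b := ⟨χ₀, hχ1, hχ3⟩) ?_
        rintro ⟨a, ha⟩
        have : a.1 = χ₀ := congrArg (fun z => z.1) ha
        exact a.2.2 (by rw [this]; exact hχ2)
      rw [eq_bot_iff, ← hIH]
      have h2 : 1 + (cntA p N₂ + 1) ≤ cntA p N + 1 := by omega
      refine (dS_anti _ h2).trans ?_
      rw [dS_add]
      exact dS_mono h1 _

/-- `S4768`. -/
theorem derivedSeries_sylow_eq_bot (p : ℕ) [Fact p.Prime] (hG : IsPSolvable p G) (P : Sylow p G) :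
    derivedSeries ↥(P : Subgroup G)
      (Nat.card {χ : IrrCharacter G // p ∣ charDegree (χ : G → ℂ)} + 1) = ⊥ := by
  obtain ⟨N, hN, hNmin⟩ := wellFounded_lt.has_min {L : Subgroup G | InA p ⊤ L}
    ⟨⊤, inA_self p ⊤ inferInstance⟩
  have h1 := dS_eq_bot_aux p hG P ⊤ N inferInstance hN (by
    intro L hL hle
    by_contra hne
    exact hNmin L hL (lt_of_le_of_ne hle hne))
  rw [inf_top_eq] at h1
  have hcnt : cntA p N ≤ Nat.card {χ : IrrCharacter G // p ∣ charDegree (χ : G → ℂ)} := by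
    unfold cntA
    exact Nat.card_le_card_of_injective
      (fun χ : {χ : IrrCharacter G // p ∣ charDegree (χ : G → ℂ) ∧
          ¬ (∀ x ∈ N, (χ : G → ℂ) x = (χ : G → ℂ) 1)} =>
        (⟨χ.1, χ.2.1⟩ : {χ : IrrCharacter G // p ∣ charDegree (χ : G → ℂ)}))
      (fun a b hab => Subtype.ext (congrArg (fun z => z.1) hab))
  rw [← Subgroup.map_eq_bot_iff_of_injective _ (Subgroup.subtype_injective _), map_derivedSeries,
    eq_bot_iff, ← h1]
  exact dS_anti _ (by omega)

end main

end Cfsg.Agent.Lib.Helper10
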