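import Mathlib
import Cfsg.Agent.Lib.Helper10.Cocycle
import Cfsg.Agent.CharLib.L.Linear
import Cfsg.Agent.CharLib.Orth
import Cfsg.Agent.CharLib.Rep

/-!
Extension of invariant irreducible characters of a normal Hall subgroup.
-/

set_option autoImplicit false

universe u

namespace Cfsg.Agent.Lib.Helper10

open Cfsg Cfsg.Agent.CharLib Module

section scal

variable {V : Type*} [AddCommGroup V] [Module ℂ V]

/-- scalar operators as units -/
noncomputable def scal : ℂˣ →* (Module.End ℂ V)ˣ := Units.map (algebraMap ℂ (Module.End ℂ V)).toMonoidHom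

theorem scal_coe (c : ℂˣ) : ((scal c : (Module.End ℂ V)ˣ) : Module.End ℂ V) = (c : ℂ) • (1 : Module.End ℂ V) := by
  simp [scal, Algebra.algebraMap_eq_smul_one]

theorem scal_central (c : ℂˣ) (γ : (Module.End ℂ V)ˣ) : scal c * γ = γ * scal c := by
  apply Units.ext
  simp [scal_coe]

theorem scal_injective [Nontrivial V] : Function.Injective (scal (V := V)) := by
  intro a b h
  have h1 := congrArg (fun x : (Module.End ℂ V)ˣ => (x : Module.End ℂ V)) h
  simp only [scal_coe] at h1
  obtain ⟨v, hv⟩ := exists_ne (0 : V)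
  have h2 := congrArg (fun f : Module.End ℂ V => f v) h1
  simp only [LinearMap.smul_apply, Module.End.one_apply] at h2
  exact Units.ext (smul_left_injective ℂ hv h2)

/-- the determinant on units -/
noncomputable def detU : (Module.End ℂ V)ˣ →* ℂˣ := Units.map LinearMap.det

theorem detU_scal (c : ℂˣ) : detU (scal c : (Module.End ℂ V)ˣ) = c ^ finrank ℂ V := by
  apply Units.ext
  simp [detU, scal_coe]

end scal

section semidirect

variable {V : Type*} [AddCommGroup V] [Module ℂ V] [FiniteDimensional ℂ V]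

theorem extend_semidirect {N A : Type*} [Group N] [Fintype N] [Group A] [Fintype A] (φ : A →* MulAut N)
    (ρ : Representation ℂ N V) [hρ : ρ.IsIrreducible] (hinv : ∀ a n, ρ.character (φ a n) = ρ.character n)
    (hcop : Nat.Coprime (finrank ℂ V) (Fintype.card A)) :
    ∃ σ : (N ⋊[φ] A) →* (Module.End ℂ V)ˣ,
      ∀ n, ((σ (SemidirectProduct.inl n) : (Module.End ℂ V)ˣ) : Module.End ℂ V) = ρ n := by
  have hpos : 0 < finrank ℂ V := finrank_pos_of_irr ρ
  haveI : Nontrivial V := Module.nontrivial_of_finrank_pos (R := ℂ) hpos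
  set ρu : N →* (Module.End ℂ V)ˣ := MonoidHom.toHomUnits ρ with hρu
  have hρu_coe : ∀ n, ((ρu n : (Module.End ℂ V)ˣ) : Module.End ℂ V) = ρ n := fun n => rfl
  have hP1 : ∀ a, ∃ p : (Module.End ℂ V)ˣ, ∀ n, p * ρu n = ρu (φ a n) * p := by
    intro a
    let ρa : Representation ℂ N V := ρ.comp (φ a).toMonoidHom
    haveI : ρa.IsIrreducible := isIrreducible_comp_of_surjective ρ hρ _ (φ a).surjective
    have hch : ρ.character = ρa.character := by
      ext n
      exact (hinv a n).symm
    obtain ⟨e⟩ := nonempty_equiv_of_char_eq_of_irr ρ ρa hch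
    refine ⟨LinearMap.GeneralLinearGroup.ofLinearEquiv e.toLinearEquiv, ?_⟩
    intro n
    apply Units.ext
    exact e.isIntertwining' n
  choose P hP using hP1
  have hα : ∀ a b, ∃ c : ℂˣ, P a * P b = scal c * P (a * b) := by
    intro a b
    have hcomm : ∀ m, (P a * P b * (P (a * b))⁻¹) * ρu m = ρu m * (P a * P b * (P (a * b))⁻¹) := by
      intro m
      obtain ⟨n, rfl⟩ := (φ (a * b)).surjective m
      have h1 : (P (a * b))⁻¹ * ρu (φ (a * b) n) = ρu n * (P (a * b))⁻¹ := by
        rw [inv_mul_eq_iff_eq_mul, ← mul_assoc, hP (a * b) n, mul_assoc, mul_inv_cancel, mul_one]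
      have h2 : P a * P b * ρu n = ρu (φ (a * b) n) * (P a * P b) := by
        rw [mul_assoc, hP b n, ← mul_assoc, hP a, map_mul, MulAut.mul_apply, mul_assoc]
      rw [mul_assoc, h1, ← mul_assoc, h2, mul_assoc, mul_assoc]
    obtain ⟨c, hc⟩ := schur ρ ((P a * P b * (P (a * b))⁻¹ : (Module.End ℂ V)ˣ) : Module.End ℂ V) (by
      intro g
      have := congrArg (fun x : (Module.End ℂ V)ˣ => (x : Module.End ℂ V)) (hcomm g)
      exact this)
    have hc0 : c ≠ 0 := by
      rintro rfl
      rw [zero_smul] at hc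
      exact Units.ne_zero _ hc
    refine ⟨Units.mk0 c hc0, ?_⟩
    have h3 : P a * P b * (P (a * b))⁻¹ = scal (Units.mk0 c hc0) := by
      apply Units.ext
      rw [hc, scal_coe]
      rfl
    rw [← h3, inv_mul_cancel_right]
  choose α hα using hα
  obtain ⟨c, hc⟩ := cocycle_split scal scal_injective scal_central detU (finrank ℂ V) hpos detU_scal hcop P α hα
  let F : A →* (Module.End ℂ V)ˣ := MonoidHom.mk' (fun a => scal (c a) * P a) (fun a b => (hc a b).symm)
  have hF : ∀ a, F a = scal (c a) * P a := fun a => rfl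
  have hcompat : ∀ a, ρu.comp (φ a).toMonoidHom = (MulAut.conj (F a)).toMonoidHom.comp ρu := by
    intro a
    ext1 n
    simp only [MonoidHom.comp_apply, MulEquiv.coe_toMonoidHom, MulAut.conj_apply]
    rw [eq_mul_inv_iff_mul_eq, hF, ← mul_assoc, ← scal_central, mul_assoc, mul_assoc, hP a n]
  exact ⟨SemidirectProduct.lift ρu F hcompat, fun n => by rw [SemidirectProduct.lift_inl]; rfl⟩

end semidirect

/-- An invariant irreducible character of a normal Hall subgroup extends. -/
theorem coprime_extension {T : Type u} [Group T] [Finite T] (N : Subgroup T) [hN : N.Normal]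
    (hcop : Nat.Coprime (Nat.card N) N.index) (θ : N → ℂ) (hθ : IsIrrCharacter N θ)
    (hinv : ∀ (t : T) (n : N), θ ⟨t * n * t⁻¹, hN.conj_mem n n.2 t⟩ = θ n) :
    ∃ χ : T → ℂ, IsIrrCharacter T χ ∧ ∀ n : N, χ n = θ n := by
  classical
  cases nonempty_fintype T
  obtain ⟨A, hA⟩ := Subgroup.exists_right_complement'_of_coprime hcop
  have hcardA : Nat.card A = N.index := hA.symm.index_eq_card.symm
  obtain ⟨d, hdpos, hd1, hddvd⟩ := L.irr_degree_dvd ⟨θ, hθ⟩
  obtain ⟨n, ρ, hρ, rfl⟩ := hθ
  have hfr : finrank ℂ (Fin n → ℂ) = d := by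
    simp only [Representation.char_one] at hd1
    exact_mod_cast hd1
  set e := SemidirectProduct.mulEquivSubgroup hA with he
  obtain ⟨σ, hσ⟩ := extend_semidirect
    ((N.normalizerMonoidHom).comp (Subgroup.inclusion (N.normalizer_eq_top ▸ le_top) : A →* _)) ρ
    (by
      intro a m
      exact hinv a m)
    (by
      rw [hfr, ← Nat.card_eq_fintype_card, hcardA]
      exact Nat.Coprime.coprime_dvd_left hddvd hcop)
  let σT : Representation ℂ T (Fin n → ℂ) :=
    (Units.coeHom (Module.End ℂ (Fin n → ℂ))).comp (σ.comp e.symm.toMonoidHom)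
  have hσT : ∀ m : N, σT (m : T) = ρ m := by
    intro m
    have h1 : e.symm (m : T) = SemidirectProduct.inl m := by
      rw [MulEquiv.symm_apply_eq, he]
      simp
    show ((σ (e.symm (m : T)) : (Module.End ℂ (Fin n → ℂ))ˣ) : Module.End ℂ (Fin n → ℂ)) = ρ m
    rw [h1, hσ]
  refine ⟨σT.character, ⟨n, σT, ?_, rfl⟩, ?_⟩
  · rw [isIrreducible_iff] at hρ ⊢
    refine ⟨hρ.1, fun U hU => hρ.2 U ?_⟩
    intro g v hv
    rw [← hσT g]
    exact hU g v hv
  · intro m
    simp only [Representation.character, hσT]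

end Cfsg.Agent.Lib.Helper10
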