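import Mathlib
import Cfsg.Agent.CharLib.L.GaloisChar
import Cfsg.Agent.BlockLib.Omega

/-!
Galois conjugates of irreducible characters: for `m` prime to `|G|`, `g ↦ χ (g ^ m)` is again an irreducible
character.
-/

set_option autoImplicit false

universe u

namespace Cfsg.Agent.Lib.Helper10

open Cfsg Cfsg.Agent.CharLib Cfsg.Agent.CharLib.L Cfsg.Agent.BlockLib
open scoped ComplexConjugate

section

variable {G : Type u} [Group G] [Fintype G]

theorem conv_idem_idem {χ χ' : G → ℂ} (hχ : IsIrrCharacter G χ) (hχ' : IsIrrCharacter G χ') (hne : χ ≠ χ') :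
    conv (idem χ) (idem χ') = 0 := by
  classical
  have hc := isClassFunction_idem (isClassFunction_of_irr hχ)
  have hc' := isClassFunction_idem (isClassFunction_of_irr hχ')
  have h0 : IsClassFunction G (0 : G → ℂ) := fun _ _ => rfl
  apply eq_of_omega_eq (isClassFunction_conv hc hc') h0
  intro ψ
  rw [omega_conv ψ.2 hc hc', omega_idem hχ ψ.2, omega_idem hχ' ψ.2, omega_zero]
  split_ifs with h1 h2
  · exact absurd (h1.symm.trans h2) hne
  · simp
  · simp
  · simp

theorem conv_idem_idem_self {χ : G → ℂ} (hχ : IsIrrCharacter G χ) :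
    conv (idem χ) (idem χ) = idem χ := by
  classical
  have hc := isClassFunction_idem (isClassFunction_of_irr hχ)
  apply eq_of_omega_eq (isClassFunction_conv hc hc) hc
  intro ψ
  rw [omega_conv ψ.2 hc hc, omega_idem hχ ψ.2]
  split_ifs <;> simp

variable (φ : QBar →ₐ[ℚ] ℂ) (m : ℕ) (hφ : ∀ ω : QBar, ω ^ (Nat.card G) = 1 → φ ω = (ω : ℂ) ^ m)

include hφ in
theorem irr_compat {χ : G → ℂ} (hχ : IsIrrCharacter G χ) (g : G) :
    ∃ y : QBar, (y : ℂ) = χ g ∧ φ y = χ (g ^ m) := by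
  obtain ⟨n, ρ, hρ, rfl⟩ := hχ
  refine ⟨⟨ρ.character g, character_mem_QBar ρ g⟩, rfl, ?_⟩
  exact algHom_character ρ g (Nat.card G) Nat.card_pos pow_card_eq_one' φ m hφ _ rfl

include hφ in
theorem idem_compat {χ : G → ℂ} (hχ : IsIrrCharacter G χ) (g : G) :
    ∃ y : QBar, (y : ℂ) = idem χ g ∧ φ y = idem χ (g ^ m) := by
  obtain ⟨y₀, h1, h2⟩ := irr_compat φ m hφ (isIrrCharacter_conj hχ) g
  obtain ⟨d, -, hd⟩ := irr_apply_one_nat ⟨χ, hχ⟩
  simp only at hd
  refine ⟨((Nat.card G : ℕ) : QBar)⁻¹ * ((d : QBar) * y₀), ?_, ?_⟩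
  · simp only [idem, hd]
    push_cast
    rw [h1]
  · simp only [idem, hd]
    rw [map_mul, map_mul, map_inv₀, map_natCast, map_natCast, h2]

include hφ in
theorem conv_pow_idem {χ χ' : G → ℂ} (hχ : IsIrrCharacter G χ) (hχ' : IsIrrCharacter G χ') [Decidable (χ = χ')] :
    conv (fun g => idem χ (g ^ m)) (fun g => idem χ' (g ^ m)) =
      if χ = χ' then (fun g => idem χ (g ^ m)) else 0 := by
  choose y hy1 hy2 using idem_compat φ m hφ hχ
  choose y' hy1' hy2' using idem_compat φ m hφ hχ'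
  ext x
  rw [conv_apply]
  have e1 : ∑ h, idem χ (h ^ m) * idem χ' ((h⁻¹ * x) ^ m) = φ (∑ h, y h * y' (h⁻¹ * x)) := by
    rw [map_sum]
    refine Finset.sum_congr rfl fun h _ => ?_
    rw [map_mul, hy2, hy2']
  have e2 : ((∑ h, y h * y' (h⁻¹ * x) : QBar) : ℂ) = conv (idem χ) (idem χ') x := by
    rw [conv_apply]
    push_cast
    refine Finset.sum_congr rfl fun h _ => ?_
    rw [hy1, hy1']
  rw [e1]
  split_ifs with h
  · subst h
    rw [conv_idem_idem_self hχ, ← hy1 x] at e2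
    rw [Subtype.ext e2, hy2]
  · rw [conv_idem_idem hχ hχ' h] at e2
    have : (∑ h, y h * y' (h⁻¹ * x) : QBar) = 0 := Subtype.ext e2
    rw [this, map_zero]; rfl

omit [Fintype G] in
theorem isClassFunction_pow {f : G → ℂ} (hf : IsClassFunction G f) (m : ℕ) :
    IsClassFunction G (fun g => f (g ^ m)) := by
  intro g h
  show f ((h * g * h⁻¹) ^ m) = f (g ^ m)
  rw [conj_pow, hf]

include hφ in
theorem isIrrCharacter_pow_aux {χ : G → ℂ} (hχ : IsIrrCharacter G χ) :
    IsIrrCharacter G (fun g => χ (g ^ m)) := by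
  classical
  set E : IrrCharacter G → G → ℂ := fun χ g => idem (χ : G → ℂ) (g ^ m) with hE
  have hcl : ∀ χ, IsClassFunction G (E χ) := fun χ =>
    isClassFunction_pow (isClassFunction_idem (isClassFunction_of_irr χ.2)) m
  have hconv : ∀ χ χ' : IrrCharacter G, conv (E χ) (E χ') = if χ = χ' then E χ else 0 := by
    intro χ χ'
    have := conv_pow_idem φ m hφ χ.2 χ'.2
    rw [hE]
    simp only
    rw [this]
    simp only [Subtype.ext_iff]
  have h01 : ∀ (χ ψ : IrrCharacter G), omega (ψ : G → ℂ) (E χ) = 0 ∨ omega (ψ : G → ℂ) (E χ) = 1 := by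
    intro χ ψ
    have h1 := omega_conv ψ.2 (hcl χ) (hcl χ)
    rw [hconv χ χ, if_pos rfl] at h1
    have h2 : omega (ψ : G → ℂ) (E χ) * (omega (ψ : G → ℂ) (E χ) - 1) = 0 := by linear_combination -h1
    rcases mul_eq_zero.1 h2 with h | h
    · exact Or.inl h
    · exact Or.inr (sub_eq_zero.1 h)
  have hne0 : ∀ χ : IrrCharacter G, E χ ≠ 0 := by
    intro χ h
    have h1 := congrFun h 1
    simp only [hE, one_pow, idem, Pi.zero_apply] at h1
    have h2 := irr_apply_one_ne_zero χ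
    have h3 : (Nat.card G : ℂ) ≠ 0 := by exact_mod_cast Nat.card_pos.ne'
    rw [conj_irr_apply_one] at h1
    exact (mul_ne_zero (inv_ne_zero h3) (mul_ne_zero h2 h2)) h1
  have hex : ∀ χ : IrrCharacter G, ∃ ψ : IrrCharacter G, omega (ψ : G → ℂ) (E χ) = 1 := by
    intro χ
    by_contra hcon
    push Not at hcon
    apply hne0 χ
    apply eq_of_omega_eq (hcl χ) (fun _ _ => rfl)
    intro ψ
    rw [omega_zero]
    exact (h01 χ ψ).resolve_right (hcon ψ)
  choose s hs using hex
  have hdisj : ∀ χ χ' ψ : IrrCharacter G, χ ≠ χ' → omega (ψ : G → ℂ) (E χ) * omega (ψ : G → ℂ) (E χ') = 0 := by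
    intro χ χ' ψ hne
    rw [← omega_conv ψ.2 (hcl χ) (hcl χ'), hconv χ χ', if_neg hne, omega_zero]
  have hinj : Function.Injective s := by
    intro χ χ' h
    by_contra hne
    have := hdisj χ χ' (s χ) hne
    rw [hs χ, h, hs χ'] at this
    simp at this
  have hsurj : Function.Surjective s := Finite.injective_iff_surjective.1 hinj
  have hEq : ∀ χ : IrrCharacter G, E χ = idem (s χ : G → ℂ) := by
    intro χ
    apply eq_of_omega_eq (hcl χ) (isClassFunction_idem (isClassFunction_of_irr (s χ).2))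
    intro ψ
    rw [omega_idem (s χ).2 ψ.2]
    split_ifs with h
    · have : ψ = s χ := Subtype.ext h
      rw [this, hs]
    · obtain ⟨χ', rfl⟩ := hsurj ψ
      have hne : χ ≠ χ' := by
        rintro rfl; exact h rfl
      have := hdisj χ χ' (s χ') hne
      rw [hs χ', mul_one] at this
      exact this
  have key := hEq ⟨χ, hχ⟩
  obtain ⟨d, hdpos, hd⟩ := irr_apply_one_nat ⟨χ, hχ⟩
  obtain ⟨d', hd'pos, hd'⟩ := irr_apply_one_nat (s ⟨χ, hχ⟩)
  simp only at hd
  have h3 : (Nat.card G : ℂ) ≠ 0 := by exact_mod_cast Nat.card_pos.ne'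
  have k1 := congrFun key 1
  simp only [hE, one_pow, idem, hd, hd', Complex.conj_natCast] at k1
  have k2 : ((d * d : ℕ) : ℂ) = ((d' * d' : ℕ) : ℂ) := by
    push_cast
    exact mul_left_cancel₀ (inv_ne_zero h3) k1
  have k3 : d * d = d' * d' := by exact_mod_cast k2
  have k4 : d = d' := by nlinarith [Nat.mul_self_inj.1 k3]
  have : (fun g => χ (g ^ m)) = (s ⟨χ, hχ⟩ : G → ℂ) := by
    ext g
    have k5 := congrFun key g
    simp only [hE, idem, hd, hd', k4] at k5
    have hd0 : (d' : ℂ) ≠ 0 := by exact_mod_cast hd'pos.ne'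
    have k6 := mul_left_cancel₀ hd0 (mul_left_cancel₀ (inv_ne_zero h3) k5)
    exact (starRingEnd ℂ).injective k6
  rw [this]
  exact (s ⟨χ, hχ⟩).2

end

/-- For `m` prime to `|G|`, `g ↦ χ (g ^ m)` is an irreducible character when `χ` is. -/
theorem isIrrCharacter_pow {G : Type u} [Group G] [Finite G] {χ : G → ℂ} (hχ : IsIrrCharacter G χ) (m : ℕ)
    (hm : m.Coprime (Nat.card G)) : IsIrrCharacter G (fun g => χ (g ^ m)) := by
  cases nonempty_fintype G
  obtain ⟨φ, hφ⟩ := exists_algHom_of_coprime (Nat.card G) Nat.card_pos m hm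
  exact isIrrCharacter_pow_aux φ m hφ hχ

/-- For `m` prime to `|G|`, `g ↦ χ (g ^ m)` is a character when `χ` is. -/
theorem isCharacter_pow {G : Type u} [Group G] [Finite G] {χ : G → ℂ} (hχ : IsCharacter G χ) (m : ℕ)
    (hm : m.Coprime (Nat.card G)) : IsCharacter G (fun g => χ (g ^ m)) := by
  cases nonempty_fintype G
  obtain ⟨c, rfl⟩ := isCharacter_iff.mp hχ
  have : (fun g => (∑ χ : IrrCharacter G, (c χ : ℂ) • (χ : G → ℂ)) (g ^ m)) =
      ∑ χ : IrrCharacter G, c χ • (fun g => (χ : G → ℂ) (g ^ m)) := by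
    ext g
    simp
  rw [this]
  apply isCharacter_sum
  intro χ _
  exact isCharacter_nsmul (isCharacter_of_irr (isIrrCharacter_pow χ.2 m hm)) _

end Cfsg.Agent.Lib.Helper10
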