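import Mathlib
import Cfsg.Agent.CharLib.L.BurnsideZero
import Cfsg.Agent.CharLib.Eigen

/-!
Galois averaging for a single character value, and vanishing at `p`-elements.
-/

set_option autoImplicit false

namespace Cfsg.Agent.Lib.Helper10

open Module Cfsg Cfsg.Agent.CharLib Cfsg.Agent.CharLib.L
open scoped ComplexConjugate

section

variable {G : Type*} [Group G] [Finite G]

theorem char_pow_eq_zero_iff {χ : G → ℂ} (hχ : IsCharacter G χ) (g : G) (m : ℕ) (hm : m.Coprime (Nat.card G)) :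
    χ (g ^ m) = 0 ↔ χ g = 0 := by
  obtain ⟨n, ρ, rfl⟩ := hχ
  obtain ⟨φ, hφ⟩ := exists_algHom_of_coprime (Nat.card G) Nat.card_pos m hm
  let y : QBar := ⟨ρ.character g, character_mem_QBar ρ g⟩
  have h1 : φ y = ρ.character (g ^ m) :=
    algHom_character ρ g (Nat.card G) Nat.card_pos pow_card_eq_one' φ m hφ y rfl
  rw [← h1, map_eq_zero]
  constructor
  · intro h; exact congrArg Subtype.val h
  · intro h; exact Subtype.ext h

theorem char_pow_normSq_eq {χ : G → ℂ} (hχ : IsCharacter G χ) (g : G) (m : ℕ) (hm : m.Coprime (Nat.card G))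
    (d : ℕ) (h : χ g * conj (χ g) = d) : χ (g ^ m) * conj (χ (g ^ m)) = d := by
  rw [← isCharacter_inv hχ] at h ⊢
  obtain ⟨n, ρ, rfl⟩ := hχ
  obtain ⟨φ, hφ⟩ := exists_algHom_of_coprime (Nat.card G) Nat.card_pos m hm
  let y : QBar := ⟨ρ.character g, character_mem_QBar ρ g⟩
  let y' : QBar := ⟨ρ.character g⁻¹, character_mem_QBar ρ g⁻¹⟩
  have h1 : φ y = ρ.character (g ^ m) :=
    algHom_character ρ g (Nat.card G) Nat.card_pos pow_card_eq_one' φ m hφ y rfl
  have h2 : φ y' = ρ.character (g⁻¹ ^ m) :=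
    algHom_character ρ g⁻¹ (Nat.card G) Nat.card_pos pow_card_eq_one' φ m hφ y' rfl
  have h3 : y * y' = (d : QBar) := by
    apply Subtype.ext
    simpa using h
  rw [← inv_pow, ← h1, ← h2, ← map_mul, h3, map_natCast]

theorem card_units_le_sum_normSq_of_ne {χ : G → ℂ} (hχ : IsCharacter G χ) (g : G) (hne : χ g ≠ 0) :
    (Fintype.card (ZMod (Nat.card G))ˣ : ℝ) ≤
      ∑ u : (ZMod (Nat.card G))ˣ, Complex.normSq (χ (g ^ (u : ZMod (Nat.card G)).val)) := by
  classical
  have hne' : ∀ u : (ZMod (Nat.card G))ˣ, χ (g ^ (u : ZMod (Nat.card G)).val) ≠ 0 := by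
    intro u h
    exact hne ((char_pow_eq_zero_iff hχ g _ (ZMod.val_coe_unit_coprime u)).1 h)
  obtain ⟨k, ρ, rfl⟩ := hχ
  set n := Nat.card G with hn
  have hn0 : 0 < n := Nat.card_pos
  haveI : NeZero n := ⟨hn0.ne'⟩
  have hgn : ∀ x : G, x ^ n = 1 := fun x => pow_card_eq_one'
  have hmod : ∀ (x : G) (k : ℕ), x ^ (k % n) = x ^ k := fun x k => pow_mod_natCard x k
  refine card_le_sum_of_one_le_prod _ (fun u => Complex.normSq_pos.mpr (hne' _)) ?_
  let y : (ZMod n)ˣ → QBar := fun u => ⟨ρ.character (g ^ (u : ZMod n).val), character_mem_QBar ρ _⟩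
  let P : QBar := ∏ u, y u
  have hPc : (P : ℂ) = ∏ u : (ZMod n)ˣ, ρ.character (g ^ (u : ZMod n).val) := by
    simp [P, y]
  have hfix : ∀ φ : QBar →ₐ[ℚ] ℂ, φ P = (P : ℂ) := by
    intro φ
    obtain ⟨m, hm, hφ⟩ := exists_pow_of_algHom n hn0 φ
    let um : (ZMod n)ˣ := ZMod.unitOfCoprime m hm
    have h1 : ∀ u : (ZMod n)ˣ, φ (y u) = ρ.character (g ^ ((u * um : (ZMod n)ˣ) : ZMod n).val) := by
      intro u
      rw [algHom_character ρ (g ^ (u : ZMod n).val) n hn0
        (hgn _) φ m hφ (y u) rfl]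
      congr 1
      rw [← pow_mul, Units.val_mul, ZMod.val_mul, ZMod.coe_unitOfCoprime, ZMod.val_natCast, hmod]
      rw [← hmod g ((u : ZMod n).val * m), ← hmod g ((u : ZMod n).val * (m % n)), Nat.mul_mod,
        Nat.mul_mod (u : ZMod n).val (m % n), Nat.mod_mod]
    rw [hPc]
    simp only [P, map_prod, h1]
    exact Fintype.prod_equiv (Equiv.mulRight um) _ _ (fun u => rfl)
  obtain ⟨q, hq⟩ := exists_rat_of_fixed P hfix
  have hint : IsIntegral ℤ (P : ℂ) := by
    rw [hPc]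
    exact IsIntegral.prod _ fun u _ => isIntegral_character ρ _
  obtain ⟨k, hk⟩ := exists_int_of_isIntegral_of_rat hint hq
  have hPne : (P : ℂ) ≠ 0 := by
    rw [hPc]
    exact Finset.prod_ne_zero_iff.mpr fun u _ => hne' _
  have hk0 : k ≠ 0 := by
    rintro rfl
    apply hPne; rw [hk]; simp
  have hns : Complex.normSq (P : ℂ) = ∏ u : (ZMod n)ˣ, Complex.normSq (ρ.character (g ^ (u : ZMod n).val)) := by
    rw [hPc, map_prod]
  rw [← hns, hk, Complex.normSq_intCast]
  have : (1 : ℤ) ≤ k * k := by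
    have := Int.one_le_abs hk0
    have h2 : k * k = |k| * |k| := (abs_mul_abs_self k).symm
    rw [h2]; nlinarith
  exact_mod_cast this

/-- a character vanishing at a `p`-element has degree divisible by `p` -/
theorem dvd_degree_of_vanish_pElement (p : ℕ) [hp : Fact p.Prime] {χ : G → ℂ} (hχ : IsCharacter G χ) (g : G)
    (j : ℕ) (hg : orderOf g = p ^ j) (h0 : χ g = 0) : ∃ d : ℕ, χ 1 = d ∧ p ∣ d := by
  classical
  obtain ⟨n, ρ, rfl⟩ := hχ
  refine ⟨finrank ℂ (Fin n → ℂ), Representation.char_one ρ, ?_⟩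
  cases j with
  | zero =>
    rw [pow_zero, orderOf_eq_one_iff] at hg
    rw [hg, Representation.char_one] at h0
    have : finrank ℂ (Fin n → ℂ) = 0 := by exact_mod_cast h0
    rw [this]; exact dvd_zero p
  | succ j =>
    obtain ⟨b, μ, hμ, -, hsum⟩ := character_eq_sum_eigen ρ g
    have hq0 : p ^ (j + 1) ≠ 0 := pow_ne_zero _ hp.out.ne_zero
    have hζ := Complex.isPrimitiveRoot_exp (p ^ (j + 1)) hq0
    set ζ : ℂ := Complex.exp (2 * Real.pi * Complex.I / (p ^ (j + 1) : ℕ)) with hζdef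
    have hk : ∀ i, ∃ k : ℕ, ζ ^ k = μ i := by
      intro i
      have h1 := hμ i
      rw [hg] at h1
      haveI : NeZero (p ^ (j + 1)) := ⟨hq0⟩
      obtain ⟨k, -, hk⟩ := hζ.eq_pow_of_pow_eq_one h1
      exact ⟨k, hk⟩
    choose k hk using hk
    let f : Polynomial ℤ := ∑ i, Polynomial.X ^ k i
    have hf : Polynomial.aeval ζ f = 0 := by
      simp only [f, map_sum, map_pow, Polynomial.aeval_X, hk]
      rw [← hsum, h0]
    have hdvd : Polynomial.cyclotomic (p ^ (j + 1)) ℤ ∣ f := by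
      rw [Polynomial.cyclotomic_eq_minpoly hζ (Nat.pos_of_ne_zero hq0)]
      exact minpoly.isIntegrallyClosed_dvd (hζ.isIntegral (Nat.pos_of_ne_zero hq0)) hf
    obtain ⟨h, hh⟩ := hdvd
    have h1 := congrArg (Polynomial.eval 1) hh
    rw [Polynomial.eval_mul, Polynomial.eval_one_cyclotomic_prime_pow] at h1
    simp only [f, Polynomial.eval_finset_sum, Polynomial.eval_pow, Polynomial.eval_X, one_pow, Finset.sum_const,
      Finset.card_univ, Fintype.card_fin, nsmul_eq_mul, mul_one] at h1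
    have h2 : (p : ℤ) ∣ (finrank ℂ (Fin n → ℂ) : ℤ) := ⟨_, h1⟩
    exact_mod_cast h2

end

end Cfsg.Agent.Lib.Helper10
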