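import Mathlib
import Cfsg.Agent.H1.Glauberman
import Cfsg.Agent.Lib.Helper16.MinOver

/-! Glauberman's lemma for two compatible actions. -/

set_option autoImplicit false
set_option linter.style.haveILetI false

namespace Cfsg.Agent.Lib.Helper10

open Cfsg

theorem glauberman_sub {P X : Type*} [Group P] [Finite P] [MulAction P X] [Nonempty X]
    (K H : Subgroup P) (hn : H ≤ Subgroup.normalizer (K : Set P))
    (hcop : (Nat.card K).Coprime (Nat.card H))
    (hsolv : Group.IsSolvable K ∨ Group.IsSolvable H)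
    (htrans : ∀ x y : X, ∃ k ∈ K, k • x = y) : ∃ x : X, ∀ h ∈ H, h • x = x := by
  set T := K ⊔ H with hT
  have hKT : K ≤ T := le_sup_left
  have hHT : H ≤ T := le_sup_right
  haveI : (K.subgroupOf T).Normal :=
    (Subgroup.normal_subgroupOf_iff_le_normalizer hKT).2 (sup_le Subgroup.le_normalizer hn)
  have cK : Nat.card (K.subgroupOf T) = Nat.card K :=
    Nat.card_congr (Subgroup.subgroupOfEquivOfLe hKT).toEquiv
  have cH : Nat.card (H.subgroupOf T) = Nat.card H :=
    Nat.card_congr (Subgroup.subgroupOfEquivOfLe hHT).toEquiv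
  have hc : Subgroup.IsComplement' (K.subgroupOf T) (H.subgroupOf T) := by
    apply Subgroup.isComplement'_of_disjoint_and_mul_eq_univ
    · exact Subgroup.disjoint_of_coprime_natCard (by rw [cK, cH]; exact hcop)
    · rw [Set.eq_univ_iff_forall]
      rintro ⟨x, hx⟩
      obtain ⟨k, hk, h, hh, rfl⟩ := (Cfsg.Agent.Lib.Helper16.mem_sup_of_le_normalizer hn).1 hx
      exact ⟨⟨k, hKT hk⟩, hk, ⟨h, hHT hh⟩, hh, rfl⟩
  obtain ⟨⟨x, hx⟩, -⟩ := Cfsg.H1.glauberman (G := T) (X := X) (K.subgroupOf T) (H.subgroupOf T) hc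
    (by rw [hc.symm.index_eq_card, cK, cH]; exact hcop)
    (by
      rcases hsolv with h | h
      · left
        exact Group.isSolvable_of_isSolvable_injective
          (f := (Subgroup.subgroupOfEquivOfLe hKT).toMonoidHom)
          (Subgroup.subgroupOfEquivOfLe hKT).injective
      · right
        exact Group.isSolvable_of_isSolvable_injective
          (f := (Subgroup.subgroupOfEquivOfLe hHT).toMonoidHom)
          (Subgroup.subgroupOfEquivOfLe hHT).injective)
    (by
      refine ⟨fun x y => ?_⟩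
      obtain ⟨k, hk, hky⟩ := htrans x y
      exact ⟨⟨⟨k, hKT hk⟩, hk⟩, hky⟩)
  exact ⟨x, fun h hh => hx ⟨h, hHT hh⟩ hh⟩

/-- Glauberman's lemma: `A` acts transitively on `X` (through `A/N₀`), `B` acts on `X`
compatibly, `([A : N₀], |B|) = 1`, and one of `A/N₀`, `B` is solvable.  Then `B` fixes a point. -/
theorem glauberman_two {A B X : Type*} [Group A] [Group B] [Finite B] [Finite X] [Nonempty X]
    (φ : A →* Equiv.Perm X) (ψ : B →* Equiv.Perm X)
    (hcompat : ∀ (b : B) (a : A), ∃ a' : A, ψ b * φ a = φ a' * ψ b)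
    (N₀ : Subgroup A) [N₀.Normal] (hN₀ : N₀ ≤ φ.ker)
    (hcop : (N₀.index).Coprime (Nat.card B))
    (hsolv : Group.IsSolvable (A ⧸ N₀) ∨ Group.IsSolvable B)
    (htrans : ∀ x y : X, ∃ a : A, φ a x = y) : ∃ x : X, ∀ b : B, ψ b x = x := by
  have h1 : Nat.card φ.range ∣ N₀.index := by
    rw [← Subgroup.index_ker]
    exact Subgroup.index_dvd_of_le hN₀
  have h2 : Nat.card ψ.range ∣ Nat.card B := Subgroup.card_range_dvd ψ
  have h3 : ψ.range ≤ Subgroup.normalizer (φ.range : Set (Equiv.Perm X)) := by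
    rintro _ ⟨b, rfl⟩
    rw [Subgroup.mem_normalizer_iff]
    intro k
    constructor
    · rintro ⟨a, rfl⟩
      obtain ⟨a', ha'⟩ := hcompat b a
      exact ⟨a', by rw [ha']; group⟩
    · rintro ⟨a, ha⟩
      obtain ⟨a', ha'⟩ := hcompat b⁻¹ a
      refine ⟨a', ?_⟩
      have h3 : k = ψ b⁻¹ * φ a * ψ b := by
        rw [ha, map_inv]; group
      rw [h3, ha', map_inv]
      group
  have h4 : Group.IsSolvable φ.range ∨ Group.IsSolvable ψ.range := by
    rcases hsolv with h | h
    · left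
      have hle : N₀ ≤ φ.rangeRestrict.ker := by
        rw [MonoidHom.ker_rangeRestrict]
        exact hN₀
      refine Group.isSolvable_of_surjective (f := QuotientGroup.lift N₀ φ.rangeRestrict hle) ?_
      intro y
      obtain ⟨a, ha⟩ := φ.rangeRestrict_surjective y
      exact ⟨(a : A ⧸ N₀), ha⟩
    · right
      exact Group.isSolvable_of_surjective ψ.rangeRestrict_surjective
  have h5 : ∀ x y : X, ∃ k ∈ φ.range, k • x = y := by
    intro x y
    obtain ⟨a, ha⟩ := htrans x y
    exact ⟨φ a, ⟨a, rfl⟩, ha⟩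
  obtain ⟨x, hx⟩ := glauberman_sub (P := Equiv.Perm X) (X := X) φ.range ψ.range h3
    (Nat.Coprime.of_dvd h1 h2 hcop) h4 h5
  exact ⟨x, fun b => hx (ψ b) ⟨b, rfl⟩⟩

end Cfsg.Agent.Lib.Helper10
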