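import Mathlib
import Cfsg.Agent.Lib.Helper2.GlauAct
import Cfsg.Agent.Lib.Helper10.GlauPerm
import Cfsg.Agent.Lib.Helper10.CliffConj
import Cfsg.Agent.H6.CliffCorr

/-! Actions on the irreducible constituents of an invariant class function. -/

set_option autoImplicit false
set_option linter.style.haveILetI false

namespace Cfsg.Agent.Lib.Helper10

open Cfsg Cfsg.Agent.CharLib Cfsg.Agent.Lib.Helper2

section

variable {Γ : Type*} [Group Γ] {N T : Subgroup Γ} [Fintype N]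

theorem classInner_irrConj (hT : Nrm N T) {f : N → ℂ} (hf : SInv N T f) (t : T)
    (θ : IrrCharacter N) :
    classInner f (irrConj hT t θ : N → ℂ) = classInner f (θ : N → ℂ) := by
  have h1 : f = fun n => f ((cjEquiv hT t).symm n) := by
    funext n
    exact (hf.apply_cjEquiv_symm hT t n).symm
  conv_lhs => rw [h1]
  exact H6.classInner_comp_mulEquiv (cjEquiv hT t).symm f θ

/-- the action on the irreducible constituents of an invariant function -/
@[reducible] def consAct (hT : Nrm N T) {f : N → ℂ} (hf : SInv N T f) :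
    MulAction T {θ : IrrCharacter N // classInner f (θ : N → ℂ) ≠ 0} where
  smul t θ := ⟨irrConj hT t θ.1, by rw [classInner_irrConj hT hf]; exact θ.2⟩
  one_smul θ := Subtype.ext ((irrAct hT).one_smul θ.1)
  mul_smul s t θ := Subtype.ext ((irrAct hT).mul_smul s t θ.1)

end

/-- Clifford: constituents are conjugate (`N ≤ G` subgroups of an ambient group). -/
theorem sub_clifford_conj {Γ : Type*} [Group Γ] (N G : Subgroup Γ) (hNG : N ≤ G)
    [hN' : (N.subgroupOf G).Normal] [Fintype G] [Fintype N] {ψ : G → ℂ}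
    (hψ : IsIrrCharacter G ψ) {ϑ ϑ₂ : N → ℂ}
    (hϑ : IsIrrCharacter N ϑ) (hϑ₂ : IsIrrCharacter N ϑ₂)
    (hcon : classInner (fun n : N => ψ ⟨(n : Γ), hNG n.2⟩) ϑ ≠ 0)
    (hcon₂ : classInner (fun n : N => ψ ⟨(n : Γ), hNG n.2⟩) ϑ₂ ≠ 0) :
    ∃ t : G, ∀ n n' : N, (n' : Γ) = t * n * (t : Γ)⁻¹ → ϑ₂ n = ϑ n' := by
  classical
  letI : Fintype (N.subgroupOf G) := Fintype.ofFinite _
  let e : N.subgroupOf G ≃* N := Subgroup.subgroupOfEquivOfLe hNG
  let ϑ' : N.subgroupOf G → ℂ := fun a => ϑ (e a)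
  let ϑ₂' : N.subgroupOf G → ℂ := fun a => ϑ₂ (e a)
  have hϑ' : IsIrrCharacter (N.subgroupOf G) ϑ' :=
    isIrrCharacter_comp_of_surjective hϑ e.toMonoidHom e.surjective
  have hϑ₂' : IsIrrCharacter (N.subgroupOf G) ϑ₂' :=
    isIrrCharacter_comp_of_surjective hϑ₂ e.toMonoidHom e.surjective
  have hres : (fun n : N.subgroupOf G => ψ n) =
      fun a => (fun n : N => ψ ⟨(n : Γ), hNG n.2⟩) (e a) := by
    funext a
    rfl
  have hci : classInner (fun n : N.subgroupOf G => ψ n) ϑ' =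
      classInner (fun n : N => ψ ⟨(n : Γ), hNG n.2⟩) ϑ := by
    rw [hres]
    exact H6.classInner_comp_mulEquiv e (fun n : N => ψ ⟨(n : Γ), hNG n.2⟩) ϑ
  have hci₂ : classInner (fun n : N.subgroupOf G => ψ n) ϑ₂' =
      classInner (fun n : N => ψ ⟨(n : Γ), hNG n.2⟩) ϑ₂ := by
    rw [hres]
    exact H6.classInner_comp_mulEquiv e (fun n : N => ψ ⟨(n : Γ), hNG n.2⟩) ϑ₂
  obtain ⟨g, hg⟩ := clifford_conj (N.subgroupOf G) hN' hψ hϑ' hϑ₂' (by rw [hci]; exact hcon)
    (by rw [hci₂]; exact hcon₂)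
  refine ⟨g, fun n n' h => ?_⟩
  have h1 := congrFun hg (e.symm n)
  simp only [ϑ₂', MulEquiv.apply_symm_apply] at h1
  rw [h1, H2.conjFun_apply]
  show ϑ (e _) = ϑ n'
  refine congrArg ϑ (Subtype.ext ?_)
  rw [h]
  rfl

end Cfsg.Agent.Lib.Helper10
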