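import Mathlib
import Cfsg.Agent.H25.FS
import Cfsg.Agent.H1.Small2
import Cfsg.Agent.S0895
import Cfsg.Agent.S1487
import Cfsg.Agent.Lib.Helper10.LinIrr
import Cfsg.Agent.Lib.Helper16.MinOver

/-! Twisting irreducible characters by linear characters; real characters of 2-groups. -/

set_option autoImplicit false
set_option linter.style.haveILetI false

namespace Cfsg.Agent.Lib.Helper10

open Cfsg Cfsg.Agent.CharLib Cfsg.Agent.Lib.Helper23
open scoped ComplexConjugate

universe u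

section twist

variable {G : Type u} [Group G] [Fintype G]

theorem hom_mul_conj (l : G →* ℂˣ) (g : G) :
    ((l g : ℂˣ) : ℂ) * conj ((l g : ℂˣ) : ℂ) = 1 := by
  rw [Complex.mul_conj, Complex.normSq_eq_norm_sq, lin_norm]
  simp

/-- the twist of an irreducible character by a linear character -/
noncomputable def ltw (l : G →* ℂˣ) (χ : IrrCharacter G) : IrrCharacter G :=
  ⟨fun g => ((l g : ℂˣ) : ℂ) * χ.1 g, by
    refine isIrrCharacter_of_norm_one
      (isCharacter_mul (isCharacter_of_irr (isIrrCharacter_of_hom l))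
        (isCharacter_of_irr χ.2)) ?_
    rw [← classInner_irr_self χ.2, classInner_def, classInner_def]
    congr 1
    refine Finset.sum_congr rfl fun g _ => ?_
    show ((l g : ℂˣ) : ℂ) * χ.1 g * conj (((l g : ℂˣ) : ℂ) * χ.1 g) = χ.1 g * conj (χ.1 g)
    rw [map_mul]
    calc ((l g : ℂˣ) : ℂ) * χ.1 g * (conj ((l g : ℂˣ) : ℂ) * conj (χ.1 g))
        = (((l g : ℂˣ) : ℂ) * conj ((l g : ℂˣ) : ℂ)) * (χ.1 g * conj (χ.1 g)) := by ring
      _ = χ.1 g * conj (χ.1 g) := by rw [hom_mul_conj, one_mul]⟩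

theorem ltw_apply (l : G →* ℂˣ) (χ : IrrCharacter G) (g : G) :
    (ltw l χ : G → ℂ) g = ((l g : ℂˣ) : ℂ) * (χ : G → ℂ) g := rfl

theorem ltw_one (χ : IrrCharacter G) : ltw 1 χ = χ := by
  apply Subtype.ext
  funext g
  show ((((1 : G →* ℂˣ) g : ℂˣ)) : ℂ) * χ.1 g = χ.1 g
  simp

theorem ltw_mul (a b : G →* ℂˣ) (χ : IrrCharacter G) : ltw (a * b) χ = ltw a (ltw b χ) := by
  apply Subtype.ext
  funext g
  show ((((a * b : G →* ℂˣ) g : ℂˣ)) : ℂ) * χ.1 g =
    ((a g : ℂˣ) : ℂ) * (((b g : ℂˣ) : ℂ) * χ.1 g)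
  simp [mul_assoc]

theorem ltw_comm (a b : G →* ℂˣ) (χ : IrrCharacter G) : ltw a (ltw b χ) = ltw b (ltw a χ) := by
  apply Subtype.ext
  funext g
  show ((a g : ℂˣ) : ℂ) * (((b g : ℂˣ) : ℂ) * χ.1 g) =
    ((b g : ℂˣ) : ℂ) * (((a g : ℂˣ) : ℂ) * χ.1 g)
  ring

theorem ltw_injective (a : G →* ℂˣ) : Function.Injective (ltw a) := by
  intro χ ψ h
  apply Subtype.ext
  funext g
  have h1 : ((a g : ℂˣ) : ℂ) * χ.1 g = ((a g : ℂˣ) : ℂ) * ψ.1 g :=
    congrFun (congrArg Subtype.val h) g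
  exact mul_left_cancel₀ (Units.ne_zero _) h1

/-- the stabiliser of an irreducible character among the linear characters -/
def ltwStab (χ : IrrCharacter G) : Subgroup (G →* ℂˣ) where
  carrier := {l | ltw l χ = χ}
  one_mem' := ltw_one χ
  mul_mem' := by
    intro a b ha hb
    show ltw (a * b) χ = χ
    rw [ltw_mul, show ltw b χ = χ from hb, show ltw a χ = χ from ha]
  inv_mem' := by
    intro a ha
    show ltw a⁻¹ χ = χ
    apply ltw_injective a
    rw [← ltw_mul, mul_inv_cancel a, ltw_one, show ltw a χ = χ from ha]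

theorem mem_ltwStab {χ : IrrCharacter G} {l : G →* ℂˣ} : l ∈ ltwStab χ ↔ ltw l χ = χ := Iff.rfl

theorem ltwStab_ltw (a : G →* ℂˣ) (χ : IrrCharacter G) : ltwStab (ltw a χ) = ltwStab χ := by
  ext b
  rw [mem_ltwStab, mem_ltwStab, ltw_comm]
  exact ⟨fun h => ltw_injective a h, fun h => by rw [h]⟩

theorem charDegree_ltw (l : G →* ℂˣ) (χ : IrrCharacter G) :
    charDegree (ltw l χ : G → ℂ) = charDegree (χ : G → ℂ) := by
  unfold charDegree
  rw [ltw_apply]
  simp

end twist

/-- in a `2`-group a proper subgroup misses an element whose square it contains -/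
theorem exists_notMem_sq_mem {L : Type*} [Group L] (hL : IsPGroup 2 L) (S : Subgroup L)
    (hS : S ≠ ⊤) : ∃ μ : L, μ ∉ S ∧ μ * μ ∈ S := by
  classical
  obtain ⟨l, hl⟩ : ∃ l : L, l ∉ S := by
    by_contra h
    push Not at h
    exact hS (eq_top_iff.2 fun x _ => h x)
  have hex : ∃ k : ℕ, l ^ 2 ^ k ∈ S := by
    obtain ⟨k, hk⟩ := hL l
    exact ⟨k, hk ▸ S.one_mem⟩
  have h0 : Nat.find hex ≠ 0 := by
    intro h
    have := Nat.find_spec hex
    rw [h] at this
    simp at this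
    exact hl this
  obtain ⟨j, hj⟩ := Nat.exists_eq_succ_of_ne_zero h0
  refine ⟨l ^ 2 ^ j, Nat.find_min hex (by omega), ?_⟩
  have := Nat.find_spec hex
  rw [hj, Nat.succ_eq_add_one, pow_succ, pow_mul, sq] at this
  exact this

/-- the sign character of a subgroup of index two -/
noncomputable def signHom {G : Type*} [Group G] (M : Subgroup G) (hM : M.index = 2) : G →* ℂˣ := by
  classical
  exact
  { toFun := fun g => if g ∈ M then 1 else -1
    map_one' := by simp [M.one_mem]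
    map_mul' := by
      intro a b
      have := Subgroup.mul_mem_iff_of_index_two hM (a := a) (b := b)
      by_cases ha : a ∈ M <;> by_cases hb : b ∈ M <;> simp_all }

open Classical in
theorem signHom_apply {G : Type*} [Group G] (M : Subgroup G) (hM : M.index = 2) (g : G) :
    signHom M hM g = if g ∈ M then 1 else -1 := rfl

theorem signHom_eq_one_iff {G : Type*} [Group G] (M : Subgroup G) (hM : M.index = 2) (g : G) :
    signHom M hM g = 1 ↔ g ∈ M := by
  classical
  rw [signHom_apply]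
  by_cases h : g ∈ M
  · simp [h]
  · simp only [h, if_false, iff_false]
    intro h1
    have h2 := congrArg (Units.val) h1
    norm_num at h2

theorem signHom_mul_self {G : Type*} [Group G] (M : Subgroup G) (hM : M.index = 2) :
    signHom M hM * signHom M hM = 1 := by
  classical
  ext g
  rw [MonoidHom.mul_apply, signHom_apply]
  by_cases h : g ∈ M <;> simp [h]

theorem zmod2_one_add_one : (1 : ZMod 2) + 1 = 0 := by decide

/-- the linear characters of order at most two -/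
def lin2 (G : Type*) [Group G] : Subgroup (G →* ℂˣ) where
  carrier := {l | l * l = 1}
  one_mem' := by simp
  mul_mem' := by
    intro a b ha hb
    show a * b * (a * b) = 1
    rw [mul_mul_mul_comm a b a b, show a * a = 1 from ha, show b * b = 1 from hb]
    exact one_mul (1 : G →* ℂˣ)
  inv_mem' := by
    intro a ha
    show a⁻¹ * a⁻¹ = 1
    rw [← mul_inv a a, show a * a = 1 from ha]
    exact inv_one (G := G →* ℂˣ)

section two

variable {G : Type u} [Group G] [Fintype G]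

theorem isPGroup_lin {p : ℕ} [Fact p.Prime] (hG : IsPGroup p G) : IsPGroup p (G →* ℂˣ) := by
  intro l
  obtain ⟨n, hn⟩ := IsPGroup.iff_card.1 hG
  refine ⟨n, ?_⟩
  ext g
  rw [MonoidHom.pow_apply, ← map_pow, ← hn, pow_card_eq_one', map_one]
  rfl

open Classical in
/-- If no real irreducible character of degree two of a `2`-group is fixed by all linear
characters, the number of such characters is even. -/
theorem even_card_real_two (hG : IsPGroup 2 G)
    (h : ∀ χ : IrrCharacter G, charDegree (χ : G → ℂ) = 2 → (∀ g, ((χ : G → ℂ) g).im = 0) →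
      ∃ l : G →* ℂˣ, ltw l χ ≠ χ) :
    Even (Finset.univ.filter (fun χ : IrrCharacter G =>
      charDegree (χ : G → ℂ) = 2 ∧ ∀ g, ((χ : G → ℂ) g).im = 0)).card := by
  haveI : Fact (Nat.Prime 2) := ⟨Nat.prime_two⟩
  have hL := isPGroup_lin hG
  have hμ : ∀ S : Subgroup (G →* ℂˣ), ∃ μ : G →* ℂˣ, S ≠ ⊤ → μ ∉ S ∧ μ * μ ∈ S := by
    intro S
    by_cases hS : S = ⊤
    · exact ⟨1, fun h => absurd hS h⟩
    · obtain ⟨μ, h1, h2⟩ := exists_notMem_sq_mem hL S hS
      exact ⟨μ, fun _ => ⟨h1, h2⟩⟩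
  choose μ hμ using hμ
  have hne : ∀ χ : IrrCharacter G, charDegree (χ : G → ℂ) = 2 →
      (∀ g, ((χ : G → ℂ) g).im = 0) → ltwStab χ ≠ ⊤ := by
    intro χ h1 h2 h3
    obtain ⟨l, hl⟩ := h χ h1 h2
    have : l ∈ ltwStab χ := by rw [h3]; trivial
    exact hl this
  have hsum : ∑ χ ∈ Finset.univ.filter (fun χ : IrrCharacter G =>
      charDegree (χ : G → ℂ) = 2 ∧ ∀ g, ((χ : G → ℂ) g).im = 0), (1 : ZMod 2) = 0 := by
    refine Finset.sum_involution
      (fun χ _ => ltw (μ (ltwStab χ)) χ) ?_ ?_ ?_ ?_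
    · intro χ _
      exact zmod2_one_add_one
    · intro χ hχ _ h1
      rw [Finset.mem_filter] at hχ
      exact (hμ _ (hne χ hχ.2.1 hχ.2.2)).1 h1
    · intro χ hχ
      rw [Finset.mem_filter] at hχ ⊢
      refine ⟨Finset.mem_univ _, (charDegree_ltw _ χ).trans hχ.2.1, ?_⟩
      intro g
      have h1 := (hμ _ (hne χ hχ.2.1 hχ.2.2)).2
      set m := μ (ltwStab χ) with hm
      have h2 : ((m g : ℂˣ) : ℂ) * ((m g : ℂˣ) : ℂ) * (χ : G → ℂ) g = (χ : G → ℂ) g := by
        have := congrFun (congrArg Subtype.val (mem_ltwStab.1 h1)) g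
        rw [← Units.val_mul, ← MonoidHom.mul_apply]
        exact this
      show (((m g : ℂˣ) : ℂ) * (χ : G → ℂ) g).im = 0
      by_cases h0 : (χ : G → ℂ) g = 0
      · rw [h0]; simp
      · have h3 : ((m g : ℂˣ) : ℂ) * ((m g : ℂˣ) : ℂ) = 1 := by
          apply mul_right_cancel₀ h0
          rw [h2, one_mul]
        rcases mul_self_eq_one_iff.1 h3 with h4 | h4 <;> rw [h4] <;> simp [hχ.2.2 g]
    · intro χ hχ
      rw [Finset.mem_filter] at hχ
      show ltw (μ (ltwStab (ltw (μ (ltwStab χ)) χ))) (ltw (μ (ltwStab χ)) χ) = χ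
      rw [ltwStab_ltw, ← ltw_mul]
      exact (hμ _ (hne χ hχ.2.1 hχ.2.2)).2
  rw [Finset.sum_const, nsmul_eq_mul, mul_one] at hsum
  exact (ZMod.natCast_eq_zero_iff_even).1 hsum

theorem card_lin_le_index : Nat.card (G →* ℂˣ) ≤ (commutator G).index := by
  refine le_trans ?_ (card_hom_agree_le (commutator G) (1 : G →* ℂˣ))
  refine Nat.card_le_card_of_injective
    (fun l : G →* ℂˣ => (⟨l, fun x hx => hom_eq_one_of_mem_commutator l hx⟩ :
      {l : G →* ℂˣ // ∀ x ∈ commutator G, l x = (1 : G →* ℂˣ) x})) ?_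
  intro a b hab
  exact congrArg Subtype.val hab

open Classical in
theorem card_real_lin :
    (Finset.univ.filter (fun χ : IrrCharacter G =>
      charDegree (χ : G → ℂ) = 1 ∧ ∀ g, ((χ : G → ℂ) g).im = 0)).card =
    Nat.card (lin2 G) := by
  rw [← Fintype.card_subtype, ← Nat.card_eq_fintype_card]
  symm
  refine Nat.card_congr (Equiv.ofBijective
    (fun l : (lin2 G) =>
      (⟨⟨fun g => ((l.1 g : ℂˣ) : ℂ), isIrrCharacter_of_hom l.1⟩, charDegree_hom l.1, by
        intro g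
        have h1 : l.1 * l.1 = 1 := l.2
        have h2 : ((l.1 g : ℂˣ) : ℂ) * ((l.1 g : ℂˣ) : ℂ) = 1 := by
          rw [← Units.val_mul, ← MonoidHom.mul_apply, h1]
          rfl
        show ((l.1 g : ℂˣ) : ℂ).im = 0
        rcases mul_self_eq_one_iff.1 h2 with h4 | h4 <;> rw [h4] <;> simp⟩ :
      {χ : IrrCharacter G // charDegree (χ : G → ℂ) = 1 ∧ ∀ g, ((χ : G → ℂ) g).im = 0}))
    ⟨?_, ?_⟩)
  · intro a b hab
    apply Subtype.ext
    ext g
    exact congrFun (congrArg (fun z => z.1.1) hab) g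
  · rintro ⟨χ, h1, h2⟩
    have h3 := apply_one_of_charDegree_eq_one χ h1
    refine ⟨⟨homOfLin χ h3, ?_⟩, ?_⟩
    · show homOfLin χ h3 * homOfLin χ h3 = 1
      ext g
      rw [MonoidHom.mul_apply, Units.val_mul]
      have h4 := hom_mul_conj (homOfLin χ h3) g
      rw [Complex.conj_eq_iff_im.2 (by rw [homOfLin_apply]; exact h2 g)] at h4
      rw [h4]
      rfl
    · rfl

open Classical in
theorem four_dvd_card_real_lin (hG : IsPGroup 2 G) (hc : ¬ IsCyclic G) :
    4 ∣ (Finset.univ.filter (fun χ : IrrCharacter G =>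
      charDegree (χ : G → ℂ) = 1 ∧ ∀ g, ((χ : G → ℂ) g).im = 0)).card ∧
    4 ≤ (commutator G).index := by
  haveI : Fact (Nat.Prime 2) := ⟨Nat.prime_two⟩
  have hnt : (⊥ : Subgroup G) ≠ ⊤ := by
    intro h
    apply hc
    haveI : Subsingleton G := Subgroup.subsingleton_iff.1 (subsingleton_of_bot_eq_top h)
    exact isCyclic_of_subsingleton
  obtain ⟨M₁, hM₁, -⟩ := Cfsg.Agent.Lib.Helper16.exists_coatom_ge hnt
  obtain ⟨x, hx⟩ : ∃ x : G, x ∉ M₁ := by
    by_contra h
    push Not at h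
    exact hM₁.1 (eq_top_iff.2 fun x _ => h x)
  have hz : Subgroup.zpowers x ≠ ⊤ := by
    intro h
    apply hc
    refine ⟨x, fun y => ?_⟩
    have : y ∈ (⊤ : Subgroup G) := trivial
    rwa [← h] at this
  obtain ⟨M₂, hM₂, hxM₂⟩ := Cfsg.Agent.Lib.Helper16.exists_coatom_ge hz
  have hne : M₁ ≠ M₂ := by
    rintro rfl
    exact hx (hxM₂ (Subgroup.mem_zpowers x))
  have i₁ := (Cfsg.H1.coatom_of_pgroup hG M₁ hM₁).2
  have i₂ := (Cfsg.H1.coatom_of_pgroup hG M₂ hM₂).2
  set L₂ := (lin2 G) with hL₂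
  have hs : ∀ (M : Subgroup G) (hM : M.index = 2), signHom M hM ∈ L₂ := by
    intro M hM
    exact signHom_mul_self M hM
  have hs1 : ∀ (M : Subgroup G) (hM : M.index = 2), IsCoatom M → signHom M hM ≠ 1 := by
    intro M hM hco h
    apply hco.1
    rw [eq_top_iff]
    intro g _
    rw [← signHom_eq_one_iff M hM, h]
    rfl
  have hs12 : signHom M₁ i₁ ≠ signHom M₂ i₂ := by
    intro h
    apply hne
    ext g
    rw [← signHom_eq_one_iff M₁ i₁, ← signHom_eq_one_iff M₂ i₂, h]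
  obtain ⟨j, hj⟩ := IsPGroup.iff_card.1 ((isPGroup_lin hG).to_subgroup L₂)
  have hj2 : 2 ≤ j := by
    by_contra hlt
    have : j = 0 ∨ j = 1 := by omega
    rcases this with rfl | rfl
    · have h1 : L₂ = ⊥ := Subgroup.eq_bot_of_card_eq L₂ (by simpa using hj)
      have h2 := hs M₁ i₁
      rw [h1, Subgroup.mem_bot] at h2
      exact hs1 M₁ i₁ hM₁ h2
    · obtain ⟨y, -, hy⟩ := (Nat.card_eq_two_iff' (1 : L₂)).1 (by simpa using hj)
      have h1 := hy ⟨_, hs M₁ i₁⟩ (fun h => hs1 M₁ i₁ hM₁ (congrArg Subtype.val h))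
      have h2 := hy ⟨_, hs M₂ i₂⟩ (fun h => hs1 M₂ i₂ hM₂ (congrArg Subtype.val h))
      exact hs12 (congrArg Subtype.val (h1.trans h2.symm))
  have h4 : 4 ∣ Nat.card L₂ := by
    rw [hj]
    exact pow_dvd_pow 2 hj2
  refine ⟨by rw [card_real_lin]; exact h4, ?_⟩
  refine le_trans ?_ (card_lin_le_index (G := G))
  refine le_trans (Nat.le_of_dvd Nat.card_pos h4) ?_
  exact Nat.card_le_card_of_injective _ Subtype.val_injective

end two

end Cfsg.Agent.Lib.Helper10
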