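import Mathlib
import Cfsg.Agent.Lib.Helper2.GlauOver
import Cfsg.Agent.Lib.Helper10.GlauPerm
import Cfsg.Agent.Lib.Helper10.LinTwist
import Cfsg.Agent.Lib.Helper10.CliffAb
import Cfsg.Agent.H6.CliffCorr

/-! Invariant characters over invariant characters: the case of an abelian quotient. -/

set_option autoImplicit false
set_option linter.style.haveILetI false

namespace Cfsg.Agent.Lib.Helper10

open Cfsg Cfsg.Agent.CharLib Cfsg.Agent.Lib.Helper2
open scoped ComplexConjugate

universe u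

section abs

variable {T : Type u} [Group T] [Fintype T] (N : Subgroup T) [hN : N.Normal] [Fintype N]

theorem sum_classInner_twist (hQ : ∀ a b : T ⧸ N, a * b = b * a) (χ χ' : T → ℂ) :
    ∑ μ : IrrCharacter (T ⧸ N), classInner (twist N μ χ) χ' =
      classInner (fun n : N => χ n) (fun n : N => χ' n) := by
  classical
  simp only [classInner_def, twist]
  rw [← Finset.mul_sum, Finset.sum_comm]
  have h1 : ∀ t : T, ∑ μ : IrrCharacter (T ⧸ N), (μ : T ⧸ N → ℂ) t * χ t * conj (χ' t) =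
      if t ∈ N then (Nat.card (T ⧸ N) : ℂ) * (χ t * conj (χ' t)) else 0 := by
    intro t
    simp only [mul_assoc]
    rw [← Finset.sum_mul, sum_lin hQ]
    by_cases ht : t ∈ N
    · rw [if_pos ((QuotientGroup.eq_one_iff t).2 ht), if_pos ht]
    · rw [if_neg (fun h => ht ((QuotientGroup.eq_one_iff t).1 h)), if_neg ht, zero_mul]
  rw [Finset.sum_congr rfl fun t _ => h1 t, ← Finset.sum_filter,
    Finset.sum_subtype (p := (· ∈ N)) _ (by simp), ← Finset.mul_sum, ← mul_assoc]
  congr 1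
  rw [Subgroup.card_eq_card_quotient_mul_card_subgroup N]
  have h2 : (Nat.card (T ⧸ N) : ℂ) ≠ 0 := by exact_mod_cast Nat.card_pos.ne'
  have h3 : (Nat.card N : ℂ) ≠ 0 := by exact_mod_cast Nat.card_pos.ne'
  push_cast
  field_simp

theorem exists_twist_eq (hQ : ∀ a b : T ⧸ N, a * b = b * a) (χ χ' : IrrCharacter T)
    (h : classInner (fun n : N => (χ : T → ℂ) n) (fun n : N => (χ' : T → ℂ) n) ≠ 0) :
    ∃ μ : IrrCharacter (T ⧸ N), twist N μ χ = χ' := by
  rw [← sum_classInner_twist N hQ] at h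
  obtain ⟨μ, -, hμ⟩ := Finset.exists_ne_zero_of_sum_ne_zero h
  refine ⟨μ, ?_⟩
  by_contra hne
  exact hμ (classInner_irr_ne (isIrrCharacter_twist N hQ μ χ.2) χ'.2 hne)

end abs

/-- two characters with a common irreducible constituent are not orthogonal -/
theorem classInner_ne_zero_of_common {N : Type u} [Group N] [Fintype N] {α β : N → ℂ}
    (hα : IsCharacter N α) (hβ : IsCharacter N β) (θ : IrrCharacter N)
    (h1 : classInner α (θ : N → ℂ) ≠ 0) (h2 : classInner β (θ : N → ℂ) ≠ 0) :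
    classInner α β ≠ 0 := by
  classical
  obtain ⟨m, hm, hm2⟩ := H2.exists_mult hα
  obtain ⟨m', hm', hm2'⟩ := H2.exists_mult hβ
  have h3 : classInner α β = ((∑ φ : IrrCharacter N, m φ * m' φ : ℕ) : ℂ) := by
    conv_lhs => rw [hm]
    rw [classInner_sum_left]
    push_cast
    refine Finset.sum_congr rfl fun φ _ => ?_
    rw [classInner_smul_left, ← classInner_conj_symm, hm2']
    simp
  rw [h3]
  have h4 : m θ ≠ 0 := by
    intro h
    apply h1
    rw [hm2, h]
    simp
  have h5 : m' θ ≠ 0 := by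
    intro h
    apply h2
    rw [hm2', h]
    simp
  have h6 : m θ * m' θ ≤ ∑ φ : IrrCharacter N, m φ * m' φ :=
    Finset.single_le_sum (f := fun φ => m φ * m' φ) (fun _ _ => Nat.zero_le _) (Finset.mem_univ θ)
  have h7 : 0 < m θ * m' θ := Nat.mul_pos (Nat.pos_of_ne_zero h4) (Nat.pos_of_ne_zero h5)
  exact_mod_cast (lt_of_lt_of_le h7 h6).ne'

section rel

variable {Γ : Type*} [Group Γ] {G S N : Subgroup Γ}

/-- linear characters of `G` trivial on `N` -/
def linOver (G N : Subgroup Γ) : Subgroup (G →* ℂˣ) where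
  carrier := {l | ∀ g : G, (g : Γ) ∈ N → l g = 1}
  one_mem' := fun _ _ => rfl
  mul_mem' := by
    intro a b ha hb g hg
    rw [MonoidHom.mul_apply, ha g hg, hb g hg, one_mul]
  inv_mem' := by
    intro a ha g hg
    rw [MonoidHom.inv_apply, ha g hg, inv_one]

theorem resTo_ltw [Fintype G] (hNG : N ≤ G) (l : linOver G N) (χ : IrrCharacter G) :
    resTo hNG (ltw l.1 χ : G → ℂ) = resTo hNG (χ : G → ℂ) := by
  funext n
  rw [resTo_apply, resTo_apply, ltw_apply, l.2 _ n.2]
  simp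

/-- twisting the characters over `θ` -/
@[reducible] noncomputable def overTwistAct [Fintype G] [Fintype N] (hNG : N ≤ G) (θ : N → ℂ) :
    MulAction (linOver G N) {χ : IrrCharacter G // classInner (resTo hNG (χ : G → ℂ)) θ ≠ 0} where
  smul l χ := ⟨ltw l.1 χ.1, by rw [resTo_ltw]; exact χ.2⟩
  one_smul χ := Subtype.ext (ltw_one χ.1)
  mul_smul a b χ := Subtype.ext (ltw_mul a.1 b.1 χ.1)

/-- conjugating the characters over the invariant character `θ` -/
@[reducible] def overConjAct [Fintype N] (hNG : N ≤ G) (hnG : Nrm G S) (hnN : Nrm N S)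
    (θ : IrrCharacter N) (hθ : SInv N S (θ : N → ℂ)) :
    MulAction S {χ : IrrCharacter G // classInner (resTo hNG (χ : G → ℂ)) (θ : N → ℂ) ≠ 0} where
  smul s χ := ⟨irrConj hnG s χ.1, by
    have := Helper2.classInner_irrConj hNG hnG hnN s χ.1 θ
    rw [(sInv_iff_irrConj hnN θ).1 hθ s] at this
    rw [this]
    exact χ.2⟩
  one_smul χ := Subtype.ext ((irrAct hnG).one_smul χ.1)
  mul_smul a b χ := Subtype.ext ((irrAct hnG).mul_smul a b χ.1)

theorem coprime_card_linOver [Finite G] (hNG : N ≤ G) (hnNG : Nrm N G) {k : ℕ}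
    (hcop : (N.relIndex G).Coprime k) : (Nat.card (linOver G N)).Coprime k := by
  have hN' : (N.subgroupOf G).Normal := by
    refine ⟨fun n hn' g => ?_⟩
    exact Subgroup.mem_subgroupOf.mpr (hnNG g g.2 n (Subgroup.mem_subgroupOf.mp hn'))
  have hexp : ∀ l : linOver G N, l ^ (N.relIndex G) = 1 := by
    intro l
    apply Subtype.ext
    ext g
    have h1 : g ^ (N.relIndex G) ∈ N.subgroupOf G := Subgroup.pow_index_mem _ g
    have h2 := l.2 _ (Subgroup.mem_subgroupOf.1 h1)
    rw [map_pow] at h2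
    rw [Subgroup.coe_pow, MonoidHom.pow_apply, h2]
    rfl
  apply Nat.coprime_of_dvd
  intro p hp hpA hpk
  haveI := Fact.mk hp
  obtain ⟨l, hl⟩ := exists_prime_orderOf_dvd_card' p hpA
  have h3 : p ∣ N.relIndex G := by
    rw [← hl]
    exact orderOf_dvd_of_pow_eq_one (hexp l)
  have h4 := Nat.dvd_gcd h3 hpk
  rw [hcop] at h4
  exact hp.one_lt.ne' (Nat.dvd_one.1 h4)

/-- The abelian case. -/
theorem exists_sInv_over_abelian [Fintype G] [Fintype N] [Finite S] (hNG : N ≤ G)
    (hnG : Nrm G S) (hnNG : Nrm N G) (hnN : Nrm N S)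
    (hab : ∀ x ∈ G, ∀ y ∈ G, x * y * x⁻¹ * y⁻¹ ∈ N)
    (hcop : (N.relIndex G).Coprime (Nat.card S))
    (θ : IrrCharacter N) (hθ : SInv N S (θ : N → ℂ)) :
    ∃ χ : IrrCharacter G, classInner (resTo hNG (χ : G → ℂ)) (θ : N → ℂ) ≠ 0 ∧
      SInv G S (χ : G → ℂ) := by
  classical
  have hN' : (N.subgroupOf G).Normal := by
    refine ⟨fun n hn' g => ?_⟩
    exact Subgroup.mem_subgroupOf.mpr (hnNG g g.2 n (Subgroup.mem_subgroupOf.mp hn'))
  have hQ : ∀ a b : G ⧸ N.subgroupOf G, a * b = b * a := by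
    intro a b
    induction a using QuotientGroup.induction_on with
    | H x =>
      induction b using QuotientGroup.induction_on with
      | H y =>
        rw [← QuotientGroup.mk_mul, ← QuotientGroup.mk_mul, QuotientGroup.eq]
        have := hab y⁻¹ (G.inv_mem y.2) x⁻¹ (G.inv_mem x.2)
        rw [Subgroup.mem_subgroupOf]
        simpa [mul_assoc] using this
  have hne : Nonempty {χ : IrrCharacter G //
      classInner (resTo hNG (χ : G → ℂ)) (θ : N → ℂ) ≠ 0} := by
    obtain ⟨χ, hχ⟩ := exists_over hNG θ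
    exact ⟨⟨χ, hχ⟩⟩
  let φ : linOver G N →* Equiv.Perm {χ : IrrCharacter G //
      classInner (resTo hNG (χ : G → ℂ)) (θ : N → ℂ) ≠ 0} :=
    @MulAction.toPermHom _ _ _ (overTwistAct hNG (θ : N → ℂ))
  let ψ : S →* Equiv.Perm {χ : IrrCharacter G //
      classInner (resTo hNG (χ : G → ℂ)) (θ : N → ℂ) ≠ 0} :=
    @MulAction.toPermHom _ _ _ (overConjAct hNG hnG hnN θ hθ)
  have hφ : ∀ (l : linOver G N) (χ : {χ : IrrCharacter G //
      classInner (resTo hNG (χ : G → ℂ)) (θ : N → ℂ) ≠ 0}),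
      ((φ l χ).1 : IrrCharacter G) = ltw l.1 χ.1 := fun _ _ => rfl
  have hψ : ∀ (s : S) (χ : {χ : IrrCharacter G //
      classInner (resTo hNG (χ : G → ℂ)) (θ : N → ℂ) ≠ 0}),
      ((ψ s χ).1 : IrrCharacter G) = irrConj hnG s χ.1 := fun _ _ => rfl
  have hcompat : ∀ (b : S) (a : linOver G N), ∃ a' : linOver G N, ψ b * φ a = φ a' * ψ b := by
    intro s l
    refine ⟨⟨l.1.comp (cjEquiv hnG s).symm.toMonoidHom, ?_⟩, ?_⟩
    · intro g hg
      refine l.2 _ ?_
      show (((cjEquiv hnG s).symm g : G) : Γ) ∈ N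
      rw [cjEquiv_symm_coe]
      simpa using hnN (s : Γ)⁻¹ (S.inv_mem s.2) g hg
    · ext χ g
      rw [Equiv.Perm.mul_apply, Equiv.Perm.mul_apply, hψ, hφ, hφ, hψ]
      rfl
  have htrans : ∀ x y : {χ : IrrCharacter G //
      classInner (resTo hNG (χ : G → ℂ)) (θ : N → ℂ) ≠ 0}, ∃ a : linOver G N, φ a x = y := by
    intro x y
    letI : Fintype (N.subgroupOf G) := Fintype.ofFinite _
    let e : N.subgroupOf G ≃* N := Subgroup.subgroupOfEquivOfLe hNG
    have h1 : classInner (fun n : N.subgroupOf G => (x.1 : G → ℂ) n)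
        (fun n : N.subgroupOf G => (y.1 : G → ℂ) n) ≠ 0 := by
      have h2 := H6.classInner_comp_mulEquiv e (resTo hNG (x.1 : G → ℂ)) (resTo hNG (y.1 : G → ℂ))
      have h3 : classInner (fun n : N.subgroupOf G => (x.1 : G → ℂ) n)
          (fun n : N.subgroupOf G => (y.1 : G → ℂ) n) =
          classInner (resTo hNG (x.1 : G → ℂ)) (resTo hNG (y.1 : G → ℂ)) := h2
      rw [h3]
      exact classInner_ne_zero_of_common (isCharacter_resTo hNG (isCharacter_of_irr x.1.2))
        (isCharacter_resTo hNG (isCharacter_of_irr y.1.2)) θ x.2 y.2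
    obtain ⟨μ, hμ⟩ := exists_twist_eq (N.subgroupOf G) hQ x.1 y.1 h1
    have hμ1 : (μ : G ⧸ N.subgroupOf G → ℂ) 1 = 1 := L.irr_apply_one_of_comm hQ μ
    refine ⟨⟨(homOfLin μ hμ1).comp (QuotientGroup.mk' (N.subgroupOf G)), ?_⟩, ?_⟩
    · intro g hg
      rw [MonoidHom.comp_apply]
      have : QuotientGroup.mk' (N.subgroupOf G) g = 1 :=
        (QuotientGroup.eq_one_iff g).2 (Subgroup.mem_subgroupOf.2 hg)
      rw [this, map_one]
    · apply Subtype.ext
      apply Subtype.ext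
      rw [hφ, ← hμ]
      rfl
  obtain ⟨x, hx⟩ := glauberman_two φ ψ hcompat ⊥ bot_le
    (by rw [Subgroup.index_bot]; exact coprime_card_linOver hNG hnNG hcop)
    (Or.inl inferInstance) htrans
  refine ⟨x.1, x.2, ?_⟩
  exact (sInv_iff_irrConj hnG x.1).2 fun s => by rw [← hψ, hx]

end rel

end Cfsg.Agent.Lib.Helper10
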