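import Mathlib
import Cfsg.Agent.Lib.Helper10.InvOver

/-! Invariant characters over invariant characters: solvable quotient of coprime order. -/

set_option autoImplicit false
set_option linter.style.haveILetI false

namespace Cfsg.Agent.Lib.Helper10

open Cfsg Cfsg.Agent.CharLib Cfsg.Agent.Lib.Helper2
open scoped ComplexConjugate commutatorElement

variable {Γ : Type*} [Group Γ]

theorem nrm_comm_sup {G N T : Subgroup Γ} (h1 : Nrm G T) (h2 : Nrm N T) :
    Nrm (⁅G, G⁆ ⊔ N) T := by
  intro t ht x hx
  have h3 : (⁅G, G⁆ ⊔ N).map (MulAut.conj t).toMonoidHom ≤ ⁅G, G⁆ ⊔ N := by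
    rw [Subgroup.map_sup, Subgroup.map_commutator]
    refine sup_le_sup (Subgroup.commutator_mono ?_ ?_) ?_
    · rintro _ ⟨g, hg, rfl⟩
      exact h1 t ht g hg
    · rintro _ ⟨g, hg, rfl⟩
      exact h1 t ht g hg
    · rintro _ ⟨n, hn, rfl⟩
      exact h2 t ht n hn
  exact h3 ⟨x, hx, rfl⟩

theorem over_trans {G M N : Subgroup Γ} [Finite G] [Fintype M] [Fintype N] (hNM : N ≤ M) (hMG : M ≤ G)
    (χ : IrrCharacter G) (η : IrrCharacter M) (θ : IrrCharacter N)
    (h1 : classInner (resTo hMG (χ : G → ℂ)) (η : M → ℂ) ≠ 0)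
    (h2 : classInner (resTo hNM (η : M → ℂ)) (θ : N → ℂ) ≠ 0) :
    classInner (resTo (hNM.trans hMG) (χ : G → ℂ)) (θ : N → ℂ) ≠ 0 := by
  classical
  rw [classInner_resTo_trans hNM hMG χ θ]
  choose a ha using fun β : IrrCharacter M => GP.exists_mult hMG χ β
  choose b hb using fun β : IrrCharacter M => GP.exists_mult hNM β θ
  simp only [ha, hb]
  have h3 : a η ≠ 0 := by
    intro h
    apply h1
    rw [ha, h]
    simp
  have h4 : b η ≠ 0 := by
    intro h
    apply h2
    rw [hb, h]
    simp
  have h6 : a η * b η ≤ ∑ β : IrrCharacter M, a β * b β :=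
    Finset.single_le_sum (f := fun β => a β * b β) (fun _ _ => Nat.zero_le _) (Finset.mem_univ η)
  have h7 : 0 < a η * b η := Nat.mul_pos (Nat.pos_of_ne_zero h3) (Nat.pos_of_ne_zero h4)
  exact_mod_cast (lt_of_lt_of_le h7 h6).ne'

theorem exists_sInv_over_solv [Finite Γ] (n : ℕ) : ∀ (G N S : Subgroup Γ) [Fintype N],
    Nat.card G = n → Nrm G S → ∀ (hNG : N ≤ G) [hN' : (N.subgroupOf G).Normal], Nrm N S →
    (N.relIndex G).Coprime (Nat.card S) → Group.IsSolvable (G ⧸ N.subgroupOf G) →
    ∀ θ : IrrCharacter N, SInv N S (θ : N → ℂ) →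
    ∃ χ : IrrCharacter G, classInner (resTo hNG (χ : G → ℂ)) (θ : N → ℂ) ≠ 0 ∧
      SInv G S (χ : G → ℂ) := by
  induction n using Nat.strong_induction_on with
  | _ n ih =>
    intro G N S _ hGn hn hNG hN' hnNS hcop hsolv θ hθ
    letI := Fintype.ofFinite G
    have hnNG : Nrm N G := fun g hg n hn =>
      hN'.conj_mem ⟨n, hNG hn⟩ (Subgroup.mem_subgroupOf.2 hn) ⟨g, hg⟩
    by_cases hnt : Nontrivial (G ⧸ N.subgroupOf G)
    · set M := ⁅G, G⁆ ⊔ N with hM
      have hNM : N ≤ M := le_sup_right
      have hGG : ⁅G, G⁆ ≤ G := by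
        rw [Subgroup.commutator_le]
        intro a ha b hb
        rw [commutatorElement_def]
        exact G.mul_mem (G.mul_mem (G.mul_mem ha hb) (G.inv_mem ha)) (G.inv_mem hb)
      have hMG : M ≤ G := sup_le hGG hNG
      have hMne : M ≠ G := by
        intro hMG'
        have hlt := Group.IsSolvable.commutator_lt_top_of_nontrivial (G ⧸ N.subgroupOf G)
        apply hlt.ne
        rw [eq_top_iff]
        intro q _
        obtain ⟨g, rfl⟩ := QuotientGroup.mk'_surjective _ q
        have hg : (g : Γ) ∈ M := by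
          rw [hMG']
          exact g.2
        have key : M ≤ ((commutator (G ⧸ N.subgroupOf G)).comap
            (QuotientGroup.mk' (N.subgroupOf G))).map G.subtype := by
          refine sup_le ?_ ?_
          · rw [Subgroup.commutator_le]
            intro a ha b hb
            refine ⟨⁅(⟨a, ha⟩ : G), ⟨b, hb⟩⁆, ?_, rfl⟩
            rw [SetLike.mem_coe, Subgroup.mem_comap, map_commutatorElement]
            exact Subgroup.commutator_mem_commutator (Subgroup.mem_top _) (Subgroup.mem_top _)
          · intro x hx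
            refine ⟨⟨x, hNG hx⟩, ?_, rfl⟩
            rw [SetLike.mem_coe, Subgroup.mem_comap]
            have : QuotientGroup.mk' (N.subgroupOf G) ⟨x, hNG hx⟩ = 1 :=
              (QuotientGroup.eq_one_iff _).2 (Subgroup.mem_subgroupOf.2 hx)
            rw [this]
            exact one_mem _
        obtain ⟨g', hg', hgg'⟩ := key hg
        have : g' = g := Subtype.ext hgg'
        rw [← this]
        exact hg'
      have hlt : Nat.card M < n := by
        rw [← hGn]
        refine lt_of_le_of_ne (Nat.le_of_dvd Nat.card_pos (Subgroup.card_dvd_of_le hMG)) fun he => ?_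
        exact hMne (Subgroup.eq_of_le_of_card_ge hMG he.ge)
      have hnGG : Nrm G G := fun g hg x hx => G.mul_mem (G.mul_mem hg hx) (G.inv_mem hg)
      have hnMS : Nrm M S := nrm_comm_sup hn hnNS
      have hnMG : Nrm M G := nrm_comm_sup hnGG hnNG
      haveI hN'' : (N.subgroupOf M).Normal := by
        refine ⟨fun n hn' g => ?_⟩
        exact Subgroup.mem_subgroupOf.mpr (hnNG g (hMG g.2) n (Subgroup.mem_subgroupOf.mp hn'))
      have hmul := Subgroup.relIndex_mul_relIndex N M G hNM hMG
      have hcop1 : (N.relIndex M).Coprime (Nat.card S) :=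
        Nat.Coprime.coprime_dvd_left (Dvd.intro _ hmul) hcop
      have hcop2 : (M.relIndex G).Coprime (Nat.card S) :=
        Nat.Coprime.coprime_dvd_left (Dvd.intro_left _ hmul) hcop
      have hsolv1 : Group.IsSolvable (M ⧸ N.subgroupOf M) := by
        have hle : N.subgroupOf M ≤ (N.subgroupOf G).comap (Subgroup.inclusion hMG) := by
          intro x hx
          exact hx
        refine Group.isSolvable_of_isSolvable_injective
          (f := QuotientGroup.map (N.subgroupOf M) (N.subgroupOf G) (Subgroup.inclusion hMG) hle) ?_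
        rw [injective_iff_map_eq_one]
        intro q hq
        induction q using QuotientGroup.induction_on with
        | H x =>
          rw [QuotientGroup.map_mk, QuotientGroup.eq_one_iff] at hq
          exact (QuotientGroup.eq_one_iff x).2 hq
      letI := Fintype.ofFinite M
      obtain ⟨η, hη1, hη2⟩ := ih _ hlt M N S rfl hnMS hNM hnNS hcop1 hsolv1 θ hθ
      have hab : ∀ x ∈ G, ∀ y ∈ G, x * y * x⁻¹ * y⁻¹ ∈ M := by
        intro x hx y hy
        apply (le_sup_left : ⁅G, G⁆ ≤ M)
        rw [← commutatorElement_def]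
        exact Subgroup.commutator_mem_commutator hx hy
      obtain ⟨χ, hχ1, hχ2⟩ := exists_sInv_over_abelian hMG hn hnMG hnMS hab hcop2 η hη2
      exact ⟨χ, over_trans hNM hMG χ η θ hχ1 hη1, hχ2⟩
    · have hsub : Subsingleton (G ⧸ N.subgroupOf G) := not_nontrivial_iff_subsingleton.1 hnt
      have hall : ∀ x (hx : x ∈ G), x ∈ N := by
        intro x hx
        have : ((⟨x, hx⟩ : G) : G ⧸ N.subgroupOf G) = 1 := Subsingleton.elim _ _
        exact Subgroup.mem_subgroupOf.1 ((QuotientGroup.eq_one_iff _).1 this)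
      refine exists_sInv_over_abelian hNG hn hnNG hnNS (fun x hx y hy => hall _ ?_) hcop θ hθ
      exact G.mul_mem (G.mul_mem (G.mul_mem hx hy) (G.inv_mem hx)) (G.inv_mem hy)

end Cfsg.Agent.Lib.Helper10
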