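import Mathlib

/-!
Weighted fixed point congruence for `p`-group actions.
-/

set_option autoImplicit false

namespace Cfsg.Agent.Lib.Helper10

open Finset

open Classical in
theorem sum_modEq_sum_fixed {P X : Type*} [Group P] [Finite P] [MulAction P X] [Fintype X]
    (p : ℕ) [Fact p.Prime] (hP : IsPGroup p P) (f : X → ℕ) (hf : ∀ (g : P) (x : X), f (g • x) = f x) :
    (∑ x, (f x : ℤ)) ≡ ∑ x ∈ Finset.univ.filter (fun x => ∀ g : P, g • x = x), (f x : ℤ) [ZMOD p] := by
  have key : ∀ v : ℕ, ((univ.filter (fun x => f x = v)).card : ℤ) ≡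
      (((univ.filter (fun x => ∀ g : P, g • x = x)).filter (fun x => f x = v)).card : ℤ) [ZMOD p] := by
    intro v
    letI : MulAction P {x // f x = v} :=
      { smul := fun g x => ⟨g • x.1, (hf g x.1).trans x.2⟩
        one_smul := fun x => Subtype.ext (one_smul P x.1)
        mul_smul := fun g h x => Subtype.ext (mul_smul g h x.1) }
    have h1 := hP.card_modEq_card_fixedPoints {x // f x = v}
    have h2 : Nat.card {x // f x = v} = (univ.filter (fun x => f x = v)).card := by
      rw [Nat.card_eq_fintype_card, Fintype.card_subtype]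
    have h3 : Nat.card (MulAction.fixedPoints P {x // f x = v}) =
        ((univ.filter (fun x => ∀ g : P, g • x = x)).filter (fun x => f x = v)).card := by
      rw [Finset.filter_filter, ← Fintype.card_subtype, ← Nat.card_eq_fintype_card]
      apply Nat.card_congr
      refine ⟨fun x => ⟨x.1.1, fun g => congrArg Subtype.val (x.2 g), x.1.2⟩,
        fun x => ⟨⟨x.1, x.2.2⟩, fun g => Subtype.ext (x.2.1 g)⟩, fun x => rfl, fun x => rfl⟩
    rw [h2, h3] at h1
    exact (Int.natCast_modEq_iff).2 h1
  rw [Finset.sum_comp (fun b : ℕ => (b : ℤ)) f, Finset.sum_comp (fun b : ℕ => (b : ℤ)) f]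
  have hsub : (univ.filter (fun x => ∀ g : P, g • x = x)).image f ⊆ univ.image f :=
    Finset.image_subset_image (Finset.filter_subset _ _)
  have e2 : ∑ b ∈ (univ.filter (fun x => ∀ g : P, g • x = x)).image f,
      ((univ.filter (fun x => ∀ g : P, g • x = x)).filter (fun x => f x = b)).card • (b : ℤ) =
      ∑ b ∈ univ.image f,
        ((univ.filter (fun x => ∀ g : P, g • x = x)).filter (fun x => f x = b)).card • (b : ℤ) := by
    apply Finset.sum_subset hsub
    intro v _ hv
    have : ((univ.filter (fun x => ∀ g : P, g • x = x)).filter (fun x => f x = v)) = ∅ := by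
      rw [Finset.filter_eq_empty_iff]
      intro x hx hfx
      exact hv (Finset.mem_image.2 ⟨x, hx, hfx⟩)
    rw [this]; simp
  rw [e2]
  apply Int.ModEq.sum
  intro v _
  simp only [nsmul_eq_mul]
  exact (key v).mul_right _

end Cfsg.Agent.Lib.Helper10
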