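import Mathlib
import Cfsg.Prelude.Def_LocalStructure
import Cfsg.Agent.Lib.Helper8.PResidual
import Cfsg.Agent.Fus.Embedded

/-!
# `p`-closed groups, elementwise, and passage to the quotient by a normal `p`-subgroup
-/

set_option autoImplicit false

namespace Cfsg.Agent.Lib.Helper10.PIrrQuot

variable {p : ℕ} [Fact p.Prime]

theorem isPClosed_iff_mul {X : Type*} [Group X] [Finite X] :
    Cfsg.IsPClosed p X ↔ ∀ x y : X, (∃ k : ℕ, x ^ p ^ k = 1) → (∃ k : ℕ, y ^ p ^ k = 1) →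
      ∃ k : ℕ, (x * y) ^ p ^ k = 1 := by
  constructor
  · intro h x y hx hy
    obtain ⟨P⟩ : Nonempty (Sylow p X) := inferInstance
    have hP := h P
    have key : ∀ z : X, (∃ k : ℕ, z ^ p ^ k = 1) → z ∈ (P : Subgroup X) := by
      rintro z ⟨k, hk⟩
      have hz : IsPGroup p (Subgroup.zpowers z) := by
        rintro ⟨y, hy⟩
        obtain ⟨n, rfl⟩ := Subgroup.mem_zpowers_iff.1 hy
        refine ⟨k, Subtype.ext ?_⟩
        show (z ^ n) ^ p ^ k = 1
        rw [← zpow_natCast, ← zpow_mul, mul_comm, zpow_mul, zpow_natCast, hk, one_zpow]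
      obtain ⟨Q, hQ⟩ := hz.exists_le_sylow
      haveI := Sylow.unique_of_normal P hP
      have : Q = P := Subsingleton.elim _ _
      rw [← this]
      exact hQ (Subgroup.mem_zpowers z)
    have h1 := mul_mem (key x hx) (key y hy)
    obtain ⟨k, hk⟩ := P.2 ⟨x * y, h1⟩
    exact ⟨k, by simpa using congrArg Subtype.val hk⟩
  · intro h P
    let R : Subgroup X :=
      { carrier := {x | ∃ k : ℕ, x ^ p ^ k = 1}
        mul_mem' := fun hx hy => h _ _ hx hy
        one_mem' := ⟨0, by simp⟩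
        inv_mem' := fun ⟨k, hk⟩ => ⟨k, by simp [hk]⟩ }
    have hR : IsPGroup p R := fun ⟨x, k, hk⟩ => ⟨k, Subtype.ext (by simpa using hk)⟩
    have hPR : (P : Subgroup X) ≤ R := fun x hx => by
      obtain ⟨k, hk⟩ := P.2 ⟨x, hx⟩
      exact ⟨k, by simpa using congrArg Subtype.val hk⟩
    have h1 : R = P := P.3 hR hPR
    rw [← h1]
    constructor
    rintro n ⟨k, hk⟩ g
    exact ⟨k, by rw [conj_pow, hk]; simp⟩

theorem isPClosed_subgroup_iff {X : Type*} [Group X] [Finite X] (N : Subgroup X) :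
    Cfsg.IsPClosed p ↥N ↔ ∀ x ∈ N, ∀ y ∈ N, (∃ k : ℕ, x ^ p ^ k = 1) → (∃ k : ℕ, y ^ p ^ k = 1) →
      ∃ k : ℕ, (x * y) ^ p ^ k = 1 := by
  rw [isPClosed_iff_mul]
  constructor
  · intro h x hx y hy ⟨k, hk⟩ ⟨l, hl⟩
    obtain ⟨m, hm⟩ := h ⟨x, hx⟩ ⟨y, hy⟩ ⟨k, Subtype.ext (by simpa using hk)⟩
      ⟨l, Subtype.ext (by simpa using hl)⟩
    exact ⟨m, by simpa using congrArg Subtype.val hm⟩
  · rintro h ⟨x, hx⟩ ⟨y, hy⟩ ⟨k, hk⟩ ⟨l, hl⟩
    obtain ⟨m, hm⟩ := h x hx y hy ⟨k, by simpa using congrArg Subtype.val hk⟩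
      ⟨l, by simpa using congrArg Subtype.val hl⟩
    exact ⟨m, Subtype.ext (by simpa using hm)⟩

section quot
variable {H : Type*} [Group H] [Finite H] (D : Subgroup H) [D.Normal]

theorem pel_mk_iff (hD : IsPGroup p ↥D) (x : H) :
    (∃ k : ℕ, (QuotientGroup.mk' D x) ^ p ^ k = 1) ↔ ∃ k : ℕ, x ^ p ^ k = 1 := by
  constructor
  · rintro ⟨k, hk⟩
    rw [← map_pow] at hk
    have h1 : x ^ p ^ k ∈ D := by
      rw [← QuotientGroup.ker_mk' D]; exact hk
    obtain ⟨l, hl⟩ := hD ⟨_, h1⟩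
    refine ⟨k + l, ?_⟩
    have := congrArg Subtype.val hl
    rw [pow_add, pow_mul]
    simpa using this
  · rintro ⟨k, hk⟩
    exact ⟨k, by rw [← map_pow, hk, map_one]⟩

theorem isPClosed_quot_iff (hD : IsPGroup p ↥D) :
    Cfsg.IsPClosed p H ↔ Cfsg.IsPClosed p (H ⧸ D) := by
  rw [isPClosed_iff_mul, isPClosed_iff_mul]
  constructor
  · intro h x y
    obtain ⟨x, rfl⟩ := QuotientGroup.mk'_surjective D x
    obtain ⟨y, rfl⟩ := QuotientGroup.mk'_surjective D y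
    rw [← map_mul, pel_mk_iff D hD, pel_mk_iff D hD, pel_mk_iff D hD]
    exact h x y
  · intro h x y
    have := h (QuotientGroup.mk' D x) (QuotientGroup.mk' D y)
    rw [← map_mul, pel_mk_iff D hD, pel_mk_iff D hD, pel_mk_iff D hD] at this
    exact this

theorem isPClosed_map_iff (hD : IsPGroup p ↥D) (N : Subgroup H) :
    Cfsg.IsPClosed p ↥N ↔ Cfsg.IsPClosed p ↥(N.map (QuotientGroup.mk' D)) := by
  rw [isPClosed_subgroup_iff, isPClosed_subgroup_iff]
  constructor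
  · rintro h _ ⟨x, hx, rfl⟩ _ ⟨y, hy, rfl⟩
    rw [← map_mul, pel_mk_iff D hD, pel_mk_iff D hD, pel_mk_iff D hD]
    exact h x hx y hy
  · intro h x hx y hy
    have := h (QuotientGroup.mk' D x) ⟨x, hx, rfl⟩ (QuotientGroup.mk' D y) ⟨y, hy, rfl⟩
    rw [← map_mul, pel_mk_iff D hD, pel_mk_iff D hD, pel_mk_iff D hD] at this
    exact this

omit [Fact p.Prime] in
theorem pResidual_quot_le (hp : p.Prime) :
    Cfsg.pResidual p (H ⧸ D) ≤ (Cfsg.pResidual p H).map (QuotientGroup.mk' D) := by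
  conv_lhs => unfold Cfsg.pResidual
  rw [Subgroup.closure_le]
  intro g hg
  have hg' : Nat.Coprime (orderOf g) p := hg
  obtain ⟨x, rfl⟩ := QuotientGroup.mk'_surjective D g
  obtain ⟨e, he⟩ := Cfsg.Agent.Lib.Helper8.exists_pow_mem_pResidual hp x
  obtain ⟨m, hm⟩ := exists_pow_eq_self_of_coprime (x := QuotientGroup.mk' D x) (n := p ^ e)
    (Nat.Coprime.pow_left e hg'.symm)
  show QuotientGroup.mk' D x ∈ _
  rw [← hm]
  have h7 : (QuotientGroup.mk' D x) ^ p ^ e ∈ (Cfsg.pResidual p H).map (QuotientGroup.mk' D) :=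
    ⟨_, he, by rw [map_pow]⟩
  exact pow_mem h7 m

/-- if `O^p(H/D) ≤ ND/D` with `N` normal and `D` a `p`-group then `O^p(H) ≤ N`. -/
theorem pResidual_le_of_quot (hD : IsPGroup p ↥D) (N : Subgroup H) [N.Normal]
    (h : Cfsg.pResidual p (H ⧸ D) ≤ N.map (QuotientGroup.mk' D)) : Cfsg.pResidual p H ≤ N := by
  conv_lhs => unfold Cfsg.pResidual
  rw [Subgroup.closure_le]
  intro g hg
  have hg' : Nat.Coprime (orderOf g) p := hg
  have h1 : QuotientGroup.mk' D g ∈ Cfsg.pResidual p (H ⧸ D) := by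
    apply Cfsg.Agent.Lib.Helper8.mem_pResidual_of_coprime
    exact Nat.Coprime.coprime_dvd_left (orderOf_map_dvd _ g) hg'
  obtain ⟨n, hn, hng⟩ := h h1
  have h2 : n⁻¹ * g ∈ D := by
    rw [← QuotientGroup.ker_mk' D, MonoidHom.mem_ker, map_mul, map_inv, hng, inv_mul_cancel]
  obtain ⟨k, hk⟩ := hD ⟨_, h2⟩
  have hk' : (n⁻¹ * g) ^ p ^ k = 1 := by simpa using congrArg Subtype.val hk
  have h3 : QuotientGroup.mk' N g = QuotientGroup.mk' N (n⁻¹ * g) := by
    rw [map_mul, map_inv]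
    have : QuotientGroup.mk' N n = 1 := by
      rw [← MonoidHom.mem_ker, QuotientGroup.ker_mk']; exact hn
    rw [this, inv_one, one_mul]
  have h4 : orderOf (QuotientGroup.mk' N g) ∣ p ^ k := by
    apply orderOf_dvd_of_pow_eq_one
    rw [h3, ← map_pow, hk', map_one]
  have h5 : orderOf (QuotientGroup.mk' N g) ∣ orderOf g := orderOf_map_dvd _ g
  have h6 : QuotientGroup.mk' N g = 1 :=
    orderOf_eq_one_iff.mp (Nat.eq_one_of_dvd_coprimes (Nat.Coprime.pow_right k hg') h5 h4)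
  rw [← MonoidHom.mem_ker, QuotientGroup.ker_mk'] at h6
  exact h6

theorem transfer (hD : IsPGroup p ↥D) (C : Subgroup H → Prop) (C' : Subgroup (H ⧸ D) → Prop)
    (hC : ∀ N, C N ↔ C' (N.map (QuotientGroup.mk' D))) :
    (∀ N : Subgroup H, N.Normal → C N → Cfsg.pResidual p H ≤ N) ↔
      (∀ N : Subgroup (H ⧸ D), N.Normal → C' N → Cfsg.pResidual p (H ⧸ D) ≤ N) := by
  constructor
  · intro h N hN hCN
    have h1 : (N.comap (QuotientGroup.mk' D)).map (QuotientGroup.mk' D) = N :=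
      Subgroup.map_comap_eq_self_of_surjective (QuotientGroup.mk'_surjective D) N
    have h2 := h (N.comap (QuotientGroup.mk' D)) (hN.comap _) ((hC _).2 (by rw [h1]; exact hCN))
    calc Cfsg.pResidual p (H ⧸ D) ≤ (Cfsg.pResidual p H).map (QuotientGroup.mk' D) :=
          pResidual_quot_le D Fact.out
      _ ≤ (N.comap (QuotientGroup.mk' D)).map (QuotientGroup.mk' D) := Subgroup.map_mono h2
      _ = N := h1
  · intro h N hN hCN
    haveI := hN
    exact pResidual_le_of_quot D hD N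
      (h _ (hN.map _ (QuotientGroup.mk'_surjective D)) ((hC N).1 hCN))

theorem comap_pCore_quot (hD : IsPGroup p ↥D) :
    (Cfsg.pCore p (H ⧸ D)).comap (QuotientGroup.mk' D) = Cfsg.pCore p H := by
  apply le_antisymm
  · apply Cfsg.Agent.Fus.le_pCore ((Cfsg.Agent.Fus.pCore_normal' p (H ⧸ D)).comap _)
    rintro ⟨x, hx⟩
    have hx' : QuotientGroup.mk' D x ∈ Cfsg.pCore p (H ⧸ D) := hx
    obtain ⟨k, hk⟩ := (Cfsg.Agent.Fus.pCore_isPGroup (p := p) (X := H ⧸ D)) ⟨_, hx'⟩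
    obtain ⟨l, hl⟩ := (pel_mk_iff D hD x).1 ⟨k, by simpa using congrArg Subtype.val hk⟩
    exact ⟨l, Subtype.ext (by simpa using hl)⟩
  · rw [← Subgroup.map_le_iff_le_comap]
    apply Cfsg.Agent.Fus.le_pCore
      ((Cfsg.Agent.Fus.pCore_normal' p H).map _ (QuotientGroup.mk'_surjective D))
    exact (Cfsg.Agent.Fus.pCore_isPGroup (p := p) (X := H)).map _

theorem comm_le_pCore_iff (hD : IsPGroup p ↥D) (N : Subgroup H) :
    ⁅N, (⊤ : Subgroup H)⁆ ≤ Cfsg.pCore p H ↔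
      ⁅N.map (QuotientGroup.mk' D), (⊤ : Subgroup (H ⧸ D))⁆ ≤ Cfsg.pCore p (H ⧸ D) := by
  have h1 : (⊤ : Subgroup (H ⧸ D)) = (⊤ : Subgroup H).map (QuotientGroup.mk' D) := by
    rw [← MonoidHom.range_eq_map, MonoidHom.range_eq_top.2 (QuotientGroup.mk'_surjective D)]
  rw [h1, ← Subgroup.map_commutator, Subgroup.map_le_iff_le_comap, comap_pCore_quot D hD]

end quot

end Cfsg.Agent.Lib.Helper10.PIrrQuot
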