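import Mathlib
import Cfsg.Prelude.Def_CharExt
import Cfsg.Agent.Lib.Helper10.PAction
import Cfsg.Agent.Lib.Helper10.CohExt
import Cfsg.Agent.Lib.Helper16.MinOver
import Cfsg.Agent.Lib.Helper23.DegLib
import Cfsg.Agent.CharLib.Clifford
import Cfsg.Agent.H6.Det
import Cfsg.Agent.S0867
import Cfsg.Agent.S0887

/-!
Characters of `G` and of `O^p(G)` (Isaacs, Theorem 12.1).
-/

set_option autoImplicit false

universe u

namespace Cfsg.Agent.Lib.Helper10

open Cfsg Cfsg.Agent.CharLib Cfsg.Agent.CharLib.H2 Cfsg.Agent.Lib.Helper16 Cfsg.Agent.Lib.Helper23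

section

variable {G : Type u} [Group G] [Finite G] (p : ℕ) [hp : Fact p.Prime]

/-- homomorphisms of `O^p(G)` to `ℂˣ` have order prime to `p` -/
theorem hom_pResidual_pow (D : ↥(pResidual p G) →* ℂˣ) (x : ↥(pResidual p G)) :
    D x ^ (ordCompl[p] (Nat.card G)) = 1 := by
  set m := ordCompl[p] (Nat.card G) with hm
  let U : Subgroup G := (((powMonoidHom m : ℂˣ →* ℂˣ).comp D).ker).map (pResidual p G).subtype
  have hle : pResidual p G ≤ U := by
    conv_lhs => unfold pResidual
    rw [Subgroup.closure_le]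
    intro g hg
    have hgN : g ∈ pResidual p G := mem_pResidual_of_coprime hg
    refine ⟨⟨g, hgN⟩, ?_, rfl⟩
    have h1 : orderOf g ∣ m := by
      have h2 : orderOf g ∣ p ^ (Nat.card G).factorization p * m := by
        rw [hm, Nat.ordProj_mul_ordCompl_eq_self]
        exact orderOf_dvd_natCard g
      exact (Nat.Coprime.pow_right _ hg).dvd_of_dvd_mul_left h2
    show ((powMonoidHom m : ℂˣ →* ℂˣ).comp D) ⟨g, hgN⟩ = 1
    rw [MonoidHom.comp_apply, powMonoidHom_apply, ← map_pow]
    have h3 : (⟨g, hgN⟩ : ↥(pResidual p G)) ^ m = 1 := by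
      apply Subtype.ext
      exact orderOf_dvd_iff_pow_eq_one.1 h1
    rw [h3, map_one]
  obtain ⟨y, hy, hyx⟩ := hle x.2
  have : y = x := Subtype.ext hyx
  rw [← this]
  exact hy

theorem not_dvd_detOrder_pResidual {θ : ↥(pResidual p G) → ℂ} (hθ : IsCharacter _ θ) :
    ¬ p ∣ detOrder θ := by
  obtain ⟨D, hD⟩ := Cfsg.Agent.H6.exists_detHom hθ
  have h1 : detChar θ ^ (ordCompl[p] (Nat.card G)) = 1 := by
    funext x
    rw [Pi.pow_apply, ← hD x, ← Units.val_pow_eq_pow_val, hom_pResidual_pow p D x]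
    rfl
  have h2 : detOrder θ ∣ ordCompl[p] (Nat.card G) := orderOf_dvd_of_pow_eq_one h1
  intro h
  exact Nat.not_dvd_ordCompl hp.out Nat.card_pos.ne' (h.trans h2)

theorem index_pResidual : ∃ k : ℕ, (pResidual p G).index = p ^ k := by
  obtain ⟨k, hk⟩ := IsPGroup.iff_card.1 (quotient_pResidual_isPGroup (G := G) (p := p))
  exact ⟨k, by rw [Subgroup.index_eq_card, hk]⟩

end

section act

variable {G : Type u} [Group G] {N : Subgroup G} (hN : N.Normal)

/-- the conjugation action on the irreducible characters of a normal subgroup -/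
@[instance_reducible] def irrAction : MulAction G (IrrCharacter N) where
  smul g θ := ⟨H2.conjFun hN θ g⁻¹, isIrrCharacter_conjFun hN θ.2 g⁻¹⟩
  one_smul θ := Subtype.ext (by
    show H2.conjFun hN θ (1 : G)⁻¹ = θ
    rw [inv_one, conjFun_one])
  mul_smul g h θ := Subtype.ext (by
    show H2.conjFun hN θ (g * h)⁻¹ = H2.conjFun hN (H2.conjFun hN θ h⁻¹) g⁻¹
    rw [conjFun_conjFun, mul_inv_rev])

end act

section main

variable {G : Type u} [Group G] [Fintype G] (p : ℕ) [hp : Fact p.Prime]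

open Classical in
/-- `|O^p(G)|` is congruent to the sum of the squares of the degrees of the `G`-invariant irreducible characters
of degree prime to `p` -/
theorem card_pResidual_modEq :
    (Nat.card (pResidual p G) : ℤ) ≡ ∑ θ ∈ Finset.univ.filter (fun θ : IrrCharacter ↥(pResidual p G) =>
      (∀ g : G, H2.conjFun (pResidual_normal (G := G) (p := p)) (θ : ↥(pResidual p G) → ℂ) g = θ) ∧
        ¬ p ∣ charDegree (θ : ↥(pResidual p G) → ℂ)), (charDegree (θ : ↥(pResidual p G) → ℂ) : ℤ) ^ 2 [ZMOD p] := by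
  set hN := (pResidual_normal (G := G) (p := p)) with hhN
  obtain ⟨P⟩ : Nonempty (Sylow p G) := inferInstance
  letI := irrAction hN
  have h1 := sum_modEq_sum_fixed (P := ↥(P : Subgroup G)) (X := IrrCharacter ↥(pResidual p G)) p P.2
    (fun θ => charDegree (θ : ↥(pResidual p G) → ℂ) ^ 2) (by
      intro g θ
      have : ((g • θ : IrrCharacter ↥(pResidual p G)) : ↥(pResidual p G) → ℂ) 1 = (θ : ↥(pResidual p G) → ℂ) 1 := by
        show H2.conjFun hN θ ((g : G))⁻¹ 1 = _
        rw [conjFun_apply]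
        exact congrArg (θ : ↥(pResidual p G) → ℂ) (Subtype.ext (by simp))
      simp only [charDegree, this])
  have h2 : (∑ θ : IrrCharacter ↥(pResidual p G), ((charDegree (θ : ↥(pResidual p G) → ℂ) ^ 2 : ℕ) : ℤ)) =
      (Nat.card (pResidual p G) : ℤ) := by
    rw [← sum_charDegree_sq (G := ↥(pResidual p G))]
    push_cast; rfl
  rw [h2] at h1
  obtain ⟨s, hs, h1'⟩ : ∃ s : Finset (IrrCharacter ↥(pResidual p G)),
      (∀ θ, θ ∈ s ↔ ∀ g : ↥(P : Subgroup G), g • θ = θ) ∧
      (Nat.card (pResidual p G) : ℤ) ≡ ∑ x ∈ s, ((charDegree (x : ↥(pResidual p G) → ℂ) ^ 2 : ℕ) : ℤ) [ZMOD p] :=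
    ⟨_, fun θ => by simp, h1⟩
  refine h1'.trans ?_
  have hfix : ∀ θ : IrrCharacter ↥(pResidual p G), (∀ g : ↥(P : Subgroup G), g • θ = θ) ↔
      ∀ g : G, H2.conjFun hN (θ : ↥(pResidual p G) → ℂ) g = θ := by
    intro θ
    constructor
    · intro h g
      have hg : g ∈ pResidual p G ⊔ (P : Subgroup G) := by rw [pResidual_sup_sylow]; trivial
      rw [← SetLike.mem_coe, Subgroup.normal_mul] at hg
      obtain ⟨n, hn, x, hx, rfl⟩ := Set.mem_mul.1 hg
      rw [← conjFun_conjFun, conjFun_of_mem hN (isClassFunction_of_irr θ.2) hn]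
      have := congrArg Subtype.val (h ⟨x⁻¹, (P : Subgroup G).inv_mem hx⟩)
      have h3 : H2.conjFun hN (θ : ↥(pResidual p G) → ℂ) (x⁻¹)⁻¹ = θ := this
      rwa [inv_inv] at h3
    · intro h g
      exact Subtype.ext (h _)
  have h3 : s =
      Finset.univ.filter (fun θ : IrrCharacter ↥(pResidual p G) =>
        ∀ g : G, H2.conjFun hN (θ : ↥(pResidual p G) → ℂ) g = θ) := by
    ext θ
    rw [hs, hfix]
    simp
  rw [h3, ← Finset.filter_filter, Finset.sum_filter (fun θ : IrrCharacter ↥(pResidual p G) =>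
    ¬ p ∣ charDegree (θ : ↥(pResidual p G) → ℂ))]
  apply Int.ModEq.sum
  intro θ _
  by_cases h : p ∣ charDegree (θ : ↥(pResidual p G) → ℂ)
  · rw [if_neg (not_not.2 h)]
    rw [Int.modEq_zero_iff_dvd]
    push_cast
    exact Dvd.dvd.pow (by exact_mod_cast h) two_ne_zero
  · rw [if_pos h]
    push_cast
    rfl

end main

end Cfsg.Agent.Lib.Helper10
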