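import Mathlib
import Cfsg.Prelude.Def_Local
import Cfsg.Agent.H1.Compl

/-! Finite solvable groups are `p`-solvable. -/

set_option autoImplicit false

namespace Cfsg.Agent.Lib.Helper10

open Subgroup

theorem isPSolvable_of_quotient_of_or {G : Type*} [Group G] {p : ℕ} (K : Subgroup G) [K.Normal]
    (hK : (∃ m : ℕ, Nat.card K = p ^ m) ∨ (Nat.card K).Coprime p)
    (hs : Cfsg.IsPSolvable p (G ⧸ K)) : Cfsg.IsPSolvable p G := by
  obtain ⟨n, H, h0, hn, hmono, hnorm, hstep⟩ := hs
  have hsurj := QuotientGroup.mk'_surjective K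
  refine ⟨n + 1, Fin.cons ⊥ (fun i => (H i).comap (QuotientGroup.mk' K)), ?_, ?_, ?_, ?_, ?_⟩
  · rfl
  · rw [← Fin.succ_last, Fin.cons_succ, hn, comap_top]
  · rw [Fin.monotone_iff_le_succ]
    intro i
    refine Fin.cases ?_ (fun j => ?_) i
    · exact bot_le
    · rw [← Fin.succ_castSucc, Fin.cons_succ, Fin.cons_succ]
      exact comap_mono (hmono (Fin.castSucc_le_succ j))
  · intro i
    refine Fin.cases ?_ (fun j => ?_) i
    · exact (inferInstance : (⊥ : Subgroup G).Normal)
    · rw [Fin.cons_succ]
      haveI := hnorm j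
      infer_instance
  · intro i
    refine Fin.cases ?_ (fun j => ?_) i
    · rw [Fin.cons_succ, h0]
      show (∃ m : ℕ, (⊥ : Subgroup G).relIndex _ = p ^ m) ∨ ((⊥ : Subgroup G).relIndex _).Coprime p
      rw [relIndex_bot_left, MonoidHom.comap_bot, QuotientGroup.ker_mk']
      exact hK
    · rw [← Fin.succ_castSucc, Fin.cons_succ, Fin.cons_succ, relIndex_comap,
        map_comap_eq_self_of_surjective hsurj]
      exact hstep j

theorem isPSolvable_of_subsingleton {G : Type*} [Group G] [Subsingleton G] (p : ℕ) :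
    Cfsg.IsPSolvable p G := by
  refine ⟨0, fun _ => ⊥, rfl, (Subsingleton.elim _ _), fun _ _ _ => le_rfl,
    fun _ => inferInstance, fun i => i.elim0⟩

universe u

theorem isPSolvable_of_isSolvable_aux (p : ℕ) (hp : p.Prime) (n : ℕ) :
    ∀ (G : Type u) [Group G] [Finite G], Nat.card G = n → Group.IsSolvable G →
      Cfsg.IsPSolvable p G := by
  induction n using Nat.strong_induction_on with
  | _ n ih =>
    intro G _ _ hn h
    rcases subsingleton_or_nontrivial G with hG | hG
    · exact isPSolvable_of_subsingleton p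
    · have := h
      obtain ⟨q, A, hq, hAn, -, hAbot, -, hAq⟩ := Cfsg.H1.exists_normal_elemAb_le (⊤ : Subgroup G)
        inferInstance top_ne_bot
      have hAqg : IsPGroup q A := by
        intro g
        exact ⟨1, by rw [pow_one]; exact Subtype.ext (hAq g g.2)⟩
      have : Fact q.Prime := ⟨hq⟩
      obtain ⟨k, hk⟩ := IsPGroup.iff_card.1 hAqg
      have hlt : Nat.card (G ⧸ A) < n := by
        rw [← hn, Subgroup.card_eq_card_quotient_mul_card_subgroup A]
        have h1 := (Subgroup.one_lt_card_iff_ne_bot A).2 hAbot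
        have h2 : 0 < Nat.card (G ⧸ A) := Nat.card_pos
        nlinarith
      refine isPSolvable_of_quotient_of_or A ?_ (ih _ hlt (G ⧸ A) rfl inferInstance)
      by_cases hqp : q = p
      · left
        exact ⟨k, by rw [hk, hqp]⟩
      · right
        rw [hk]
        exact Nat.Coprime.pow_left k ((Nat.coprime_primes hq hp).2 hqp)

theorem isPSolvable_of_isSolvable {G : Type u} [Group G] [Finite G] [h : Group.IsSolvable G]
    (p : ℕ) (hp : p.Prime) : Cfsg.IsPSolvable p G :=
  isPSolvable_of_isSolvable_aux p hp _ G rfl h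

end Cfsg.Agent.Lib.Helper10
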