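import Mathlib
import Cfsg.Agent.H25.BlockSum2
import Cfsg.Agent.H25.Codeg2
import Cfsg.Agent.S0967
import Cfsg.Agent.S0915
import Cfsg.Agent.H9.Cores
import Cfsg.Agent.H20.PSolvHall

/-!
# The principal block of a `p`-solvable group
-/

set_option autoImplicit false

namespace Cfsg.Agent.Lib.Helper10

open Cfsg

universe u

variable {G : Type u} [Group G] [Finite G]

/-- Characters of the principal block contain `O_{p'}(G)` in their kernel. -/
theorem pPrimeCore_le_ker_of_mem_principalBlock (p : ℕ) [Fact p.Prime] (M : Ideal Cfsg.AlgInt)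
    (hM : Cfsg.IsPModular p M) (ψ : IrrCharacter G) (hψ : ψ ∈ principalBlock M G) :
    ∀ n ∈ Cfsg.pPrimeCore p G, (ψ : G → ℂ) n = (ψ : G → ℂ) 1 := by
  have hKp : ¬ p ∣ Nat.card (Cfsg.pPrimeCore p G) := by
    intro h
    have h1 := Nat.Coprime.eq_one_of_dvd (Cfsg.H9.pPrimeCore_coprime (G := G) p).symm h
    exact (Fact.out : p.Prime).one_lt.ne' h1
  let χ₀ : Cfsg.IrrCharacter (G ⧸ Cfsg.pPrimeCore p G) := ⟨fun _ => 1, CharLib.isIrrCharacter_one⟩
  obtain ⟨ψ', hψ', -⟩ := Cfsg.Agent.S0967.result p M hM (Cfsg.pPrimeCore p G) hKp χ₀ ψ hψ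
  intro n hn
  rw [hψ']
  simp only [Function.comp]
  rw [(QuotientGroup.eq_one_iff n).2 hn]; rfl

theorem principalBlock_eq_of_isPSolvable (p : ℕ) [Fact p.Prime] (M : Ideal Cfsg.AlgInt)
    (hM : Cfsg.IsPModular p M) (hs : Cfsg.IsPSolvable p G) :
    Cfsg.principalBlock M G =
      {χ : Cfsg.IrrCharacter G | ∀ n ∈ Cfsg.pPrimeCore p G, (χ : G → ℂ) n = (χ : G → ℂ) 1} := by
  classical
  have hprime : M.IsPrime := BlockLib.isPrime_of_isPModular hM
  let χ₀ : Cfsg.IrrCharacter (G ⧸ Cfsg.pPrimeCore p G) := ⟨fun _ => 1, CharLib.isIrrCharacter_one⟩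
  ext ψ
  constructor
  · exact pPrimeCore_le_ker_of_mem_principalBlock p M hM ψ
  · intro hψ
    obtain ⟨ψ', hψ'⟩ := H25.exists_quotient_irr ψ (Cfsg.pPrimeCore p G) (fun n hn => hψ n hn)
    have h1 := Cfsg.Agent.S0915.result p M hM
      (Cfsg.Agent.H20.isPSolvable_quotient Fact.out hs (Cfsg.pPrimeCore p G))
      (Cfsg.H9.pPrimeCore_quotient p) χ₀ ψ'
    have h2 := H25.sameBlock_inflation (Cfsg.pPrimeCore p G) h1
    have e : (ψ' : G ⧸ Cfsg.pPrimeCore p G → ℂ) ∘ QuotientGroup.mk = (ψ : G → ℂ) := funext hψ'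
    rw [e] at h2
    exact h2

theorem one_mem_principalBlock (M : Ideal Cfsg.AlgInt) (hM : M ≠ ⊤) :
    (⟨fun _ => 1, CharLib.isIrrCharacter_one⟩ : IrrCharacter G) ∈ principalBlock M G := by
  intro g
  simpa using BlockLib.memLocalIdeal_zero hM

/-- heights in the principal block. -/
theorem blockHeight_principalBlock (p : ℕ) (M : Ideal Cfsg.AlgInt) (hM : M ≠ ⊤) (χ : G → ℂ) :
    blockHeight p (principalBlock M G) χ = (charDegree χ).factorization p := by
  unfold blockHeight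
  have h0 : sInf ((fun ψ : IrrCharacter G => (charDegree (ψ : G → ℂ)).factorization p) ''
      (principalBlock M G)) = 0 := by
    rw [Nat.sInf_eq_zero]
    left
    refine ⟨_, one_mem_principalBlock M hM, ?_⟩
    have : charDegree (fun _ : G => (1 : ℂ)) = 1 := by
      unfold charDegree; simp
    show (charDegree (fun _ : G => (1 : ℂ))).factorization p = 0
    rw [this]; simp
  rw [h0, Nat.sub_zero]

end Cfsg.Agent.Lib.Helper10
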